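import Cfsg.Agent.TenLocal.Count

/-!
# All self-centralising elementary groups of order `2 ^ 10` are conjugate
-/

set_option autoImplicit false
set_option maxRecDepth 8000

open Cfsg Subgroup
open scoped Pointwise

namespace Cfsg.Agent.TenLocal

open LargeExtra (oc)
open LargeFischer (W11 pt IsDuad bv)
open J4Type (mSub)
open J4Type.V11
open Oct

theorem e_cases {i : ℕ} (hi : i < 4) :
    eB.getD i 0 < 2048 ∧ mapp (matOf (rC (2 ^ i))) (eB.getD i 0) = eB.getD i 0 ∧
    (∀ j < 4, j ≠ i → mapp (matOf (rC (2 ^ j))) (eB.getD i 0) ≠ eB.getD i 0) ∧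
    Oct.inU (eB.getD i 0 ^^^ Oct.comR (2 ^ i) wTop) = true ∧ wTop < 2048 ∧
    (∀ v < 2048, mapp (matOf (rC (2 ^ i))) v = v → Oct.inU v = true ∨ Oct.inU (v ^^^ eB.getD i 0) = true) := by
  have he := e_ok
  simp only [Oct.eB', Bool.and_eq_true] at he
  obtain ⟨⟨⟨h1, -⟩, h3⟩, h4⟩ := he
  have a := Compute.allBelow_eq_true.1 h1 i hi
  simp only [Bool.and_eq_true, Nat.blt_eq, Nat.beq_eq] at a
  obtain ⟨⟨⟨⟨a1, -⟩, a2⟩, a3⟩, a4⟩ := a
  rw [Nat.blt_eq] at h4
  refine ⟨a1, (Nat.xor_eq_zero_iff.1 a2).symm, fun j hj hji hh => ?_, a4, h4, fun v hv hh => ?_⟩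
  · have := Compute.allBelow_eq_true.1 a3 j hj
    rw [Bool.or_eq_true, Nat.beq_eq, Bool.not_eq_true', ← Bool.not_eq_true, Nat.beq_eq] at this
    refine this.resolve_left (fun e => hji e.symm) ?_
    show eB.getD i 0 ^^^ mapp (matOf (rC (2 ^ j))) (eB.getD i 0) = 0
    rw [hh, Nat.xor_self]
  · have := Compute.allBelow_eq_true.1 (Compute.allBelow_eq_true.1 h3 i hi) v hv
    have h0 : Nat.beq (Oct.comR (Nat.pow 2 i) v) 0 = true := by
      rw [Nat.beq_eq]
      show v ^^^ mapp (matOf (rC (2 ^ i))) v = 0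
      rw [hh, Nat.xor_self]
    rw [h0, Bool.not_true, Bool.false_or, Bool.or_eq_true] at this
    exact this

theorem inU_xor {a b : ℕ} (ha : Oct.inU a = true) (hb : Oct.inU b = true) : Oct.inU (a ^^^ b) = true := by
  have ha' : a < 2048 := (inU_lt ha).trans (by norm_num)
  have hb' : b < 2048 := (inU_lt hb).trans (by norm_num)
  refine (inU_iff (LargeFischer.xor_lt11 ha' hb')).2 fun m hm => ?_
  rw [mapp_xor, (inU_iff ha').1 ha m hm, (inU_iff hb').1 hb m hm]

theorem two_pow_lt {i : ℕ} (hi : i < 4) : 2 ^ i < 16 :=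
  lt_of_lt_of_le (Nat.pow_lt_pow_right (by norm_num) hi) (by norm_num)

theorem m_lt {m : ℕ} (hm : m < 16) (v : ℕ) : mapp (matOf (rC m)) v < 2048 := by
  have hb : ∀ m < 16, (matOf (rC m)).all (fun c => Nat.blt c 2048) = true := by decide +kernel
  exact mapp_lt _ (fun c hc => by simpa using List.all_eq_true.1 (hb m hm) c hc) v

variable {G : Type*} [Group G] [Finite G] {z : G} {P : Subgroup G} {V : Type*} [AddCommGroup V]
  {π : ↥(oc z) →* Multiplicative V} {ρ : ↥(mSub z P) →* Equiv.Perm V} {q : V → ZMod 2} {B : List V}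
  {S : Sys z P π ρ q B}

theorem map_cj_comp (g h : G) (A : Subgroup G) : (A.map (cj h)).map (cj g) = A.map (cj (g * h)) := by
  rw [map_map]
  congr 1
  ext x
  simp only [MonoidHom.comp_apply, cj_apply]
  group

theorem wg_eq_el (T : Sect S) (w : W11) : wg T.F w = T.el w 1 := by
  rw [Sect.el, map_one, coe_one, mul_one]

/-- Normalised position: the image is the group of translations. -/
theorem conj_std_image (T : Sect S) {A : Subgroup G} (hA : Cfsg.IsElementaryAbelian 2 A) (hc : Nat.card A = 2 ^ 10)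
    (hlift : ∀ m < 16, ∃ w, T.el w (rEl m) ∈ A)
    (hU : ∀ u, Oct.inU u = true → wg T.F (bv u) ∈ A) :
    ∃ n ∈ T.F.nrm, A.map (cj n) = T.std := by
  have hcomm : ∀ {a b : G}, a ∈ A → b ∈ A → a * b = b * a := fun ha hb =>
    congrArg Subtype.val (hA.1.is_comm.comm ⟨_, ha⟩ ⟨_, hb⟩)
  -- the outer parts
  have hsel : ∀ i < 4, ∃ v < 2048, T.el (bv v) (rEl (2 ^ i)) ∈ A ∧
      (Oct.inU v = true ∨ Oct.inU (v ^^^ eB.getD i 0) = true) := by
    intro i hi
    obtain ⟨w, hw⟩ := hlift _ (two_pow_lt hi)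
    obtain ⟨v, hv, rfl⟩ := bv_surj w
    refine ⟨v, hv, hw, (e_cases hi).2.2.2.2.2 v hv ?_⟩
    have h2 := hA.2 _ hw
    rw [pow_two, T.el_mul, ← T.el_one] at h2
    have h3 := LargeFischer.eq_of_add11 (T.el_inj h2).1
    rw [T.act_rEl (two_pow_lt hi) hv] at h3
    exact (LargeFischer.bv_inj hv (m_lt (two_pow_lt hi) v) h3).symm
  choose! v hv hvA hvc using hsel
  -- all parts have the same kind
  have hsame : ∀ i < 4, ∀ j < 4, i ≠ j → Oct.inU (v i) = true → Oct.inU (v j) = true := by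
    intro i hi j hj hij hui
    refine (hvc j hj).resolve_right fun huj => ?_
    have hlt : v j ^^^ eB.getD j 0 < 2048 := (inU_lt huj).trans (by norm_num)
    have hf1 := (inU_iff (hv i hi)).1 hui _ (two_pow_lt hj)
    have hcm := hcomm (hvA i hi) (hvA j hj)
    rw [T.el_mul, T.el_mul, T.act_rEl (two_pow_lt hi) (hv j hj), T.act_rEl (two_pow_lt hj) (hv i hi), hf1] at hcm
    have h1 := (T.el_inj hcm).1
    rw [add_comm (bv (v j))] at h1
    have h2 := LargeFischer.bv_inj (m_lt (two_pow_lt hi) _) (hv j hj) (add_left_cancel h1)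
    refine (e_cases hj).2.2.1 i hi hij ?_
    have h3 := (inU_iff hlt).1 huj _ (two_pow_lt hi)
    rw [mapp_xor, h2] at h3
    have := congrArg (fun x => v j ^^^ x) h3
    simpa [← Nat.xor_assoc] using this
  -- the conjugating element
  obtain ⟨g, hg, hgu, hgi⟩ : ∃ g ∈ T.F.nrm, (∀ u, Oct.inU u = true → g * wg T.F (bv u) * g⁻¹ = wg T.F (bv u)) ∧
      ∀ i < 4, ∃ u, Oct.inU u = true ∧ g * T.el (bv (v i)) (rEl (2 ^ i)) * g⁻¹ = T.el (bv u) (rEl (2 ^ i)) := by
    by_cases h : ∀ i < 4, Oct.inU (v i) = true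
    · exact ⟨1, one_mem _, fun u _ => by group, fun i hi => ⟨v i, h i hi, by group⟩⟩
    · push_neg at h
      obtain ⟨k, hk, hku⟩ := h
      have hall : ∀ i < 4, Oct.inU (v i ^^^ eB.getD i 0) = true := fun i hi =>
        (hvc i hi).resolve_left fun hui => by
          by_cases hik : i = k
          · exact hku (hik ▸ hui)
          · exact hku (hsame i hi k hk hik hui)
      have hT := (e_cases hk).2.2.2.2.1
      refine ⟨T.el (bv wTop) 1, T.el_mem _ _, fun u _ => ?_, fun i hi => ?_⟩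
      · rw [wg_eq_el, T.el_conj, one_mul, inv_one, mul_one, T.act_one, T.act_one,
          show bv wTop + bv u + bv wTop = bv u by
            rw [add_comm (bv wTop), add_assoc, LargeFischer.self11, add_zero]]
      · refine ⟨_, inU_xor (hall i hi) (e_cases hi).2.2.2.1, ?_⟩
        rw [T.el_conj, one_mul, inv_one, mul_one, T.act_one, T.act_rEl (two_pow_lt hi) hT,
          show bv wTop + bv (v i) + bv (mapp (matOf (rC (2 ^ i))) wTop) =
            bv ((v i ^^^ eB.getD i 0) ^^^ (eB.getD i 0 ^^^ Oct.comR (2 ^ i) wTop)) by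
            rw [show (v i ^^^ eB.getD i 0) ^^^ (eB.getD i 0 ^^^ Oct.comR (2 ^ i) wTop) =
              v i ^^^ (wTop ^^^ mapp (matOf (rC (2 ^ i))) wTop) by
              rw [Nat.xor_assoc, ← Nat.xor_assoc (eB.getD i 0), Nat.xor_self, Nat.zero_xor]; rfl,
              LargeFischer.bv_xor, LargeFischer.bv_xor]
            abel]
  refine ⟨g, hg, (eq_of_le_of_card_ge ?_ ?_).symm⟩
  swap
  · rw [card_map_of_injective (cj_inj g), hc, T.card_std]
  rintro _ ⟨n, hn, rfl⟩
  have hUg : ∀ u, Oct.inU u = true → wg T.F (bv u) ∈ A.map (cj g) := fun u hu =>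
    ⟨_, hU u hu, hgu u hu⟩
  have key : ∀ k, k ≤ 4 → ∀ m < 2 ^ k, ∃ u, Oct.inU u = true ∧ T.el (bv u) (rEl m) ∈ A.map (cj g) := by
    intro k
    induction k with
    | zero =>
      intro _ m hm
      obtain rfl : m = 0 := by simpa using hm
      exact ⟨0, by decide +kernel, by
        rw [LargeFischer.bv_zero, rEl_zero, T.el_one]; exact one_mem _⟩
    | succ k ih =>
      intro hk m hm
      by_cases hb : m < 2 ^ k
      · exact ih (by omega) m hb
      have hb2 : m.testBit k = true := Nat.testBit_eq_decide_div_mod_eq ▸ by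
        have : m / 2 ^ k = 1 := Nat.div_eq_of_lt_le (by omega) (by rw [pow_succ] at hm; omega)
        simp [this]
      have hlt : m ^^^ 2 ^ k < 2 ^ k := by
        refine Nat.lt_pow_two_of_testBit _ fun i hi => ?_
        rw [Nat.testBit_xor, Nat.testBit_two_pow]
        rcases eq_or_lt_of_le hi with rfl | hi'
        · simp [hb2]
        · rw [Nat.testBit_eq_false_of_lt (hm.trans_le (Nat.pow_le_pow_right (by norm_num) hi'))]
          simp [hi'.ne]
      obtain ⟨u, hu, huA⟩ := ih (by omega) _ hlt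
      obtain ⟨u', hu', he⟩ := hgi k (by omega)
      refine ⟨u ^^^ u', inU_xor hu hu', ?_⟩
      have h16 : m ^^^ 2 ^ k < 16 := hlt.trans (two_pow_lt (by omega))
      have := mul_mem huA (show T.el (bv u') (rEl (2 ^ k)) ∈ A.map (cj g) from ⟨_, hvA k (by omega), he⟩)
      rwa [T.el_mul, (T.fixed_iff _).2 ⟨u', hu', rfl⟩ _ h16, rEl_xor h16 (two_pow_lt (by omega)),
        Nat.xor_assoc, Nat.xor_self, Nat.xor_zero, ← LargeFischer.bv_xor] at this
  obtain ⟨u, hu, huA⟩ := key 4 le_rfl (mOf n) (coord_facts hn).2.2.1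
  have := mul_mem (hUg _ (inU_xor (coord_facts hn).1 hu)) huA
  rwa [wg_eq_el, T.el_mul, T.act_one, one_mul, ← LargeFischer.bv_xor, Nat.xor_assoc, Nat.xor_self,
    Nat.xor_zero] at this

theorem conj_std_of_le (T : Sect S) {A : Subgroup G} (hA : Cfsg.IsElementaryAbelian 2 A)
    (hc : Nat.card A = 2 ^ 10) (hC : centralizer (A : Set G) ≤ A) (hle : A ≤ T.F.nrm) :
    ∃ n ∈ T.F.nrm, A.map (cj n) = T.std := by
  classical
  let f : ↥A →* ↥M24 := (T.F.theta T.good).comp (inclusion hle)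
  let R : Subgroup (Equiv.Perm GolayPt) := f.range.map M24.subtype
  have hcomm : ∀ {a b : G}, a ∈ A → b ∈ A → a * b = b * a := fun ha hb =>
    congrArg Subtype.val (hA.1.is_comm.comm ⟨_, ha⟩ ⟨_, hb⟩)
  have hRmem : ∀ {a}, a ∈ R → ∃ x : ↥A, ((f x : ↥M24) : Equiv.Perm GolayPt) = a := by
    rintro _ ⟨_, ⟨x, rfl⟩, rfl⟩
    exact ⟨x, rfl⟩
  have hRle : R ≤ M24 := map_subtype_le _
  have hRc : ∀ a ∈ R, ∀ b ∈ R, a * b = b * a := by
    intro a ha b hb
    obtain ⟨x, rfl⟩ := hRmem ha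
    obtain ⟨y, rfl⟩ := hRmem hb
    rw [← coe_mul, ← coe_mul, ← map_mul, ← map_mul, show x * y = y * x from Subtype.ext (hcomm x.2 y.2)]
  have hRs : ∀ a ∈ R, a * a = 1 := by
    intro a ha
    obtain ⟨x, rfl⟩ := hRmem ha
    rw [← coe_mul, ← map_mul, show x * x = 1 from Subtype.ext (by
      have := hA.2 _ x.2; rwa [pow_two] at this), map_one]
    rfl
  let U : Finset W11 := Finset.univ.filter fun w => wg T.F w ∈ A
  have hUcard : U.card = Nat.card f.ker := by
    rw [← Nat.card_eq_finsetCard]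
    refine Nat.card_eq_of_bijective (fun w => ⟨⟨_, (Finset.mem_filter.1 w.2).2⟩, ?_⟩) ⟨fun a b e => ?_, fun x => ?_⟩
    · show T.F.theta T.good _ = 1
      rw [← MonoidHom.mem_ker, T.F.theta_ker T.good, mem_subgroupOf]
      exact wg_mem _ _
    · exact Subtype.ext (wg_inj T.F (congrArg (fun y : ↥f.ker => ((y : ↥A) : G)) e))
    · have hx : inclusion hle x.1 ∈ (T.F.theta T.good).ker := x.2
      rw [T.F.theta_ker T.good, mem_subgroupOf] at hx
      obtain ⟨w, hw⟩ := exists_wg T.F (show ((x : ↥A) : G) ∈ T.F.grp from hx)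
      exact ⟨⟨w, Finset.mem_filter.2 ⟨Finset.mem_univ _, hw ▸ (x : ↥A).2⟩⟩, Subtype.ext (Subtype.ext hw)⟩
  have hRcard : Nat.card R = Nat.card f.range := card_map_of_injective (subtype_injective _)
  have hprod : U.card * Nat.card R = 1024 := by
    have h := f.ker.card_mul_index
    rw [index_ker, hc] at h
    rw [hUcard, hRcard, h]; norm_num
  have hne : R ≠ ⊥ := by
    intro h
    have hall : ∀ x : ↥A, f x = 1 := fun x => by
      have : ((f x : ↥M24) : Equiv.Perm GolayPt) ∈ R := ⟨f x, ⟨x, rfl⟩, rfl⟩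
      rw [h, mem_bot] at this
      exact Subtype.ext this
    have hAg : A ≤ T.F.grp := fun a ha => by
      have hx : inclusion hle ⟨a, ha⟩ ∈ (T.F.theta T.good).ker := hall ⟨a, ha⟩
      rwa [T.F.theta_ker T.good, mem_subgroupOf] at hx
    have : T.F.grp ≤ A := fun x hx => hC (mem_centralizer_iff.2 fun a ha => (T.F.grp_comm (hAg ha) hx).eq)
    have h2 := card_le_of_le this
    rw [T.F.card_grp, hc] at h2
    norm_num at h2
  let L : Equiv.Perm GolayPt → (W11 →+ W11) := fun a => if h : a ∈ M24 then T.act ⟨a, h⟩ else 0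
  have hL : ∀ a ∈ R, Acts a (L a) := fun a ha => by
    simp only [L, dif_pos (hRle ha)]; exact T.acts ⟨a, hRle ha⟩
  have hUfix : ∀ a ∈ R, ∀ w ∈ U, L a w = w := by
    intro a ha w hw
    obtain ⟨x, rfl⟩ := hRmem ha
    simp only [L, dif_pos (f x).2]
    obtain ⟨w', hw'⟩ := T.exists_el (hle x.2)
    have hσ : T.F.theta T.good ⟨(x : G), hle x.2⟩ = f x := rfl
    rw [hσ] at hw'
    have h := hcomm x.2 (Finset.mem_filter.1 hw).2
    rw [hw', wg_eq_el, T.el_mul, T.el_mul, T.act_one, add_comm w w'] at h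
    exact add_left_cancel (T.el_inj h).1
  obtain ⟨⟨g, hg, hgR⟩, hU64, hR16⟩ := elem_class R hRle hRc hRs hne L hL U hUfix hprod.ge
  set k := T.kap ⟨g, hg⟩
  set A' := A.map (cj (k : G)) with hA'
  have hA'e : Cfsg.IsElementaryAbelian 2 A' := elem_map (MulAut.conj (k : G)) hA
  have hA'c : Nat.card A' = 2 ^ 10 := by rw [hA', card_map_of_injective (cj_inj _), hc]
  have hlift : ∀ m < 16, ∃ w, T.el w (rEl m) ∈ A' := by
    intro m hm
    obtain ⟨_, ⟨σ, ⟨x, rfl⟩, rfl⟩, e⟩ := hgR.ge (rEl_mem m)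
    set y : ↥T.F.nrm := k * ⟨(x : G), hle x.2⟩ * k⁻¹
    have hθ : T.F.theta T.good y = rEl m := by
      rw [map_mul, map_mul, map_inv, T.spec]; exact Subtype.ext e
    obtain ⟨w, hw⟩ := T.exists_el y.2
    rw [hθ] at hw
    exact ⟨w, hw ▸ ⟨_, x.2, rfl⟩⟩
  have hUimg : ∀ u, Oct.inU u = true → wg T.F (bv u) ∈ A' := by
    let U' : Finset W11 := U.image (T.act ⟨g, hg⟩)
    let V0 : Finset W11 := Finset.univ.filter fun w => ∀ m < 16, T.act (rEl m) w = w
    have hV0mem : ∀ w, w ∈ V0 ↔ ∀ m < 16, T.act (rEl m) w = w := fun w => by simp [V0]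
    have hsub : U' ⊆ V0 := by
      intro w' hw'
      obtain ⟨w, hw, rfl⟩ := Finset.mem_image.1 hw'
      refine (hV0mem _).2 fun m hm => ?_
      obtain ⟨_, ⟨σ, hσ, rfl⟩, e⟩ := hgR.ge (rEl_mem m)
      have hk : (⟨g, hg⟩ : ↥M24) * σ * ⟨g, hg⟩⁻¹ = rEl m := Subtype.ext e
      have hfx := hUfix _ (⟨σ, hσ, rfl⟩ : (σ : Equiv.Perm GolayPt) ∈ R) w hw
      simp only [L, dif_pos σ.2] at hfx
      rw [← T.act_mul, ← hk, inv_mul_cancel_right, T.act_mul, hfx]
    have hV0 : V0.card ≤ 64 := by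
      obtain ⟨Us, hUs, hmem⟩ := exists_uSet
      refine le_trans (Finset.card_le_card (t := Us.image bv) fun w hw => ?_) (Finset.card_image_le.trans hUs)
      obtain ⟨u, hu, rfl⟩ := (T.fixed_iff w).1 ((hV0mem w).1 hw)
      exact Finset.mem_image.2 ⟨u, hmem u hu, rfl⟩
    have hinj : Function.Injective (T.act ⟨g, hg⟩) := T.F.tau_inj _
    have heq : U' = V0 := Finset.eq_of_subset_of_card_le hsub (by
      rw [Finset.card_image_of_injective _ hinj, hU64]; exact hV0)
    intro u hu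
    have : bv u ∈ U' := heq ▸ (hV0mem _).2 ((T.fixed_iff _).2 ⟨u, hu, rfl⟩)
    obtain ⟨w, hw, e⟩ := Finset.mem_image.1 this
    rw [← e]
    exact ⟨_, (Finset.mem_filter.1 hw).2, conj_wg T.F k w⟩
  obtain ⟨n, hn, e⟩ := conj_std_image T hA'e hA'c hlift hUimg
  exact ⟨n * k, mul_mem hn k.2, by rw [← map_cj_comp, ← hA', e]⟩

theorem conj_std (T : Sect S) {A : Subgroup G} (hA : Cfsg.IsElementaryAbelian 2 A)
    (hc : Nat.card A = 2 ^ 10) (hC : centralizer (A : Set G) ≤ A) : ∃ g, A.map (cj g) = T.std := by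
  obtain ⟨g, hg⟩ := exists_conj_le_nrm T.F T.good (IsPGroup.of_card hc)
  obtain ⟨n, -, e⟩ := conj_std_of_le T (elem_map (MulAut.conj g) hA)
    ((card_map_of_injective (cj_inj g)).trans hc) (self_map g hC) hg
  exact ⟨n * g, by rw [← map_cj_comp]; exact e⟩

end Cfsg.Agent.TenLocal
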