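import Cfsg.Agent.TenLocal.Std
import Cfsg.Agent.Core.Gaschutz

/-!
# The normaliser of the standard group of order `2 ^ 10` splits over it
-/

set_option autoImplicit false
set_option maxRecDepth 100000

open Cfsg Subgroup
open scoped Pointwise

namespace Cfsg.Agent.TenLocal

open LargeExtra (oc)
open LargeFischer (W11 pt bv)
open J4Type (mSub)
open J4Type.V11
open Compute
open Oct

/-- Commutators of the pairs through the fifth point with the translations. -/
noncomputable def splitB : Bool :=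
  allBelow 16 (fun m => allBelow 24 fun q => bitB cfgOctRoot q ||
    inU (comR m (Nat.xor (vpL.getD 4 0) (vpL.getD q 0)))) &&
  allBelow 16 (fun m => allBelow 11 fun k => Nat.blt ((matOf (rC m)).getD k 0) 2048) &&
  allBelow 24 (fun q => Nat.blt (vpL.getD q 0) 2048) &&
  !(bitB cfgOctRoot 4) && Nat.beq (chainSize cfgOctChain) 322560

theorem split_ok : splitB = true := by decide +kernel

theorem split_facts :
    (∀ m < 16, ∀ q < 24, cfgOctRoot.testBit q = false →
      inU (comR m (vpL.getD 4 0 ^^^ vpL.getD q 0)) = true) ∧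
    (∀ m < 16, ∀ c ∈ matOf (rC m), c < 2048) ∧ (∀ q < 24, vpL.getD q 0 < 2048) ∧
    cfgOctRoot.testBit 4 = false ∧ chainSize cfgOctChain = 322560 := by
  have h := split_ok
  simp only [splitB, Bool.and_eq_true, allBelow_eq_true, Bool.or_eq_true, Bool.not_eq_true',
    Nat.blt_eq, Nat.beq_eq] at h
  obtain ⟨⟨⟨⟨h1, h2⟩, h3⟩, h4⟩, h5⟩ := h
  refine ⟨fun m hm q hq hb => ?_, fun m hm c hc => ?_, h3, by rwa [bitB_eq] at h4, h5⟩
  · have := h1 m hm q hq
    rw [bitB_eq, hb] at this
    exact this.resolve_left (by simp)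
  · obtain ⟨k, hk, rfl⟩ := List.getElem_of_mem hc
    have := h2 m hm k (by rwa [matOf_length] at hk)
    rwa [List.getD_eq_getElem _ 0 hk] at this

theorem mapp_lt_of_cols : ∀ (M : List ℕ), (∀ c ∈ M, c < 2048) → ∀ v, mapp M v < 2048 := by
  intro M
  induction M with
  | nil => intro _ v; exact Nat.two_pow_pos 11
  | cons c M ih =>
    intro h v
    have hr := ih (fun d hd => h d (List.mem_cons_of_mem _ hd)) (v >>> 1)
    rw [mapp_cons]
    split
    · exact Nat.xor_lt_two_pow (n := 11) (h c List.mem_cons_self) hr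
    · exact hr

variable {G : Type*} [Group G] [Finite G] {z : G} {P : Subgroup G} {V : Type*} [AddCommGroup V]
  {π : ↥(oc z) →* Multiplicative V} {ρ : ↥(mSub z P) →* Equiv.Perm V} {q : V → ZMod 2} {B : List V}
  {S : Sys z P π ρ q B}

namespace Sect

variable (T : Sect S)

theorem inU_iff_act {v : ℕ} (hv : v < 2048) :
    Oct.inU v = true ↔ ∀ m < 16, T.act (rEl m) (bv v) = bv v := by
  rw [inU_iff hv]
  refine forall₂_congr fun m hm => ?_
  rw [T.act_rEl hm hv]
  exact ⟨congrArg bv, LargeFischer.bv_inj (mapp_lt_of_cols _ (split_facts.2.1 m hm) v) hv⟩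

theorem inU_add {a b : ℕ} (ha : Oct.inU a = true) (hb : Oct.inU b = true) : Oct.inU (a ^^^ b) = true := by
  have ha' : a < 2048 := (inU_lt ha).trans (by norm_num)
  have hb' : b < 2048 := (inU_lt hb).trans (by norm_num)
  rw [inU_iff (Nat.xor_lt_two_pow (n := 11) ha' hb')]
  intro m hm
  rw [mapp_xor, (inU_iff ha').1 ha m hm, (inU_iff hb').1 hb m hm]

/-- The base point of the cocycle. -/
noncomputable def basePt : GolayPt := rep24.pt 4

theorem base_out : basePt ∉ octPts := fun h => by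
  rw [mem_octPts, basePt, ptIdx_rep24 (by norm_num), split_facts.2.2.2.1] at h
  exact Bool.noConfusion h

/-- The cocycle of the point. -/
noncomputable def coc (σ : ↥M24) : W11 := pt basePt + pt ((σ : Equiv.Perm GolayPt) basePt)

theorem self_w (w : W11) : w + w = 0 := funext fun i => (show ∀ c : ZMod 2, c + c = 0 by decide) _

theorem coc_mul (σ τ : ↥M24) : coc σ + T.act σ (coc τ) = coc (σ * τ) := by
  rw [coc, coc, coc, T.acts σ, Subgroup.coe_mul, Equiv.Perm.mul_apply]
  rw [add_assoc, ← add_assoc (pt ((σ : Equiv.Perm GolayPt) basePt)), self_w, zero_add]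

/-- The stabiliser of the octad. -/
def octStabGrp : Subgroup (Equiv.Perm GolayPt) :=
  M24 ⊓ MulAction.stabilizer (Equiv.Perm GolayPt) (suppM cfgOctRoot)

theorem card_octStab : Nat.card ↥octStabGrp = 322560 := by
  rw [octStabGrp, octStab_spec.2.1, rep24.card_chainGroup _ octStab_spec.1, split_facts.2.2.2.2]

theorem mem_oct_iff {σ : Equiv.Perm GolayPt} (hσ : σ ∈ octStabGrp) (p : GolayPt) :
    σ p ∈ octPts ↔ p ∈ octPts := by
  have h : σ • suppM cfgOctRoot = suppM cfgOctRoot := MulAction.mem_stabilizer_iff.1 hσ.2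
  simp only [octPts, Finset.mem_coe]
  conv_lhs => rw [← h]
  rw [← Equiv.Perm.smul_def, Finset.smul_mem_smul_finset_iff]

/-- The complement of the translations over the octad. -/
noncomputable def splitHom : ↥octStabGrp →* G :=
  MonoidHom.mk' (fun σ => T.el (coc ⟨σ, σ.2.1⟩) ⟨σ, σ.2.1⟩) fun σ τ => by
    rw [T.el_mul, T.coc_mul]
    rfl

theorem splitHom_apply (σ : ↥octStabGrp) : T.splitHom σ = T.el (coc ⟨σ, σ.2.1⟩) ⟨σ, σ.2.1⟩ := rfl

theorem card_splitHom : Nat.card ↥T.splitHom.range = 322560 := by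
  have hinj : Function.Injective T.splitHom := fun σ τ h =>
    Subtype.ext (congrArg (fun x : ↥M24 => (x : Equiv.Perm GolayPt)) (T.el_inj h).2)
  rw [← Nat.card_congr (MonoidHom.ofInjective hinj).toEquiv, card_octStab]

theorem conj_octR {σ : ↥M24} (hσ : (σ : Equiv.Perm GolayPt) ∈ octStabGrp) {m : ℕ} :
    ∃ m' < 16, rEl m' = σ * rEl m * σ⁻¹ := by
  have h : ((σ * rEl m * σ⁻¹ : ↥M24) : Equiv.Perm GolayPt) ∈ octR := by
    refine ⟨(σ * rEl m * σ⁻¹).2, (mem_fixingSubgroup_iff _).2 fun p hp => ?_⟩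
    have hp' : (σ : Equiv.Perm GolayPt)⁻¹ p ∈ octPts := (mem_oct_iff (inv_mem hσ) p).2 hp
    have h2 : (rEl m : Equiv.Perm GolayPt) ((σ : Equiv.Perm GolayPt)⁻¹ p) = (σ : Equiv.Perm GolayPt)⁻¹ p :=
      (mem_fixingSubgroup_iff _).1 (rEl_mem m).2 _ hp'
    rw [Equiv.Perm.smul_def, Subgroup.coe_mul, Subgroup.coe_mul, Subgroup.coe_inv, Equiv.Perm.mul_apply, Equiv.Perm.mul_apply, h2,
      Equiv.Perm.inv_def, Equiv.apply_symm_apply]
  obtain ⟨m', hm', e⟩ := exists_rEl h
  exact ⟨m', hm', Subtype.ext e⟩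

theorem com_coc {σ : ↥M24} (hσ : (σ : Equiv.Perm GolayPt) ∈ octStabGrp) {m : ℕ} (hm : m < 16) :
    ∃ u, Oct.inU u = true ∧ bv u = coc σ + T.act (rEl m) (coc σ) := by
  set k := ptIdx ((σ : Equiv.Perm GolayPt) basePt) with hk
  have hk' : k < 24 := ptIdx_lt _
  have hout : cfgOctRoot.testBit k = false := by
    have := mt (mem_oct_iff hσ basePt).1 base_out
    rw [mem_octPts, Bool.not_eq_true] at this
    exact this
  have hc : coc σ = bv (vpL.getD 4 0 ^^^ vpL.getD k 0) := by
    rw [LargeFischer.bv_xor, pts_ok (by norm_num), pts_ok hk', hk, rep24_pt_ptIdx]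
    rfl
  refine ⟨_, split_facts.1 m hm k hk' hout, ?_⟩
  rw [hc, T.act_rEl hm (Nat.xor_lt_two_pow (n := 11) (split_facts.2.2.1 4 (by norm_num))
    (split_facts.2.2.1 k hk')), ← LargeFischer.bv_xor]
  rfl

theorem inU_moved {σ : ↥M24} (hσ : (σ : Equiv.Perm GolayPt) ∈ octStabGrp) {u : ℕ} (hu : Oct.inU u = true) :
    ∃ v, Oct.inU v = true ∧ bv v = T.act σ (bv u) := by
  obtain ⟨v, hv, e⟩ := bv_surj (T.act σ (bv u))
  refine ⟨v, (T.inU_iff_act hv).2 fun m _ => ?_, e⟩
  obtain ⟨m', hm', he⟩ := conj_octR (σ := σ⁻¹) (inv_mem hσ) (m := m)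
  have h1 : rEl m * σ = σ * rEl m' := by rw [he]; group
  rw [e, ← T.act_mul, h1, T.act_mul, (T.inU_iff_act ((inU_lt hu).trans (by norm_num))).1 hu m' hm']

theorem split_normalizes : T.splitHom.range ≤ normalizer (T.std : Set G) := by
  have key : ∀ (σ : ↥octStabGrp) (g : G), g ∈ T.std → T.splitHom σ * g * (T.splitHom σ)⁻¹ ∈ T.std := by
    rintro σ _ ⟨n, hn, rfl⟩
    set s : ↥M24 := ⟨σ, σ.2.1⟩ with hs
    obtain ⟨m', hm', he⟩ := conj_octR (σ := s) σ.2 (m := mOf n)
    obtain ⟨v, hv, ev⟩ := T.inU_moved (σ := s) σ.2 (coord_facts hn).1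
    obtain ⟨c, hc, ec⟩ := T.com_coc (σ := s) σ.2 hm'
    have e : T.splitHom σ * T.sEl n = T.el (bv (c ^^^ v)) (rEl m') * T.splitHom σ := by
      rw [splitHom_apply, sEl, T.el_mul, T.el_mul, LargeFischer.bv_xor, ev]
      congr 1
      · rw [ec]
        calc coc s + T.act s (bv (uOf n))
            = coc s + T.act s (bv (uOf n)) + (T.act (rEl m') (coc s) + T.act (rEl m') (coc s)) := by
              rw [self_w, add_zero]
          _ = _ := by abel
      · rw [he, inv_mul_cancel_right]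
    rw [e, mul_inv_cancel_right]
    exact T.el_mem_std (inU_add hc hv) hm'
  rw [le_normalizer_iff]
  rintro _ ⟨σ, rfl⟩ g hg
  exact key σ g hg

theorem split_inf : T.splitHom.range ⊓ T.std = ⊥ := by
  rw [eq_bot_iff]
  rintro _ ⟨⟨σ, rfl⟩, n, hn, e⟩
  rw [Subgroup.mem_bot]
  rw [splitHom_apply, sEl] at e
  obtain ⟨h1, h2⟩ := T.el_inj e
  set s : ↥M24 := ⟨σ, σ.2.1⟩ with hs
  set k := ptIdx ((s : Equiv.Perm GolayPt) basePt) with hk
  have hk' : k < 24 := ptIdx_lt _
  have hout : cfgOctRoot.testBit k = false := by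
    have := mt (mem_oct_iff σ.2 basePt).1 base_out
    rw [mem_octPts, Bool.not_eq_true] at this
    exact this
  have hp := allBelow_eq_true.1 pair_ok 4 (by norm_num)
  rw [bitB_eq, split_facts.2.2.2.1, Bool.false_or, allBelow_eq_true] at hp
  have hp' := hp k hk'
  rw [bitB_eq, hout, Bool.false_or, Bool.and_eq_true, Bool.or_eq_true, Nat.beq_eq] at hp'
  rcases hp'.2 with h4 | h4
  · have hfix : (rEl (mOf n) : Equiv.Perm GolayPt) basePt = basePt := by
      rw [← h2]
      calc (s : Equiv.Perm GolayPt) basePt = rep24.pt k := by rw [hk, rep24_pt_ptIdx]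
        _ = basePt := by rw [basePt, h4]
    have hm0 : mOf n = 0 := by
      by_contra h0
      exact base_out (rEl_fix (coord_facts hn).2.2.1 h0 hfix)
    rw [hm0, rEl_zero] at h2
    have hσ1 : σ = 1 := Subtype.ext (congrArg (fun x : ↥M24 => (x : Equiv.Perm GolayPt)) h2)
    rw [hσ1, map_one]
  · exfalso
    have hb : bv (vpL.getD 4 0 ^^^ vpL.getD k 0) = bv (uOf n) := by
      rw [← h1, LargeFischer.bv_xor, pts_ok (by norm_num), pts_ok hk', hk, rep24_pt_ptIdx]
      rfl
    have := LargeFischer.bv_inj (Nat.xor_lt_two_pow (n := 11) (split_facts.2.2.1 4 (by norm_num))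
      (split_facts.2.2.1 k hk')) (coord_facts hn).2.1 hb
    rw [Bool.not_eq_true'] at h4
    exact Bool.noConfusion ((coord_facts hn).1.symm.trans ((congrArg Oct.inU this.symm).trans h4))

/-- **The normaliser of the standard group splits over it.** -/
theorem split (hN : Nat.card ↥(normalizer (T.std : Set G)) = 868 * 11796480) :
    ∃ B : Subgroup G, B ≤ normalizer (T.std : Set G) ∧ B ⊓ T.std = ⊥ ∧
      B ⊔ T.std = normalizer (T.std : Set G) := by
  set N := normalizer (T.std : Set G) with hNdef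
  set C := T.splitHom.range with hC
  have hCN : C ≤ N := T.split_normalizes
  have hAN : T.std ≤ N := Subgroup.le_normalizer
  have hUN : C ⊔ T.std ≤ N := sup_le hCN hAN
  set K := T.std.subgroupOf N with hK
  set A := C.subgroupOf N with hA
  set U := (C ⊔ T.std).subgroupOf N with hU
  have : K.Normal := (normal_subgroupOf_iff_le_normalizer hAN).2 le_rfl
  have : IsMulCommutative ↥K := ⟨⟨fun a b => Subtype.ext (Subtype.ext (T.std_comm a.2 b.2))⟩⟩
  have hKU : K ≤ U := fun x hx => (le_sup_right : T.std ≤ C ⊔ T.std) hx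
  have hAU : A ≤ U := fun x hx => (le_sup_left : C ≤ C ⊔ T.std) hx
  have hAK : A ⊓ K = ⊥ := by
    rw [eq_bot_iff]
    intro x hx
    have h : (x : G) ∈ C ⊓ T.std := ⟨hx.1, hx.2⟩
    rw [hC, T.split_inf, Subgroup.mem_bot] at h
    exact Subgroup.mem_bot.2 (Subtype.ext h)
  have hKA : K ⊔ A = U := by rw [hU, subgroupOf_sup hCN hAN, sup_comm]
  have hcardK : Nat.card ↥K = 2 ^ 10 := by
    rw [Nat.card_congr (subgroupOfEquivOfLe hAN).toEquiv, T.card_std]
  have hcardU : Nat.card ↥U = 2 ^ 10 * 322560 := by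
    have hd : Disjoint K A := by rw [disjoint_iff, inf_comm, hAK]
    rw [← hKA, ← T.card_splitHom, ← hcardK, ← Nat.card_congr (subgroupOfEquivOfLe hCN).toEquiv,
      ← Nat.card_prod]
    refine (Nat.card_eq_of_bijective (fun p : ↥K × ↥A =>
      (⟨p.1 * p.2, mul_mem (mem_sup_left p.1.2) (mem_sup_right p.2.2)⟩ : ↥(K ⊔ A))) ⟨?_, ?_⟩).symm
    · intro a b e
      exact Subgroup.mul_injective_of_disjoint hd (congrArg Subtype.val e)
    · rintro ⟨x, hx⟩
      have hxs : x ∈ ((K ⊔ A : Subgroup ↥N) : Set ↥N) := hx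
      rw [Subgroup.normal_mul] at hxs
      obtain ⟨a, ha, b, hb, e⟩ := hxs
      exact ⟨(⟨a, ha⟩, ⟨b, hb⟩), Subtype.ext e⟩
  have hidx : U.index = 31 := by
    have h := U.card_mul_index
    rw [hcardU, hN] at h
    omega
  obtain ⟨H, hH⟩ := Core.gaschutz_exists hKU (by rw [hidx, hcardK]; decide) hAU hAK hKA
  refine ⟨H.map N.subtype, map_subtype_le H, ?_, ?_⟩
  · rw [← map_subgroupOf_eq_of_le hAN, ← map_inf _ _ _ N.subtype_injective, inf_comm,
      disjoint_iff.1 hH.disjoint, Subgroup.map_bot]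
  · rw [← map_subgroupOf_eq_of_le hAN, ← Subgroup.map_sup, sup_comm, hH.sup_eq_top,
      ← MonoidHom.range_eq_map, Subgroup.range_subtype]

end Sect

end Cfsg.Agent.TenLocal
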