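import Cfsg.Agent.TenLocal.Count

/-!
# The two classes in the standard group
-/

set_option autoImplicit false
set_option maxRecDepth 8000

open Cfsg Subgroup
open scoped Pointwise

namespace Cfsg.Agent.TenLocal

open LargeExtra (oc)
open LargeFischer (W11 pt IsDuad bv)
open J4Type (mSub)
open J4Type.V11
open Oct

theorem bad_primes : (∀ j, 1 ≤ j → j ≤ 10 → ¬ 37 ∣ 2 ^ j - 1) ∧ (∀ j, 1 ≤ j → j ≤ 10 → ¬ 19 ∣ 2 ^ j - 1) := by
  constructor <;> intro j h1 h2 <;> interval_cases j <;> decide

theorem comR_lt {m : ℕ} (hm : m < 16) {x : ℕ} (hx : x < 2048) : Oct.comR m x < 2048 := by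
  have hb : ∀ m < 16, (matOf (rC m)).all (fun c => Nat.blt c 2048) = true := by decide +kernel
  exact LargeFischer.xor_lt11 hx (mapp_lt _ (fun c hc => by simpa using List.all_eq_true.1 (hb m hm) c hc) x)

/-- A fixed vector of a translation is in the common fixed space up to a commutator. -/
theorem fixed_cases {m : ℕ} (hm : m < 16) (hm0 : m ≠ 0) {v : ℕ} (hv : v < 2048)
    (h : mapp (matOf (rC m)) v = v) : Oct.inU v = true ∨ Oct.inU (v ^^^ Oct.comR m wTop) = true := by
  have he := e_ok
  simp only [Oct.eB', Bool.and_eq_true] at he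
  have h1 := Compute.allBelow_eq_true.1 he.1.1.2 (m - 1) (by omega)
  have h2 := Compute.allBelow_eq_true.1 h1 v hv
  rw [show Nat.add (m - 1) 1 = m from Nat.succ_pred_eq_of_ne_zero hm0] at h2
  have h0 : Nat.beq (Oct.comR m v) 0 = true := by
    rw [Nat.beq_eq]
    show v ^^^ mapp (matOf (rC m)) v = 0
    rw [h, Nat.xor_self]
  rw [h0, Bool.not_true, Bool.false_or, Bool.or_eq_true] at h2
  exact h2

theorem wTop_lt : wTop < 2048 := by
  have he := e_ok
  simp only [Oct.eB', Bool.and_eq_true, Nat.blt_eq] at he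
  exact he.2

variable {G : Type*} [Group G] [Finite G] {z : G} {P : Subgroup G} {V : Type*} [AddCommGroup V]
  {π : ↥(oc z) →* Multiplicative V} {ρ : ↥(mSub z P) →* Equiv.Perm V} {q : V → ZMod 2} {B : List V}
  {S : Sys z P π ρ q B}

namespace Sect

variable (T : Sect S)

/-- An element of the standard group outside `V` and outside the class of `z`. -/
theorem exists_outer_std : ∃ n < 1024, mOf n ≠ 0 ∧ ¬ IsConj z (T.sEl n) := by
  obtain ⟨e, heg, he2, hez, hfix⟩ := exists_outer T.F T.good
  set σ := T.F.theta T.good e with hσ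
  have hσ1 : σ ≠ 1 := fun h => heg (by
    have : e ∈ (T.F.theta T.good).ker := h
    rwa [T.F.theta_ker T.good, mem_subgroupOf] at this)
  have hσ2 : σ * σ = 1 := by
    rw [hσ, ← map_mul, show e * e = 1 from Subtype.ext he2, map_one]
  obtain ⟨g, hg, hgO⟩ := inv_class (σ : Equiv.Perm GolayPt) σ.2
    (by rw [← coe_mul, hσ2]; rfl) (fun h => hσ1 (Subtype.ext h)) (T.F.tau e)
    (acts_theta T.F T.good e) hfix
  obtain ⟨m, hm, em⟩ := exists_rEl hgO
  set k := T.kap ⟨g, hg⟩ with hk
  set y : ↥T.F.nrm := k * e * k⁻¹ with hy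
  have hθ : T.F.theta T.good y = rEl m := by
    rw [hy, map_mul, map_mul, map_inv, hk, T.spec]
    exact Subtype.ext em.symm
  have hm0 : m ≠ 0 := fun h => hσ1 (by
    rw [h, rEl_zero, hy, map_mul, map_mul, map_inv, conj_eq_one_iff] at hθ
    exact hθ)
  obtain ⟨w, hw⟩ := T.exists_el y.2
  rw [hθ] at hw
  have hy2 : (y : G) * (y : G) = 1 := by
    rw [← coe_mul, show y * y = k * (e * e) * k⁻¹ by rw [hy]; group,
      show e * e = 1 from Subtype.ext he2, mul_one, mul_inv_cancel]
    rfl
  have hyz : ¬ IsConj z (y : G) := by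
    rw [hy, coe_mul, coe_mul, coe_inv, isConj_conj_iff]; exact hez
  obtain ⟨v, hv, rfl⟩ := bv_surj w
  rw [hw, T.el_mul, ← T.el_one] at hy2
  have hfixv : mapp (matOf (rC m)) v = v := by
    have h1 := LargeFischer.eq_of_add11 (T.el_inj hy2).1
    rw [T.act_rEl hm hv] at h1
    refine (LargeFischer.bv_inj hv ?_ h1).symm
    have h3 := comR_lt hm hv
    have : mapp (matOf (rC m)) v = v ^^^ Oct.comR m v := by
      show _ = v ^^^ (v ^^^ _)
      rw [← Nat.xor_assoc, Nat.xor_self, Nat.zero_xor]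
    rw [this]; exact LargeFischer.xor_lt11 hv h3
  rcases fixed_cases hm hm0 hv hfixv with hU | hU
  · obtain ⟨n, hn, e1, e2⟩ := exists_coord hU hm
    exact ⟨n, hn, e2 ▸ hm0, by rw [sEl, e1, e2, ← hw]; exact hyz⟩
  · obtain ⟨n, hn, e1, e2⟩ := exists_coord hU hm
    refine ⟨n, hn, e2 ▸ hm0, ?_⟩
    have hconj : T.el (bv wTop) 1 * T.el (bv v) (rEl m) * (T.el (bv wTop) 1)⁻¹ =
        T.el (bv (v ^^^ Oct.comR m wTop)) (rEl m) := by
      rw [T.el_conj, one_mul, inv_one, mul_one, T.act_one, T.act_rEl hm wTop_lt]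
      congr 1
      show bv wTop + bv v + bv (mapp (matOf (rC m)) wTop) =
        bv (v ^^^ (wTop ^^^ mapp (matOf (rC m)) wTop))
      rw [LargeFischer.bv_xor, LargeFischer.bv_xor]
      abel
    rw [sEl, e1, e2, ← hconj, ← hw, isConj_conj_iff]
    exact hyz

theorem mask_class {r M i : ℕ} (hM : ∀ {j : ℕ}, M.testBit j = true → j < 1024 ∧ T.Rel r j)
    (hi : M.testBit i = true) : IsConj z (T.sEl i) ↔ IsConj z (T.sEl r) :=
  (T.rel_conj (hM hi).2).symm

/-- The classes and the size of the second one. -/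
theorem classes_std (hcl : T.ClassLe) : (∀ n < 1024, n ≠ 0 →
      (IsConj z (T.sEl n) ↔ (oMask0.testBit n = true ∨ oMask2.testBit n = true))) ∧
    T.tIdx.card = 868 := by
  classical
  obtain ⟨hcov, h0, h1, h2, h3, c0, c1, c2, c3⟩ := sort_facts
  have z0 : ∀ n < 1024, oMask0.testBit n = true → IsConj z (T.sEl n) := by
    intro n hn hb
    obtain ⟨hm, ht⟩ := h0 n hn hb
    by_contra hz
    have hn0 : n ≠ 0 := fun h => hz (by
      exfalso
      have : oMask0.testBit 0 = false := by decide +kernel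
      rw [h, this] at hb
      exact Bool.noConfusion hb)
    have := (T.low_sec hn hm hn0).1 hz
    rw [Compute.bitB_eq, ht] at this
    exact Bool.noConfusion this
  have z1 : ∀ n < 1024, oMask1.testBit n = true → ¬ IsConj z (T.sEl n) := by
    intro n hn hb
    obtain ⟨hm, ht⟩ := h1 n hn hb
    have hn0 : n ≠ 0 := fun h => by
      have : oMask1.testBit 0 = false := by decide +kernel
      rw [h, this] at hb
      exact Bool.noConfusion hb
    exact (T.low_sec hn hm hn0).2 (by rw [Compute.bitB_eq]; exact ht)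
  have hzero : oMask1.testBit 0 = false ∧ oMask2.testBit 0 = false ∧ oMask3.testBit 0 = false := by
    decide +kernel
  have hdisj : ∀ n < 1024, oMask2.testBit n = true → oMask3.testBit n = false := by
    have : Compute.allBelow 1024 (fun n => !(Compute.bitB oMask2 n && Compute.bitB oMask3 n)) = true := by
      decide +kernel
    intro n hn hb
    have := Compute.allBelow_eq_true.1 this n hn
    simpa [Compute.bitB_eq, hb] using this
  set a : Prop := IsConj z (T.sEl 8)
  set b : Prop := IsConj z (T.sEl 24)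
  have hset : T.tIdx = mIdx oMask1 ∪ (if a then ∅ else mIdx oMask2) ∪ (if b then ∅ else mIdx oMask3) := by
    ext n
    rw [T.mem_tIdx]
    simp only [Finset.mem_union]
    constructor
    · rintro ⟨hn, hn0, hz⟩
      rcases hcov n hn hn0 with h | h | h | h
      · exact absurd (z0 n hn h) hz
      · exact Or.inl (Or.inl (mem_mIdx.2 ⟨hn, h⟩))
      · refine Or.inl (Or.inr ?_)
        rw [if_neg fun ha => hz ((T.mask_class (fun h => T.rel_mask2 h) h).2 ha)]
        exact mem_mIdx.2 ⟨hn, h⟩
      · refine Or.inr ?_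
        rw [if_neg fun ha => hz ((T.mask_class (fun h => T.rel_mask3 h) h).2 ha)]
        exact mem_mIdx.2 ⟨hn, h⟩
    · rintro ((h | h) | h)
      · obtain ⟨hn, hb⟩ := mem_mIdx.1 h
        exact ⟨hn, fun e => by rw [e, hzero.1] at hb; exact Bool.noConfusion hb, z1 n hn hb⟩
      · split_ifs at h with ha
        · simp at h
        obtain ⟨hn, hb⟩ := mem_mIdx.1 h
        exact ⟨hn, fun e => by rw [e, hzero.2.1] at hb; exact Bool.noConfusion hb,
          fun hz => ha ((T.mask_class (fun h => T.rel_mask2 h) hb).1 hz)⟩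
      · split_ifs at h with ha
        · simp at h
        obtain ⟨hn, hb⟩ := mem_mIdx.1 h
        exact ⟨hn, fun e => by rw [e, hzero.2.2] at hb; exact Bool.noConfusion hb,
          fun hz => ha ((T.mask_class (fun h => T.rel_mask3 h) hb).1 hz)⟩
  have d12 : Disjoint (mIdx oMask1) (mIdx oMask2) := Finset.disjoint_left.2 fun n hn hn' =>
    h2 n (mem_mIdx.1 hn).1 (mem_mIdx.1 hn').2 (h1 n (mem_mIdx.1 hn).1 (mem_mIdx.1 hn).2).1
  have d13 : Disjoint (mIdx oMask1) (mIdx oMask3) := Finset.disjoint_left.2 fun n hn hn' =>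
    h3 n (mem_mIdx.1 hn).1 (mem_mIdx.1 hn').2 (h1 n (mem_mIdx.1 hn).1 (mem_mIdx.1 hn).2).1
  have d23 : Disjoint (mIdx oMask2) (mIdx oMask3) := Finset.disjoint_left.2 fun n hn hn' => by
    have := hdisj n (mem_mIdx.1 hn).1 (mem_mIdx.1 hn).2
    rw [(mem_mIdx.1 hn').2] at this
    exact Bool.noConfusion this
  have hk1 : (mIdx oMask1).card = 28 := (card_mIdx _).trans c1
  have hk2 : (mIdx oMask2).card = 120 := (card_mIdx _).trans c2
  have hk3 : (mIdx oMask3).card = 840 := (card_mIdx _).trans c3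
  have hN := T.card_norm_eq hcl
  have hbad : ∀ p, p.Prime → p ≠ 2 → p ∣ T.tIdx.card → ∃ j, 1 ≤ j ∧ j ≤ 10 ∧ p ∣ 2 ^ j - 1 :=
    fun p hp hp2 hd => prime_small T.std_elem T.card_std T.std_self hp hp2 (by
      rw [hN]; exact hd.mul_right _)
  have hout : T.tIdx.card ≠ 28 := by
    intro h28
    have he : mIdx oMask1 = T.tIdx :=
      Finset.eq_of_subset_of_card_le
        (fun n hn => T.mem_tIdx.2 ⟨(mem_mIdx.1 hn).1, fun e => by
          have := (mem_mIdx.1 hn).2
          rw [e, hzero.1] at this; exact Bool.noConfusion this,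
          z1 n (mem_mIdx.1 hn).1 (mem_mIdx.1 hn).2⟩) (by rw [hk1, h28])
    obtain ⟨n, hn, hm, hz⟩ := T.exists_outer_std
    have hmem : n ∈ T.tIdx := T.mem_tIdx.2 ⟨hn, fun e => hm (by rw [e]; exact mapp_zero _), hz⟩
    rw [← he] at hmem
    exact hm (h1 n hn (mem_mIdx.1 hmem).2).1
  have hab : a ∧ ¬ b := by
    by_cases ha : a <;> by_cases hb : b
    · exact absurd (by rw [hset, if_pos ha, if_pos hb, Finset.union_empty, Finset.union_empty, hk1]) hout
    · exact ⟨ha, hb⟩
    · exfalso
      obtain ⟨j, h1', h2', h'⟩ := hbad 37 (by norm_num) (by norm_num) (by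
        rw [hset, if_neg ha, if_pos hb, Finset.union_empty, Finset.card_union_of_disjoint d12, hk1, hk2]
        norm_num)
      exact bad_primes.1 j h1' h2' h'
    · exfalso
      obtain ⟨j, h1', h2', h'⟩ := hbad 19 (by norm_num) (by norm_num) (by
        rw [hset, if_neg ha, if_neg hb, Finset.card_union_of_disjoint (Finset.disjoint_union_left.2 ⟨d13, d23⟩),
          Finset.card_union_of_disjoint d12, hk1, hk2, hk3]
        norm_num)
      exact bad_primes.2 j h1' h2' h'
  refine ⟨fun n hn hn0 => ⟨fun hz => ?_, ?_⟩, ?_⟩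
  · rcases hcov n hn hn0 with h | h | h | h
    · exact Or.inl h
    · exact absurd hz (z1 n hn h)
    · exact Or.inr h
    · exact absurd ((T.mask_class (fun h => T.rel_mask3 h) h).1 hz) hab.2
  · rintro (h | h)
    · exact z0 n hn h
    · exact (T.mask_class (fun h => T.rel_mask2 h) h).2 hab.1
  · rw [hset, if_pos hab.1, if_neg hab.2, Finset.union_empty, Finset.card_union_of_disjoint d13, hk1, hk3]

theorem card_norm (hcl : T.ClassLe) : Nat.card ↥(normalizer (T.std : Set G)) = 868 * 11796480 := by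
  rw [T.card_norm_eq hcl, (T.classes_std hcl).2]

end Sect

end Cfsg.Agent.TenLocal
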