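import Cfsg.Agent.TenLocal.Defs

/-!
# A group of order `|SL(5, 2)|` acting linearly on the exterior square and preserving lines
-/

set_option autoImplicit false

namespace Cfsg.Agent.TenLocal

namespace LFive

/-- Sum of two vectors of the exterior square. -/
def vx (a b : Fin 1024) : Fin 1024 := Fin.ofNat 1024 (Nat.xor a.val b.val)

/-- Sum of two points. -/
def px (a b : Fin 32) : Fin 32 := Fin.ofNat 32 (Nat.xor a.val b.val)

theorem vx_val (a b : Fin 1024) : (vx a b).val = a.val ^^^ b.val :=
  Nat.mod_eq_of_lt (Nat.xor_lt_two_pow (n := 10) a.isLt b.isLt)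

theorem px_val (a b : Fin 32) : (px a b).val = a.val ^^^ b.val :=
  Nat.mod_eq_of_lt (Nat.xor_lt_two_pow (n := 5) a.isLt b.isLt)

theorem vx_comm (a b : Fin 1024) : vx a b = vx b a := by ext; simp [vx_val, Nat.xor_comm]
theorem vx_assoc (a b c : Fin 1024) : vx (vx a b) c = vx a (vx b c) := by
  ext; simp [vx_val, Nat.xor_assoc]
@[simp] theorem vx_self (a : Fin 1024) : vx a a = 0 := by ext; simp [vx_val]
@[simp] theorem vx_zero (a : Fin 1024) : vx a 0 = a := by ext; simp [vx_val]
@[simp] theorem zero_vx (a : Fin 1024) : vx 0 a = a := by ext; simp [vx_val]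
@[simp] theorem vx_cancel (a b : Fin 1024) : vx a (vx a b) = b := by
  rw [← vx_assoc]; simp
theorem px_comm (a b : Fin 32) : px a b = px b a := by ext; simp [px_val, Nat.xor_comm]
theorem px_assoc (a b c : Fin 32) : px (px a b) c = px a (px b c) := by
  ext; simp [px_val, Nat.xor_assoc]
@[simp] theorem px_self (a : Fin 32) : px a a = 0 := by ext; simp [px_val]
@[simp] theorem px_zero (a : Fin 32) : px a 0 = a := by ext; simp [px_val]
@[simp] theorem zero_px (a : Fin 32) : px 0 a = a := by ext; simp [px_val]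
@[simp] theorem px_cancel (a b : Fin 32) : px a (px a b) = b := by
  rw [← px_assoc]; simp

theorem vx_eq_zero {a b : Fin 1024} (h : vx a b = 0) : a = b := by
  have := congrArg (vx a) h
  simpa using this.symm

theorem px_eq_zero {a b : Fin 32} (h : px a b = 0) : a = b := by
  have := congrArg (px a) h
  simpa using this.symm

/-- Membership in the three points of the line through `a` and `b`. -/
def mem3 (x a b : Fin 32) : Bool := x == a || x == b || x == px a b

/-- Canonical pairs. -/
def canB (a b : Fin 32) : Bool :=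
  decide (0 < a.val) && decide (a.val < b.val) && decide (b.val < (px a b).val)

def canPair (a b : Fin 32) : Fin 32 × Fin 32 :=
  let c := px a b
  (min a (min b c), max (min a b) (min (max a b) c))

/-- The list of canonical pairs. -/
def canList : List (Fin 32 × Fin 32) :=
  (List.finRange 32).flatMap fun a =>
    ((List.finRange 32).filter fun b => canB a b).map fun b => (a, b)

/-- The lines, as a bit mask. -/
def lineMask : ℕ :=
  0x1881248100002841000000001441428100000000818182410000000041414821000084210000000088110000441100001221000021210000221100001111600990090000000000000000a00550050000000006090909000000000a05050500000000000000000069009900a50055c00330030c03030300c30033000ffffe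

theorem can_check : ∀ a b : Fin 32,
    if a = 0 ∨ b = 0 ∨ a = b then wedge a b = 0
    else wedge a b ≠ 0 ∧ lineMask.testBit (wedge a b).val = true ∧
      wedge (canPair a b).1 (canPair a b).2 = wedge a b ∧ canB (canPair a b).1 (canPair a b).2 = true ∧
      mem3 (canPair a b).1 a b = true ∧ mem3 (canPair a b).2 a b = true ∧
      mem3 a (canPair a b).1 (canPair a b).2 = true ∧ mem3 b (canPair a b).1 (canPair a b).2 = true := by
  decide +kernel

theorem meet_check : (canList.all fun u => canList.all fun w =>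
    (u == w || wedge u.1 u.2 != wedge w.1 w.2) &&
      (!(lineMask.testBit ((wedge u.1 u.2).val ^^^ (wedge w.1 w.2).val)) ||
        mem3 w.1 u.1 u.2 || mem3 w.2 u.1 u.2 || mem3 (px w.1 w.2) u.1 u.2)) = true := by
  decide +kernel

theorem wedge_add_basis : ∀ r a : Fin 32, ∀ k : Fin 5,
    wedge r (px a ⟨2 ^ k.val % 32, Nat.mod_lt _ (by norm_num)⟩) =
      vx (wedge r a) (wedge r ⟨2 ^ k.val % 32, Nat.mod_lt _ (by norm_num)⟩) := by
  decide +kernel

theorem point_split : ∀ b : Fin 32, b = 0 ∨ ∃ k : Fin 5,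
    (px b ⟨2 ^ k.val % 32, Nat.mod_lt _ (by norm_num)⟩).val < b.val := by
  decide +kernel

theorem wedge_comm : ∀ a b : Fin 32, wedge a b = wedge b a := by decide +kernel

theorem star_card : ∀ p : Fin 32, p ≠ 0 →
    (Finset.univ.image (fun q => wedge p q)).card = 16 := by decide +kernel

theorem two_points : ∀ p : Fin 32, ∃ q r : Fin 32,
    p = 0 ∨ (q ≠ 0 ∧ q ≠ p ∧ r ≠ 0 ∧ r ≠ p ∧ r ≠ q ∧ r ≠ px p q) := by decide +kernel

attribute [local irreducible] wedge

theorem wedge_deg {a b : Fin 32} (h : a = 0 ∨ b = 0 ∨ a = b) : wedge a b = 0 := by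
  have := can_check a b
  rwa [if_pos h] at this

@[simp] theorem wedge_zero_right (a : Fin 32) : wedge a 0 = 0 := wedge_deg (Or.inr (Or.inl rfl))
@[simp] theorem wedge_zero_left (a : Fin 32) : wedge 0 a = 0 := wedge_deg (Or.inl rfl)
@[simp] theorem wedge_self (a : Fin 32) : wedge a a = 0 := wedge_deg (Or.inr (Or.inr rfl))

theorem nondeg {a b : Fin 32} (h : wedge a b ≠ 0) : ¬ (a = 0 ∨ b = 0 ∨ a = b) :=
  fun h' => h (wedge_deg h')

theorem wedge_ne_zero {a b : Fin 32} (ha : a ≠ 0) (hb : b ≠ 0) (hab : a ≠ b) : wedge a b ≠ 0 := by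
  have := can_check a b
  rw [if_neg (by tauto)] at this
  exact this.1

theorem wedge_add (r a b : Fin 32) : wedge r (px a b) = vx (wedge r a) (wedge r b) := by
  induction hn : b.val using Nat.strong_induction_on generalizing a b with
  | _ n ih =>
    rcases point_split b with rfl | ⟨k, hk⟩
    · simp
    · set e : Fin 32 := ⟨2 ^ k.val % 32, Nat.mod_lt _ (by norm_num)⟩ with he
      set c := px b e with hc
      have hb : b = px c e := by rw [hc, px_assoc, px_self, px_zero]
      rw [hb, ← px_assoc, he, wedge_add_basis, wedge_add_basis, ← he,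
        ih c.val (hn ▸ hk) a c rfl, vx_assoc]

theorem line_mask {v : Fin 1024} (h : IsLine v) : lineMask.testBit v.val = true := by
  obtain ⟨h0, a, b, rfl⟩ := h
  have := can_check a b
  rw [if_neg (nondeg h0)] at this
  exact this.2.1

theorem isLine_wedge {a b : Fin 32} (h : wedge a b ≠ 0) : IsLine (wedge a b) := ⟨h, a, b, rfl⟩

theorem mem3_iff {x a b : Fin 32} : mem3 x a b = true ↔ x = a ∨ x = b ∨ x = px a b := by
  simp [mem3, or_assoc]

theorem mem3_trans {x a b c d : Fin 32} (hx : mem3 x a b = true) (ha : mem3 a c d = true)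
    (hb : mem3 b c d = true) : x = 0 ∨ mem3 x c d = true := by
  rw [mem3_iff] at *
  have h1 : px d c = px c d := px_comm _ _
  have h2 : px (px c d) c = d := by rw [px_comm, px_cancel]
  have h3 : px (px c d) d = c := by rw [px_assoc, px_self, px_zero]
  have h4 : px d (px c d) = c := by rw [px_comm, h3]
  rcases ha with rfl | rfl | rfl <;> rcases hb with rfl | rfl | rfl <;>
    rcases hx with rfl | rfl | rfl <;> simp [h1, h2, h3, h4]

theorem mem_canList {a b : Fin 32} (h : canB a b = true) : (a, b) ∈ canList := by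
  simp [canList, h]

theorem line_data {a b : Fin 32} (h : wedge a b ≠ 0) :
    ∃ c d, (c, d) ∈ canList ∧ wedge c d = wedge a b ∧
      mem3 c a b = true ∧ mem3 d a b = true ∧ mem3 a c d = true ∧ mem3 b c d = true := by
  have := can_check a b
  rw [if_neg (nondeg h)] at this
  exact ⟨_, _, mem_canList this.2.2.2.1, this.2.2.1, this.2.2.2.2⟩

/-- A point on a line is one of its three points. -/
theorem on_line {c y d e : Fin 32} (h : wedge c y = wedge d e) (h0 : wedge d e ≠ 0) :
    mem3 c d e = true := by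
  obtain ⟨p, q, hpq, hw, hp, hq, -, -⟩ := line_data h0
  obtain ⟨p', q', hpq', hw', -, -, hc, -⟩ := line_data (h ▸ h0 : wedge c y ≠ 0)
  have hm := List.all_eq_true.mp (List.all_eq_true.mp meet_check _ hpq) _ hpq'
  simp only [Bool.and_eq_true, Bool.or_eq_true, bne_iff_ne, beq_iff_eq] at hm
  have he : (p, q) = (p', q') := hm.1.resolve_right (fun hne => hne (by rw [hw, hw', h]))
  obtain ⟨rfl, rfl⟩ := Prod.mk.inj he
  exact (mem3_trans hc hp hq).resolve_left (fun hc0 => h0 (by rw [← h, hc0, wedge_zero_left]))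

/-- Two distinct points of a line span it. -/
theorem span_line {d e i j : Fin 32} (hi : mem3 i d e = true) (hj : mem3 j d e = true) (hij : i ≠ j) :
    wedge i j = wedge d e := by
  rw [mem3_iff] at *
  have hc := wedge_comm e d
  have h1 : wedge d (px d e) = wedge d e := by rw [wedge_add, wedge_self, zero_vx]
  have h2 : wedge e (px d e) = wedge d e := by rw [wedge_add, wedge_self, vx_zero, hc]
  rcases hi with rfl | rfl | rfl <;> rcases hj with rfl | rfl | rfl <;>
    first
    | exact absurd rfl hij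
    | with_reducible rfl
    | with_reducible exact hc
    | with_reducible exact h1
    | with_reducible exact h2
    | with_reducible exact (wedge_comm _ _).trans h1
    | with_reducible exact (wedge_comm _ _).trans h2

/-- Two lines whose sum is a line have a common point. -/
theorem meet {a b d e : Fin 32} (h : wedge a b ≠ 0) (h' : wedge d e ≠ 0)
    (hl : IsLine (vx (wedge a b) (wedge d e))) :
    ∃ c, c ≠ 0 ∧ mem3 c a b = true ∧ mem3 c d e = true := by
  obtain ⟨p, q, hpq, hw, hp, hq, -, -⟩ := line_data h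
  obtain ⟨p', q', hpq', hw', hp', hq', -, -⟩ := line_data h'
  have hm := List.all_eq_true.mp (List.all_eq_true.mp meet_check _ hpq) _ hpq'
  simp only [Bool.and_eq_true, Bool.or_eq_true, bne_iff_ne, beq_iff_eq, Bool.not_eq_true'] at hm
  have hbit := line_mask hl
  rw [vx_val, ← hw, ← hw'] at hbit
  rw [← hw'] at h'
  obtain ⟨c, hc, hc0, hc'⟩ : ∃ c, mem3 c p q = true ∧ c ≠ 0 ∧ mem3 c p' q' = true := by
    have hn := nondeg h'
    rcases hm.2 with ((hh | hh) | hh) | hh
    · simp [hbit] at hh
    · exact ⟨p', hh, fun h0 => hn (Or.inl h0), by simp [mem3]⟩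
    · exact ⟨q', hh, fun h0 => hn (Or.inr (Or.inl h0)), by simp [mem3]⟩
    · exact ⟨px p' q', hh, fun h0 => hn (Or.inr (Or.inr (px_eq_zero h0))), by simp [mem3]⟩
  exact ⟨c, hc0, (mem3_trans hc hp hq).resolve_left hc0,
    (mem3_trans hc' hp' hq').resolve_left hc0⟩

theorem other_point {c a b : Fin 32} (hc : mem3 c a b = true) (h : wedge a b ≠ 0) :
    ∃ y, wedge c y = wedge a b := by
  rcases mem3_iff.1 hc with rfl | rfl | rfl
  · exact ⟨b, rfl⟩
  · exact ⟨a, wedge_comm _ _⟩
  · exact ⟨a, span_line hc (by simp [mem3]) fun e => nondeg h (Or.inr (Or.inl (by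
      have := congrArg (px a) e
      simpa using this)))⟩

/-- Lines of the star at a point. -/
def star (p : Fin 32) : Finset (Fin 1024) := Finset.univ.image fun q => wedge p q

theorem mem_star {p : Fin 32} {w : Fin 1024} : w ∈ star p ↔ ∃ q, wedge p q = w := by simp [star]

/-- The span of three vectors. -/
def span3 (u x m : Fin 1024) : Finset (Fin 1024) :=
  {0, u, x, vx u x, m, vx m u, vx m x, vx m (vx u x)}

theorem span3_card (u x m : Fin 1024) : (span3 u x m).card ≤ 8 := by
  rw [span3]
  iterate 7 refine (Finset.card_insert_le _ _).trans (Nat.add_le_add_right ?_ 1)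
  simp

theorem span3_closed {u x m v w : Fin 1024} (hv : v ∈ span3 u x m) (hw : w ∈ span3 u x m) :
    vx v w ∈ span3 u x m := by
  have lc : ∀ a b c : Fin 1024, vx a (vx b c) = vx b (vx a c) := fun a b c => by
    rw [← vx_assoc, vx_comm a b, vx_assoc]
  simp only [span3, Finset.mem_insert, Finset.mem_singleton] at *
  rcases hv with rfl | rfl | rfl | rfl | rfl | rfl | rfl | rfl <;>
    rcases hw with rfl | rfl | rfl | rfl | rfl | rfl | rfl | rfl <;>
    simp [vx_comm, lc]

theorem star_closed {p : Fin 32} {v w : Fin 1024} (hv : v ∈ star p) (hw : w ∈ star p) :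
    vx v w ∈ star p := by
  obtain ⟨a, rfl⟩ := mem_star.1 hv
  obtain ⟨b, rfl⟩ := mem_star.1 hw
  exact mem_star.2 ⟨_, wedge_add p a b⟩

/-- A linear bijection that sends lines to lines. -/
structure LineMap where
  /-- The bijection. -/
  toPerm : Equiv.Perm (Fin 1024)
  map_vx : ∀ a b, toPerm (vx a b) = vx (toPerm a) (toPerm b)
  map_line : ∀ v, IsLine v → IsLine (toPerm v)

theorem LineMap.map_zero (g : LineMap) : g.toPerm 0 = 0 := by
  have := g.map_vx 0 0
  simpa using this

theorem LineMap.ne_zero (g : LineMap) {v : Fin 1024} (h : v ≠ 0) : g.toPerm v ≠ 0 := fun h' =>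
  h (g.toPerm.injective (h'.trans g.map_zero.symm))

/-- A line map sends a star onto a star. -/
theorem LineMap.exists_point (g : LineMap) (p : Fin 32) (hp : p ≠ 0) :
    ∃ c, c ≠ 0 ∧ (star p).image g.toPerm = star c := by
  obtain ⟨q, r, h⟩ := two_points p
  obtain ⟨hq0, hqp, hr0, hrp, hrq, hrpq⟩ := h.resolve_left hp
  set S := (star p).image g.toPerm with hS
  have hScard : S.card = 16 := by
    rw [hS, Finset.card_image_of_injective _ g.toPerm.injective]; exact star_card p hp
  have hmem : ∀ a, g.toPerm (wedge p a) ∈ S := fun a =>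
    Finset.mem_image_of_mem _ (mem_star.2 ⟨a, rfl⟩)
  have hSline : ∀ v ∈ S, v ≠ 0 → IsLine v := by
    intro v hv hv0
    obtain ⟨w, hw, rfl⟩ := Finset.mem_image.1 hv
    obtain ⟨a, rfl⟩ := mem_star.1 hw
    exact g.map_line _ (isLine_wedge fun h0 => hv0 (by rw [h0, g.map_zero]))
  have hSclosed : ∀ v ∈ S, ∀ w ∈ S, vx v w ∈ S := by
    intro v hv w hw
    obtain ⟨v', hv', rfl⟩ := Finset.mem_image.1 hv
    obtain ⟨w', hw', rfl⟩ := Finset.mem_image.1 hw
    rw [← g.map_vx]
    exact Finset.mem_image_of_mem _ (star_closed hv' hw')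
  have hu0 : g.toPerm (wedge p q) ≠ 0 := g.ne_zero (wedge_ne_zero hp hq0 (Ne.symm hqp))
  have hx0 : g.toPerm (wedge p r) ≠ 0 := g.ne_zero (wedge_ne_zero hp hr0 (Ne.symm hrp))
  have hux0 : vx (g.toPerm (wedge p q)) (g.toPerm (wedge p r)) ≠ 0 := by
    rw [← g.map_vx, ← wedge_add]
    refine g.ne_zero (wedge_ne_zero hp (fun h0 => hrq (px_eq_zero h0).symm) fun h0 => hrpq ?_)
    rw [h0, px_comm (px q r) q, px_cancel]
  obtain ⟨-, a, a', hu⟩ := hSline _ (hmem q) hu0
  obtain ⟨-, b, b', hx⟩ := hSline _ (hmem r) hx0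
  have huS : wedge a a' ∈ S := hu ▸ hmem q
  have hxS : wedge b b' ∈ S := hx ▸ hmem r
  rw [← hu] at hu0 hux0
  rw [← hx] at hx0 hux0
  obtain ⟨c, hc0, hca, hcb⟩ := meet hu0 hx0 (hSline _ (hSclosed _ huS _ hxS) hux0)
  obtain ⟨y, hy⟩ := other_point hca hu0
  obtain ⟨z, hz⟩ := other_point hcb hx0
  rw [← hy] at hu0 hux0 huS
  rw [← hz] at hx0 hux0 hxS
  set u := wedge c y
  set x := wedge c z
  set P := span3 u x (wedge y z)
  have hcover : ∀ w ∈ S, w ∈ star c ∨ w ∈ P := by
    intro w hw
    by_cases hwu : w = u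
    · exact Or.inl (mem_star.2 ⟨y, hwu.symm⟩)
    by_cases hwx : w = x
    · exact Or.inl (mem_star.2 ⟨z, hwx.symm⟩)
    by_cases hw0 : w = 0
    · exact Or.inl (mem_star.2 ⟨0, by rw [hw0, wedge_zero_right]⟩)
    obtain ⟨-, d, e, rfl⟩ := hSline w hw hw0
    obtain ⟨i, hi0, hiu, hid⟩ := meet (a := c) (b := y) hu0 hw0
      (hSline _ (hSclosed _ huS _ hw) fun h0 => hwu (vx_eq_zero h0).symm)
    obtain ⟨j, hj0, hjx, hjd⟩ := meet (a := c) (b := z) hx0 hw0
      (hSline _ (hSclosed _ hxS _ hw) fun h0 => hwx (vx_eq_zero h0).symm)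
    by_cases hic : i = c
    · exact Or.inl (mem_star.2 (other_point (hic ▸ hid) hw0))
    by_cases hjc : j = c
    · exact Or.inl (mem_star.2 (other_point (hjc ▸ hjd) hw0))
    have hij : i ≠ j := by
      intro e'
      subst e'
      refine hux0 ?_
      rw [show u = wedge c i from (span_line (by simp [mem3]) hiu (Ne.symm hic)).symm,
        show x = wedge c i from (span_line (by simp [mem3]) hjx (Ne.symm hic)).symm, vx_self]
    right
    rw [← span_line hid hjd hij]
    have hswap : ∀ k, wedge (px c y) k = vx (wedge c k) (wedge y k) := fun k => by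
      rw [wedge_comm, wedge_add, wedge_comm k c, wedge_comm k y]
    have e1 : wedge y c = u := wedge_comm y c
    have hm : wedge y z ∈ P := by simp [P, span3]
    have hu' : u ∈ P := by simp [P, span3]
    have hx' : x ∈ P := by simp [P, span3]
    rcases (mem3_iff.1 hiu) with rfl | rfl | rfl
    · exact absurd rfl hic
    · rcases (mem3_iff.1 hjx) with rfl | rfl | rfl
      · exact absurd rfl hjc
      · exact hm
      · rw [wedge_add, e1]; exact span3_closed hu' hm
    · rcases (mem3_iff.1 hjx) with rfl | rfl | rfl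
      · exact absurd rfl hjc
      · rw [hswap]; exact span3_closed hx' hm
      · rw [wedge_add, hswap, hswap, wedge_self, zero_vx, e1]
        exact span3_closed hu' (span3_closed hx' hm)
  refine ⟨c, hc0, Finset.eq_of_subset_of_card_le ?_ (by rw [hScard]; exact (star_card c hc0).le)⟩
  by_contra hsub
  obtain ⟨v, hv, hvc⟩ := Finset.not_subset.1 hsub
  have hSP : S ⊆ P := by
    intro w hw
    by_contra hwP
    have hwc := (hcover w hw).resolve_right hwP
    have hvP := (hcover v hv).resolve_left hvc
    rcases hcover _ (hSclosed v hv w hw) with h1 | h1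
    · refine hvc ?_
      have h2 := star_closed h1 hwc
      rwa [vx_assoc, vx_self, vx_zero] at h2
    · exact hwP (by simpa using span3_closed hvP h1)
  have := (Finset.card_le_card hSP).trans (span3_card u x _)
  omega

/-- The point map. -/
noncomputable def LineMap.pt (g : LineMap) (p : Fin 32) : Fin 32 :=
  if hp : p = 0 then 0 else (g.exists_point p hp).choose

theorem LineMap.pt_zero (g : LineMap) : g.pt 0 = 0 := dif_pos rfl

theorem LineMap.pt_spec (g : LineMap) {p : Fin 32} (hp : p ≠ 0) :
    g.pt p ≠ 0 ∧ (star p).image g.toPerm = star (g.pt p) := by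
  rw [LineMap.pt, dif_neg hp]; exact (g.exists_point p hp).choose_spec

theorem star_inj {p q : Fin 32} (hp : p ≠ 0) (hq : q ≠ 0) (h : star p = star q) : p = q := by
  by_contra hpq
  have hs : star p ⊆ {0, wedge q p} := by
    intro w hw
    by_cases hw0 : w = 0
    · simp [hw0]
    obtain ⟨a, rfl⟩ := mem_star.1 hw
    obtain ⟨b, hb⟩ := mem_star.1 (h ▸ hw)
    have hqa := on_line hb hw0
    simp [span_line hqa (by simp [mem3] : mem3 p p a = true) (Ne.symm hpq)]
  have := (Finset.card_le_card hs).trans Finset.card_le_two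
  rw [star, star_card p hp] at this
  omega

theorem LineMap.pt_eq (g : LineMap) {p c : Fin 32} (hp : p ≠ 0) (hc : c ≠ 0)
    (h : ∀ q, g.toPerm (wedge p q) ∈ star c) : g.pt p = c := by
  obtain ⟨h0, he⟩ := g.pt_spec hp
  refine star_inj h0 hc (Finset.eq_of_subset_of_card_le ?_ ?_)
  · rw [← he]
    intro w hw
    obtain ⟨v, hv, rfl⟩ := Finset.mem_image.1 hw
    obtain ⟨q, rfl⟩ := mem_star.1 hv
    exact h q
  · rw [star, star, star_card c hc, star_card _ h0]

theorem LineMap.pt_injective (g : LineMap) : Function.Injective g.pt := by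
  intro p q h
  by_cases hp : p = 0
  · subst hp
    by_contra hq
    exact (g.pt_spec (Ne.symm hq)).1 (h ▸ g.pt_zero)
  by_cases hq : q = 0
  · subst hq
    exact absurd (h.trans g.pt_zero) (g.pt_spec hp).1
  refine star_inj hp hq (Finset.image_injective g.toPerm.injective ?_)
  rw [(g.pt_spec hp).2, (g.pt_spec hq).2, h]

theorem LineMap.mem_star_pt (g : LineMap) {p : Fin 32} (hp : p ≠ 0) (q : Fin 32) :
    g.toPerm (wedge p q) ∈ star (g.pt p) := by
  rw [← (g.pt_spec hp).2]; exact Finset.mem_image_of_mem _ (mem_star.2 ⟨q, rfl⟩)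

theorem LineMap.pt_add (g : LineMap) (p q : Fin 32) : g.pt (px p q) = px (g.pt p) (g.pt q) := by
  by_cases hp : p = 0
  · simp [hp, g.pt_zero]
  by_cases hq : q = 0
  · simp [hq, g.pt_zero]
  by_cases hpq : p = q
  · simp [hpq, g.pt_zero]
  have hl := wedge_ne_zero hp hq hpq
  have hr : px p q ≠ 0 := fun h0 => hpq (px_eq_zero h0)
  obtain ⟨a, ha⟩ := mem_star.1 (g.mem_star_pt hp q)
  obtain ⟨b, hb⟩ := mem_star.1 (g.mem_star_pt hq p)
  obtain ⟨d, hd⟩ := mem_star.1 (g.mem_star_pt hr p)
  rw [wedge_comm q p] at hb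
  rw [wedge_comm (px p q) p, wedge_add, wedge_self, zero_vx] at hd
  have hA : wedge (g.pt p) a ≠ 0 := ha ▸ g.ne_zero hl
  have hqa := on_line (hb.trans ha.symm) hA
  have hra := on_line (hd.trans ha.symm) hA
  have h1 : g.pt q ≠ g.pt p := fun e => hpq (g.pt_injective e).symm
  have h2 : g.pt (px p q) ≠ g.pt p := fun e => hq (by
    have := congrArg (px p) (g.pt_injective e)
    simpa using this)
  have h3 : g.pt (px p q) ≠ g.pt q := fun e => hp (by
    have := congrArg (px q) (g.pt_injective e)
    simpa [px_comm p q] using this)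
  rw [mem3_iff] at hqa hra
  rcases hqa with e | e | e
  · exact absurd e h1
  · rcases hra with e' | e' | e'
    · exact absurd e' h2
    · exact absurd (e'.trans e.symm) h3
    · rw [e', e]
  · rcases hra with e' | e' | e'
    · exact absurd e' h2
    · rw [e', e, px_cancel]
    · exact absurd (e'.trans e.symm) h3

theorem LineMap.map_wedge (g : LineMap) (p q : Fin 32) :
    g.toPerm (wedge p q) = wedge (g.pt p) (g.pt q) := by
  by_cases hp : p = 0
  · simp [hp, g.pt_zero, g.map_zero]
  by_cases hq : q = 0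
  · simp [hq, g.pt_zero, g.map_zero]
  by_cases hpq : p = q
  · simp [hpq, g.map_zero]
  obtain ⟨a, ha⟩ := mem_star.1 (g.mem_star_pt hp q)
  obtain ⟨b, hb⟩ := mem_star.1 (g.mem_star_pt hq p)
  rw [wedge_comm q p] at hb
  have hA : wedge (g.pt p) a ≠ 0 := ha ▸ g.ne_zero (wedge_ne_zero hp hq hpq)
  have hqa := on_line (hb.trans ha.symm) hA
  rw [← ha, span_line (by simp [mem3]) hqa fun e => hpq (g.pt_injective e)]

theorem basis_line : ∀ k : Fin 10, ∃ a b : Fin 32,
    wedge a b = ⟨2 ^ k.val % 1024, Nat.mod_lt _ (by norm_num)⟩ := by decide +kernel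

theorem vector_split : ∀ v : Fin 1024, v = 0 ∨ ∃ k : Fin 10,
    (vx v ⟨2 ^ k.val % 1024, Nat.mod_lt _ (by norm_num)⟩).val < v.val := by
  decide +kernel

theorem LineMap.ext_pt (g g' : LineMap) (h : ∀ p, g.pt p = g'.pt p) : g.toPerm = g'.toPerm := by
  refine Equiv.ext fun v => ?_
  induction hn : v.val using Nat.strong_induction_on generalizing v with
  | _ n ih =>
    rcases vector_split v with rfl | ⟨k, hk⟩
    · rw [g.map_zero, g'.map_zero]
    · obtain ⟨a, b, hab⟩ := basis_line k
      rw [← hab] at hk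
      have hv : v = vx (vx v (wedge a b)) (wedge a b) := by rw [vx_assoc, vx_self, vx_zero]
      rw [hv, g.map_vx, g'.map_vx, ih _ (hn ▸ hk) _ rfl, g.map_wedge, g'.map_wedge, h, h]

/-- Points as coordinate vectors. -/
def enc : (Fin 5 → ZMod 2) ≃ Fin 32 := (finFunctionFinEquiv (m := 2) (n := 5))

set_option maxRecDepth 100000 in
theorem enc_add : ∀ v w : Fin 5 → ZMod 2, enc (v + w) = px (enc v) (enc w) := by decide +kernel

/-- The linear map of the point map. -/
noncomputable def LineMap.lin (g : LineMap) : (Fin 5 → ZMod 2) →ₗ[ZMod 2] (Fin 5 → ZMod 2) :=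
  AddMonoidHom.toZModLinearMap 2 (AddMonoidHom.mk' (fun v => enc.symm (g.pt (enc v))) fun v w => by
    apply enc.injective
    simp only [enc_add, Equiv.apply_symm_apply, g.pt_add])

theorem LineMap.lin_apply (g : LineMap) (v : Fin 5 → ZMod 2) :
    g.lin v = enc.symm (g.pt (enc v)) := rfl

theorem units_two : ∀ x : ZMod 2, x ≠ 0 → x = 1 := by decide

theorem LineMap.det_lin (g : LineMap) : (LinearMap.toMatrix' g.lin).det = 1 := by
  refine units_two _ ?_
  have hinj : Function.Injective g.lin := fun v w h =>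
    enc.injective (g.pt_injective (enc.symm.injective h))
  rw [LinearMap.det_toMatrix']
  intro h0
  have hb : LinearMap.ker g.lin ≠ ⊥ := (LinearMap.bot_lt_ker_of_det_eq_zero h0).ne'
  exact hb (LinearMap.ker_eq_bot.2 hinj)

/-- The matrix of a line map. -/
noncomputable def LineMap.mat (g : LineMap) : Matrix.SpecialLinearGroup (Fin 5) (ZMod 2) :=
  ⟨LinearMap.toMatrix' g.lin, g.det_lin⟩

theorem card_sl_five : Nat.card (Matrix.SpecialLinearGroup (Fin 5) (ZMod 2)) = 9999360 := by
  have h : Function.Bijective (Matrix.SpecialLinearGroup.toGL :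
      Matrix.SpecialLinearGroup (Fin 5) (ZMod 2) → GL (Fin 5) (ZMod 2)) := by
    refine ⟨fun a b e => Subtype.ext (congrArg Units.val e), fun u => ?_⟩
    have hu : Matrix.det (u : Matrix (Fin 5) (Fin 5) (ZMod 2)) = 1 :=
      units_two _ ((Matrix.isUnit_iff_isUnit_det (u : Matrix (Fin 5) (Fin 5) (ZMod 2))).1 u.isUnit).ne_zero
    refine ⟨⟨_, hu⟩, ?_⟩
    apply Units.ext
    exact Matrix.SpecialLinearGroup.coe_GL_coe_matrix _
  rw [Nat.card_congr (Equiv.ofBijective _ h), Matrix.card_GL_field]
  simp only [Fin.prod_univ_five, ZMod.card]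
  norm_num

end LFive

open LFive in
/-- A linear group on the exterior square of the order of `SL(5, 2)` that preserves the lines is
`SL(5, 2)`. -/
theorem equiv_sl_five {X : Type*} [Group X] [Finite X] (s : X →* Equiv.Perm (Fin 1024))
    (hinj : Function.Injective s)
    (hlin : ∀ g a b, (s g (Fin.ofNat 1024 (Nat.xor a.val b.val))).val =
      Nat.xor (s g a).val (s g b).val)
    (hline : ∀ g v, IsLine v → IsLine (s g v)) (hcard : Nat.card X = 9999360) :
    Nonempty (X ≃* Matrix.SpecialLinearGroup (Fin 5) (ZMod 2)) := by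
  let L : X → LineMap := fun g =>
    ⟨s g, fun a b => Fin.ext ((hlin g a b).trans (vx_val _ _).symm), hline g⟩
  have hmul : ∀ g h p, (L (g * h)).pt p = (L g).pt ((L h).pt p) := by
    intro g h p
    by_cases hp : p = 0
    · simp [hp, LineMap.pt_zero]
    refine (L (g * h)).pt_eq hp ((L g).pt_spec ((L h).pt_spec hp).1).1 fun q => ?_
    change s (g * h) (wedge p q) ∈ _
    rw [map_mul, Equiv.Perm.mul_apply]
    change (L g).toPerm ((L h).toPerm (wedge p q)) ∈ _
    rw [(L h).map_wedge]
    exact (L g).mem_star_pt ((L h).pt_spec hp).1 _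
  let f : X →* Matrix.SpecialLinearGroup (Fin 5) (ZMod 2) :=
    MonoidHom.mk' (fun g => (L g).mat) fun g h => by
      apply Subtype.ext
      rw [Matrix.SpecialLinearGroup.coe_mul]
      change LinearMap.toMatrix' _ = LinearMap.toMatrix' _ * LinearMap.toMatrix' _
      rw [← LinearMap.toMatrix'_comp]
      congr 1
      refine LinearMap.ext fun v => ?_
      simp only [LinearMap.comp_apply, LineMap.lin_apply, Equiv.apply_symm_apply, hmul]
  have hf : Function.Injective f := by
    intro g h e
    have e' : (L g).lin = (L h).lin := LinearMap.toMatrix'.injective (congrArg Subtype.val e)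
    refine hinj ((L g).ext_pt (L h) fun p => ?_)
    have := LinearMap.congr_fun e' (enc.symm p)
    simpa [LineMap.lin_apply] using this
  exact ⟨MulEquiv.ofBijective f ((Nat.bijective_iff_injective_and_card f).2
    ⟨hf, by rw [hcard, card_sl_five]⟩)⟩

end Cfsg.Agent.TenLocal
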