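import Mathlib.Data.Nat.Notation

/-! Generated data: the orbit masks and the decomposable elements. -/

set_option autoImplicit false
set_option linter.all false

namespace Cfsg.Agent.TenLocal.Oct

/-- An orbit as a mask. -/
def oMask0 : ℕ := 0x69009900a50055000000000000000000c30033000f00fe

/-- An orbit as a mask. -/
def oMask1 : ℕ := 0x960066005a00aa0000000000000000003c00cc00f00000

/-- An orbit as a mask. -/
def oMask2 : ℕ := 0x1881248100002841000000001441428100000000818182410000000041414821000084210000000088110000441100001221000021210000221100001111600990090000000000000000a00550050000000006090909000000000a05050500000000000000000000000000000000c00330030c030303000000000000ff00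

/-- An orbit as a mask. -/
def oMask3 : ℕ := 0xffffe77edb7effffd7beffffffffebbebd7effffffff7e7e7dbeffffffffbebeb7deffff7bdeffffffff77eeffffbbeeffffeddeffffdedeffffddeeffffeeee9ff66ff6ffffffffffffffff5ffaaffafffffffff9f6f6f6fffffffff5fafafaffffffffffffffffff00ff00ff00ff003ffccffcf3fcfcfcff00ff00ff000000

/-- Factors of the decomposable elements. -/
def lineWit : List (ℕ × ℕ × ℕ) :=
  [(1, 1, 2), (2, 1, 4), (3, 1, 6), (4, 1, 8), (5, 1, 10), (6, 1, 12), (7, 1, 14), (8, 1, 16),
   (9, 1, 18), (10, 1, 20), (11, 1, 22), (12, 1, 24), (13, 1, 26), (14, 1, 28), (15, 1, 30), (16, 2, 4),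
   (17, 2, 5), (18, 3, 4), (19, 3, 5), (32, 2, 8), (33, 2, 9), (36, 3, 8), (37, 3, 9), (48, 2, 12),
   (49, 2, 13), (54, 3, 12), (55, 3, 13), (64, 2, 16), (65, 2, 17), (72, 3, 16), (73, 3, 17), (80, 2, 20),
   (81, 2, 21), (90, 3, 20), (91, 3, 21), (96, 2, 24), (97, 2, 25), (108, 3, 24), (109, 3, 25), (112, 2, 28),
   (113, 2, 29), (126, 3, 28), (127, 3, 29), (128, 4, 8), (130, 4, 9), (132, 5, 8), (134, 5, 9), (144, 4, 10),
   (146, 4, 11), (149, 5, 10), (151, 5, 11), (160, 6, 8), (163, 6, 9), (164, 7, 8), (167, 7, 9), (176, 6, 10),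
   (179, 6, 11), (181, 7, 10), (182, 7, 11), (256, 4, 16), (258, 4, 17), (264, 5, 16), (266, 5, 17), (272, 4, 18),
   (274, 4, 19), (281, 5, 18), (283, 5, 19), (320, 6, 16), (323, 6, 17), (328, 7, 16), (331, 7, 17), (336, 6, 18),
   (339, 6, 19), (345, 7, 18), (346, 7, 19), (384, 4, 24), (386, 4, 25), (396, 5, 24), (398, 5, 25), (400, 4, 26),
   (402, 4, 27), (413, 5, 26), (415, 5, 27), (480, 6, 24), (483, 6, 25), (492, 7, 24), (495, 7, 25), (496, 6, 26),
   (499, 6, 27), (509, 7, 26), (510, 7, 27), (512, 8, 16), (516, 8, 17), (520, 9, 16), (524, 9, 17), (544, 8, 18),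
   (548, 8, 19), (553, 9, 18), (557, 9, 19), (576, 10, 16), (581, 10, 17), (584, 11, 16), (589, 11, 17), (608, 10, 18),
   (613, 10, 19), (617, 11, 18), (620, 11, 19), (640, 8, 20), (644, 8, 21), (650, 9, 20), (654, 9, 21), (672, 8, 22),
   (676, 8, 23), (683, 9, 22), (687, 9, 23), (720, 10, 20), (725, 10, 21), (730, 11, 20), (735, 11, 21), (752, 10, 22),
   (757, 10, 23), (763, 11, 22), (766, 11, 23), (768, 12, 16), (774, 12, 17), (776, 13, 16), (782, 13, 17), (816, 12, 18),
   (822, 12, 19), (825, 13, 18), (831, 13, 19), (832, 14, 16), (839, 14, 17), (840, 15, 16), (847, 15, 17), (880, 14, 18),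
   (887, 14, 19), (889, 15, 18), (894, 15, 19), (896, 12, 20), (902, 12, 21), (906, 13, 20), (908, 13, 21), (944, 12, 22),
   (950, 12, 23), (955, 13, 22), (957, 13, 23), (976, 14, 20), (983, 14, 21), (986, 15, 20), (989, 15, 21), (992, 14, 22),
   (999, 14, 23), (1003, 15, 22), (1004, 15, 23)]

end Cfsg.Agent.TenLocal.Oct
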