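import Cfsg.Agent.TenLocal.OctCheck
import Cfsg.Agent.TenLocal.OrbData

/-!
# The orbits on the standard group of order `2 ^ 10`
-/

set_option autoImplicit false
set_option maxRecDepth 100000
set_option Elab.async false

namespace Cfsg.Agent.TenLocal.Oct

open Cfsg Cfsg.Agent.Compute Cfsg.Agent.LargeFischer

/-- A generator of the stabiliser of the octad. -/
noncomputable def sC (j : ℕ) : ℕ := sGen.getD j 0

/-- The generators stabilise the octad and move the translations as listed. -/
noncomputable def sB : Bool :=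
  allBelow 7 fun j => inM24B (sC j) && Nat.beq (imgMask (sC j) cfgOctRoot) cfgOctRoot &&
    allBelow 16 fun m => Nat.blt ((sImg.getD j []).getD m 16) 16 &&
      allBelow 24 fun i => Nat.beq (rep24.act (sC j) (rep24.act (rC m) i))
        (rep24.act (rC ((sImg.getD j []).getD m 16)) (rep24.act (sC j) i))

theorem s_ok : sB = true := by decide +kernel

/-- A step of an orbit list. -/
noncomputable def stepB (t : ℕ × ℕ × ℕ) : Bool :=
  Nat.blt t.2.1 1024 && Nat.blt t.2.2 1024 &&
  cond (Nat.blt t.1 6)
    (Nat.beq (uOf t.2.2) (Nat.xor (uOf t.2.1) (comR (mOf t.2.1) (wSel.getD t.1 0))) &&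
      Nat.beq (mOf t.2.2) (mOf t.2.1))
    (Nat.blt t.1 13 &&
      Nat.beq (uOf t.2.2) (mapp (matOf (sC (Nat.sub t.1 6))) (uOf t.2.1)) &&
      Nat.beq (mOf t.2.2) ((sImg.getD (Nat.sub t.1 6) []).getD (mOf t.2.1) 16))

/-- The steps start at points already reached. -/
noncomputable def runB (l : List (ℕ × ℕ × ℕ)) : ℕ → Bool × ℕ :=
  List.rec (motive := fun _ => ℕ → Bool × ℕ) (fun known => (true, known))
    (fun t _ r known => cond (bitB known t.2.1 && stepB t) (r (Nat.lor known (Nat.shiftLeft 1 t.2.2)))
      (false, known)) l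

/-- An orbit list from its root has the given mask. -/
noncomputable def orbB (root mask : ℕ) (l : List (List (ℕ × ℕ × ℕ))) : Bool :=
  (runB l.flatten (Nat.shiftLeft 1 root)).1 && Nat.beq (runB l.flatten (Nat.shiftLeft 1 root)).2 mask

theorem orb0_ok : orbB 1 oMask0 orb0 = true := by decide +kernel
theorem orb1_ok : orbB 20 oMask1 orb1 = true := by decide +kernel
theorem orb2_ok : orbB 8 oMask2 orb2 = true := by decide +kernel
theorem orb3_ok : orbB 24 oMask3 orb3 = true := by decide +kernel

/-- The orbits cover, and sort the pairs and sizes. -/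
noncomputable def sortB : Bool :=
  allBelow 1024 (fun n => Nat.beq n 0 || bitB oMask0 n || bitB oMask1 n || bitB oMask2 n || bitB oMask3 n) &&
  allBelow 1024 (fun n => !(bitB oMask0 n || bitB oMask1 n) || Nat.beq (mOf n) 0) &&
  allBelow 1024 (fun n => !(bitB oMask2 n || bitB oMask3 n) || !(Nat.beq (mOf n) 0)) &&
  allBelow 1024 (fun n => !(bitB oMask0 n) || !(bitB tmask (uOf n))) &&
  allBelow 1024 (fun n => !(bitB oMask1 n) || bitB tmask (uOf n)) &&
  Nat.beq ((List.range 1024).filter fun n => bitB oMask0 n).length 35 &&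
  Nat.beq ((List.range 1024).filter fun n => bitB oMask1 n).length 28 &&
  Nat.beq ((List.range 1024).filter fun n => bitB oMask2 n).length 120 &&
  Nat.beq ((List.range 1024).filter fun n => bitB oMask3 n).length 840

theorem sort_ok : sortB = true := by decide +kernel

/-- The orbits of the first and third kind are the decomposable elements. -/
noncomputable def lineB : Bool :=
  lineWit.all (fun t => Nat.blt t.2.1 32 && Nat.blt t.2.2 32 &&
    Nat.beq (wedge (Fin.ofNat 32 t.2.1) (Fin.ofNat 32 t.2.2)).val t.1 && !(Nat.beq t.1 0)) &&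
  allBelow 1024 (fun n => !(bitB oMask0 n || bitB oMask2 n) || lineWit.any fun t => Nat.beq t.1 n) &&
  allBelow 32 (fun a => allBelow 32 fun b =>
    Nat.beq (wedge (Fin.ofNat 32 a) (Fin.ofNat 32 b)).val 0 ||
      bitB oMask0 (wedge (Fin.ofNat 32 a) (Fin.ofNat 32 b)).val ||
      bitB oMask2 (wedge (Fin.ofNat 32 a) (Fin.ofNat 32 b)).val)

theorem line_ok : lineB = true := by decide +kernel

end Cfsg.Agent.TenLocal.Oct
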