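import Cfsg.Agent.TenLocal.Count
import Cfsg.Agent.TenLocal.OrbCheck
import Cfsg.Agent.TenLocal.LFive

/-!
# The normaliser modulo the standard group is `SL(5, 2)`
-/

set_option autoImplicit false
set_option maxRecDepth 20000

open Cfsg Subgroup
open scoped Pointwise

namespace Cfsg.Agent.TenLocal

open LargeExtra (oc)
open LargeFischer (W11 pt IsDuad bv)
open J4Type (mSub)
open J4Type.V11
open Oct

/-- The nonzero decomposable elements are the two masks. -/
theorem isLine_iff (v : Fin 1024) :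
    IsLine v ↔ v ≠ 0 ∧ (oMask0.testBit v.1 = true ∨ oMask2.testBit v.1 = true) := by
  have h := line_ok
  simp only [lineB, Bool.and_eq_true] at h
  obtain ⟨⟨h1, h2⟩, h3⟩ := h
  constructor
  · rintro ⟨h0, a, b, rfl⟩
    refine ⟨h0, ?_⟩
    have h4 := Compute.allBelow_eq_true.1 (Compute.allBelow_eq_true.1 h3 a.1 a.2) b.1 b.2
    simp only [Fin.ofNat_eq_cast, Fin.cast_val_eq_self, Compute.bitB_eq, Bool.or_eq_true] at h4
    rcases h4 with (h4 | h4) | h4
    · exact absurd (Fin.ext (Nat.eq_of_beq_eq_true h4)) h0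
    · exact Or.inl h4
    · exact Or.inr h4
  · rintro ⟨h0, hm⟩
    have h4 := Compute.allBelow_eq_true.1 h2 v.1 v.2
    have hn : (!(Compute.bitB oMask0 v.1 || Compute.bitB oMask2 v.1)) = false := by
      rw [Compute.bitB_eq, Compute.bitB_eq]
      rcases hm with h | h <;> simp [h]
    rw [hn, Bool.false_or, List.any_eq_true] at h4
    obtain ⟨t, ht, he⟩ := h4
    have he' := Nat.eq_of_beq_eq_true he
    have h5 := List.all_eq_true.1 h1 t ht
    simp only [Bool.and_eq_true] at h5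
    exact ⟨h0, _, _, Fin.ext ((Nat.eq_of_beq_eq_true h5.1.2).trans he')⟩

variable {G : Type*} [Group G] [Finite G] {z : G} {P : Subgroup G} {V : Type*} [AddCommGroup V]
  {π : ↥(oc z) →* Multiplicative V} {ρ : ↥(mSub z P) →* Equiv.Perm V} {q : V → ZMod 2} {B : List V}
  {S : Sys z P π ρ q B}

/-- **The normaliser modulo the standard group.** -/
theorem quot_sl_five (T : Sect S)
    (hz : ∀ n < 1024, n ≠ 0 → (IsConj z (T.sEl n) ↔ (oMask0.testBit n = true ∨ oMask2.testBit n = true)))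
    (hN : Nat.card ↥(normalizer (T.std : Set G)) = 868 * 11796480)
    [hnor : (T.std.subgroupOf (normalizer (T.std : Set G))).Normal] :
    Nonempty (↥(normalizer (T.std : Set G)) ⧸ T.std.subgroupOf (normalizer (T.std : Set G)) ≃*
      Matrix.SpecialLinearGroup (Fin 5) (ZMod 2)) := by
  classical
  set N := normalizer (T.std : Set G) with hNdef
  have hmv : ∀ (g : ↥N) (v : Fin 1024), ∃ w : Fin 1024, T.sEl w.1 = (g : G) * T.sEl v.1 * (g : G)⁻¹ := by
    intro g v
    obtain ⟨w, hw, e⟩ := (Subgroup.mem_normalizer_iff.1 g.2 (T.sEl v.1)).1 (T.sEl_mem v.2)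
    exact ⟨⟨w, hw⟩, e.symm⟩
  choose f hf using hmv
  have huniq : ∀ {v w : Fin 1024}, T.sEl v.1 = T.sEl w.1 → v = w := fun {v w} e =>
    Fin.ext (T.sEl_inj v.2 w.2 e)
  have hfmul : ∀ g h v, f (g * h) v = f g (f h v) := fun g h v => huniq (by
    rw [hf, hf, hf, Subgroup.coe_mul, mul_inv_rev]; group)
  have hfone : ∀ v, f 1 v = v := fun v => huniq (by rw [hf]; simp)
  let s : ↥N →* Equiv.Perm (Fin 1024) := MonoidHom.mk'
    (fun g => ⟨f g, f g⁻¹, fun v => by rw [← hfmul, inv_mul_cancel, hfone],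
      fun v => by rw [← hfmul, mul_inv_cancel, hfone]⟩)
    fun g h => Equiv.ext fun v => hfmul g h v
  have hker : s.ker = T.std.subgroupOf N := by
    ext g
    rw [MonoidHom.mem_ker, Subgroup.mem_subgroupOf]
    constructor
    · intro h
      refine T.std_self (mem_centralizer_iff.2 ?_)
      rintro _ ⟨n, hn, rfl⟩
      have e := hf g ⟨n, hn⟩
      have e' : f g ⟨n, hn⟩ = ⟨n, hn⟩ := Equiv.congr_fun h ⟨n, hn⟩
      rw [e'] at e
      simp only at e
      calc T.sEl n * (g : G) = (g : G) * T.sEl n * (g : G)⁻¹ * g := by rw [← e]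
        _ = (g : G) * T.sEl n := by group
    · intro h
      refine Equiv.ext fun v => huniq ?_
      show T.sEl (f g v).1 = T.sEl v.1
      rw [hf, T.std_comm h (T.sEl_mem v.2), mul_inv_cancel_right]
  have hlin : ∀ g (a b : Fin 1024), (f g (Fin.ofNat 1024 (Nat.xor a.val b.val))).val =
      Nat.xor (f g a).val (f g b).val := by
    intro g a b
    have hx : a.val ^^^ b.val < 1024 := Nat.xor_lt_two_pow (n := 10) a.2 b.2
    have he : Fin.ofNat 1024 (Nat.xor a.val b.val) = (⟨a.val ^^^ b.val, hx⟩ : Fin 1024) :=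
      Fin.ext (Nat.mod_eq_of_lt hx)
    rw [he]
    refine T.sEl_inj (f g _).2 (Nat.xor_lt_two_pow (n := 10) (f g a).2 (f g b).2) ?_
    show _ = T.sEl ((f g a).val ^^^ (f g b).val)
    rw [← T.sEl_mul (f g a).2 (f g b).2, hf, hf, hf]
    simp only
    rw [← T.sEl_mul a.2 b.2]
    group
  have hline : ∀ g v, IsLine v → IsLine (f g v) := by
    intro g v hv
    obtain ⟨h0, hm⟩ := (isLine_iff v).1 hv
    have hne : ∀ {u : Fin 1024}, u ≠ 0 → u.1 ≠ 0 := fun hu e => hu (Fin.ext e)
    have h0' : f g v ≠ 0 := fun e => h0 (by rw [← hfone v, ← inv_mul_cancel g, hfmul, e]; exact huniq (by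
      rw [hf, Fin.val_zero, T.sEl_zero, mul_one, mul_inv_cancel]))
    refine (isLine_iff _).2 ⟨h0', (hz _ (f g v).2 (hne h0')).1 (((hz _ v.2 (hne h0)).2 hm).trans ?_)⟩
    rw [hf]
    exact isConj_iff.2 ⟨(g : G), rfl⟩
  haveI : s.ker.Normal := MonoidHom.normal_ker s
  have hcard : Nat.card (↥N ⧸ s.ker) = 9999360 := by
    have h := Subgroup.card_eq_card_quotient_mul_card_subgroup s.ker
    have h2 : Nat.card ↥s.ker = 2 ^ 10 := by
      rw [hker, Nat.card_congr (Subgroup.subgroupOfEquivOfLe Subgroup.le_normalizer).toEquiv, T.card_std]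
    rw [h2, hN] at h
    omega
  obtain ⟨e⟩ := equiv_sl_five (QuotientGroup.kerLift s) (QuotientGroup.kerLift_injective s)
    (fun g a b => by
      obtain ⟨g, rfl⟩ := QuotientGroup.mk_surjective g
      exact hlin g a b)
    (fun g v hv => by
      obtain ⟨g, rfl⟩ := QuotientGroup.mk_surjective g
      exact hline g v hv) hcard
  exact ⟨(QuotientGroup.quotientMulEquivOfEq hker.symm).trans e⟩

/-- A complement is `SL(5, 2)`. -/
theorem sl_five_of_complement (T : Sect S)
    (hz : ∀ n < 1024, n ≠ 0 → (IsConj z (T.sEl n) ↔ (oMask0.testBit n = true ∨ oMask2.testBit n = true)))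
    (hN : Nat.card ↥(normalizer (T.std : Set G)) = 868 * 11796480)
    (B' : Subgroup G) (hB : B' ≤ normalizer (T.std : Set G)) (hinf : B' ⊓ T.std = ⊥)
    (hsup : B' ⊔ T.std = normalizer (T.std : Set G)) :
    Nonempty (↥B' ≃* Matrix.SpecialLinearGroup (Fin 5) (ZMod 2)) := by
  haveI hnor : (T.std.subgroupOf (normalizer (T.std : Set G))).Normal := inferInstance
  obtain ⟨e⟩ := quot_sl_five T hz hN
  let φ : ↥B' →* ↥(normalizer (T.std : Set G)) ⧸ T.std.subgroupOf (normalizer (T.std : Set G)) :=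
    (QuotientGroup.mk' _).comp (Subgroup.inclusion hB)
  have hi : Function.Injective φ := by
    refine (injective_iff_map_eq_one φ).2 fun x hx => ?_
    change QuotientGroup.mk (Subgroup.inclusion hB x) = 1 at hx
    have h1 : (x : G) ∈ T.std := Subgroup.mem_subgroupOf.1
      ((QuotientGroup.eq_one_iff (N := T.std.subgroupOf (normalizer (T.std : Set G))) (Subgroup.inclusion hB x)).1 hx)
    have h2 : (x : G) ∈ (⊥ : Subgroup G) := hinf ▸ Subgroup.mem_inf.2 ⟨x.2, h1⟩
    exact Subtype.ext (Subgroup.mem_bot.1 h2)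
  have hs : Function.Surjective φ := by
    intro y
    obtain ⟨⟨n, hn⟩, rfl⟩ := QuotientGroup.mk'_surjective _ y
    have hn' : n ∈ ((B' : Set G) * (T.std : Set G)) := by
      rw [← Subgroup.coe_mul_of_left_le_normalizer_right B' T.std hB, hsup]
      exact hn
    obtain ⟨b, hb, a, ha, rfl⟩ := hn'
    refine ⟨⟨b, hb⟩, QuotientGroup.eq.2 (Subgroup.mem_subgroupOf.2 ?_)⟩
    show b⁻¹ * (b * a) ∈ T.std
    rw [inv_mul_cancel_left]
    exact ha
  exact ⟨(MulEquiv.ofBijective φ ⟨hi, hs⟩).trans e⟩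

end Cfsg.Agent.TenLocal
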