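import Cfsg.Agent.TenLocal.Orbits2

/-!
# Carrying facts on the standard group to its conjugates
-/

set_option autoImplicit false

open Cfsg Subgroup
open scoped Pointwise

namespace Cfsg.Agent.TenLocal

open J4Type.V11

variable {G : Type*} [Group G] [Finite G] {A : Subgroup G}

theorem map_cj_cj (g h : G) (A : Subgroup G) : (A.map (cj h)).map (cj g) = A.map (cj (g * h)) := by
  rw [map_map]
  congr 1
  ext x
  simp only [MonoidHom.comp_apply, cj_apply]
  group

theorem map_cj_one (A : Subgroup G) : A.map (cj (1 : G)) = A := by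
  rw [show cj (1 : G) = MonoidHom.id G from MonoidHom.ext fun x => by rw [cj_apply]; simp, map_id]

theorem map_cj_inv {g : G} {B : Subgroup G} (h : A.map (cj g) = B) : A = B.map (cj g⁻¹) := by
  rw [← h, map_cj_cj, inv_mul_cancel, map_cj_one]

theorem norm_map (g : G) (A : Subgroup G) :
    normalizer (↑(A.map (cj g)) : Set G) = (normalizer (A : Set G)).map (cj g) :=
  (map_equiv_normalizer_eq A (MulAut.conj g)).symm

theorem orbit_map (g a : G) (N : Subgroup G) :
    {v : G | ∃ n ∈ N.map (cj g), n * cj g a * n⁻¹ = v} = cj g '' {v : G | ∃ n ∈ N, n * a * n⁻¹ = v} := by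
  ext v
  constructor
  · rintro ⟨_, ⟨n, hn, rfl⟩, rfl⟩
    exact ⟨n * a * n⁻¹, ⟨n, hn, rfl⟩, by simp only [map_mul, map_inv]⟩
  · rintro ⟨_, ⟨n, hn, rfl⟩, rfl⟩
    exact ⟨cj g n, ⟨n, hn, rfl⟩, by simp only [map_mul, map_inv]⟩

theorem irreducible_map (g : G) (h : ∀ W : Subgroup G, W ≤ A → normalizer (A : Set G) ≤ normalizer (W : Set G) →
    W = ⊥ ∨ W = A) {W : Subgroup G} (hW : W ≤ A.map (cj g))
    (hn : normalizer (↑(A.map (cj g)) : Set G) ≤ normalizer (W : Set G)) : W = ⊥ ∨ W = A.map (cj g) := by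
  have hWe : W = (W.map (cj g⁻¹)).map (cj g) := by rw [map_cj_cj, mul_inv_cancel, map_cj_one]
  have hle : W.map (cj g⁻¹) ≤ A := by
    have := Subgroup.map_mono (f := cj g⁻¹) hW
    rwa [map_cj_cj, inv_mul_cancel, map_cj_one] at this
  have hnle : normalizer (A : Set G) ≤ normalizer (↑(W.map (cj g⁻¹)) : Set G) := by
    rw [norm_map]
    have := Subgroup.map_mono (f := cj g⁻¹) hn
    rwa [norm_map, map_cj_cj, inv_mul_cancel, map_cj_one] at this
  rcases h _ hle hnle with e | e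
  · left; rw [hWe, e, Subgroup.map_bot]
  · right; rw [hWe, e]

theorem split_map (g : G) {B : Subgroup G} {X : Type*} [Mul X]
    (hle : B ≤ normalizer (A : Set G)) (h1 : B ⊓ A = ⊥) (h2 : B ⊔ A = normalizer (A : Set G))
    (h3 : Nonempty (↥B ≃* X)) :
    ∃ B' : Subgroup G, B' ≤ normalizer (↑(A.map (cj g)) : Set G) ∧ B' ⊓ A.map (cj g) = ⊥ ∧
      B' ⊔ A.map (cj g) = normalizer (↑(A.map (cj g)) : Set G) ∧ Nonempty (↥B' ≃* X) := by
  obtain ⟨e⟩ := h3
  rw [norm_map]
  refine ⟨B.map (cj g), Subgroup.map_mono hle, ?_, by rw [← Subgroup.map_sup, h2],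
    ⟨(B.equivMapOfInjective _ (cj_inj g)).symm.trans e⟩⟩
  rw [← Subgroup.map_inf _ _ _ (cj_inj g), h1, Subgroup.map_bot]

end Cfsg.Agent.TenLocal
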