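import Cfsg.Agent.TenLocal.Defs
import Cfsg.Agent.Co1Out.Code

/-!
# Coded permutations of the twenty-four points acting on the cocode
-/

set_option autoImplicit false
set_option maxRecDepth 20000

namespace Cfsg.Agent.TenLocal

open Cfsg Cfsg.Agent.Compute Cfsg.Agent.LargeFischer

/-- The images of the points, as numbers. -/
def vpL : List ℕ := [1, 2, 67, 148, 531, 170, 1829, 1859, 1014, 1547, 1543, 985, 899, 579, 195, 1551,
  563, 189, 1004, 1822, 1603, 1848, 547, 0]

/-- The unit vectors as sums of pairs through the last point. -/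
def basisL : List (List ℕ) := [[0], [1], [0, 1, 4, 5, 7, 8, 9], [0, 1, 4, 5, 7, 8, 10],
  [2, 3, 4, 6, 8, 10], [1, 2, 4, 5, 6, 8, 9], [0, 1, 2], [0, 1, 2, 5, 6, 7, 9, 10],
  [2, 4, 5, 8, 9, 10], [0, 1, 2, 3, 6, 8, 10], [0, 1, 2, 3, 4, 5, 6, 7, 9]]

/-- The sum of the listed pairs, moved by a code. -/
noncomputable def colB (g : ℕ) (l : List ℕ) : ℕ :=
  List.rec (motive := fun _ => ℕ) 0
    (fun a _ r => Nat.xor (Nat.xor (vpL.getD (getField 5 g a) 0) (vpL.getD (getField 5 g 23) 0)) r) l

/-- The matrix of a code. -/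
noncomputable def matOf (g : ℕ) : List ℕ :=
  List.rec (motive := fun _ => List ℕ) [] (fun l _ r => colB g l :: r) basisL

/-- The image of a vector under a matrix. -/
noncomputable def mapp (M : List ℕ) : ℕ → ℕ :=
  List.rec (motive := fun _ => ℕ → ℕ) (fun _ => 0)
    (fun c _ r v => cond (bitB v 0) (Nat.xor c (r (Nat.shiftRight v 1))) (r (Nat.shiftRight v 1))) M

theorem mapp_cons (c : ℕ) (M : List ℕ) (v : ℕ) :
    mapp (c :: M) v = if v.testBit 0 then c ^^^ mapp M (v >>> 1) else mapp M (v >>> 1) := by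
  show cond (bitB v 0) _ _ = _
  rw [bitB_eq]
  cases v.testBit 0 <;> rfl

theorem mapp_xor (M : List ℕ) : ∀ a b : ℕ, mapp M (a ^^^ b) = mapp M a ^^^ mapp M b := by
  induction M with
  | nil => intro a b; exact (Nat.xor_self 0).symm
  | cons c M ih =>
    intro a b
    rw [mapp_cons, mapp_cons, mapp_cons, Nat.shiftRight_xor_distrib, ih, Nat.testBit_xor]
    cases a.testBit 0 <;> cases b.testBit 0 <;>
      simp only [bne_self_eq_false, Bool.false_bne, Bool.true_bne, Bool.not_false, Bool.not_true,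
        Bool.false_eq_true, if_true, if_false, reduceCtorEq]
    · ac_rfl
    · ac_rfl
    · rw [show c ^^^ mapp M (a >>> 1) ^^^ (c ^^^ mapp M (b >>> 1)) =
        (c ^^^ c) ^^^ (mapp M (a >>> 1) ^^^ mapp M (b >>> 1)) by ac_rfl, Nat.xor_self, Nat.zero_xor]

theorem mapp_zero : ∀ M : List ℕ, mapp M 0 = 0 := by
  intro M
  induction M with
  | nil => rfl
  | cons c M ih => rw [mapp_cons]; simpa using ih

theorem mapp_two_pow : ∀ (M : List ℕ) (k : ℕ), mapp M (2 ^ k) = M.getD k 0 := by
  intro M
  induction M with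
  | nil => intro k; rfl
  | cons c M ih =>
    intro k
    rw [mapp_cons, Nat.shiftRight_one]
    cases k with
    | zero => simp [mapp_zero]
    | succ k =>
      rw [List.getD_cons_succ, ← ih k, show 2 ^ (k + 1) / 2 = 2 ^ k by rw [pow_succ]; omega,
        Nat.testBit_two_pow]
      simp

theorem mapp_lt : ∀ M : List ℕ, (∀ c ∈ M, c < 2048) → ∀ v, mapp M v < 2048 := by
  intro M
  induction M with
  | nil => intro _ _; exact Nat.succ_pos _
  | cons c M ih =>
    intro h v
    rw [mapp_cons]
    split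
    · exact Nat.xor_lt_two_pow (n := 11) (h c List.mem_cons_self)
        (ih (fun d hd => h d (List.mem_cons_of_mem _ hd)) _)
    · exact ih (fun d hd => h d (List.mem_cons_of_mem _ hd)) _

theorem vpL_eq : ∀ i : Fin 24, vpL.getD i.val 0 = vp24 i := by decide +kernel

theorem pts_ok {a : ℕ} (ha : a < 24) : bv (vpL.getD a 0) = pt (rep24.pt a) := by
  rw [rep24_pt ha, pt, pn_e24, ← vpL_eq]

theorem basis_eq : ∀ k : Fin 11, ∀ i : Fin 11, bv (2 ^ k.val) i =
    ((basisL.getD k.val []).map fun a => (pt (e24 (Fin.ofNat 24 a)) + pt none) i).sum := by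
  decide +kernel

theorem colB_ok {g : ℕ} (hg : rep24.Ok g) (L : W11 →+ W11) (hL : Acts (rep24.den g) L) :
    ∀ l : List ℕ, (∀ a ∈ l, a < 24) →
      bv (colB g l) = L ((l.map fun a => pt (rep24.pt a) + pt none).sum) := by
  intro l
  induction l with
  | nil => intro _; rw [List.map_nil, List.sum_nil, map_zero]; exact bv_zero
  | cons a l ih =>
    intro ha
    have himg : ∀ b < 24, bv (vpL.getD (getField 5 g b) 0) = pt (rep24.den g (rep24.pt b)) := fun b hb => by
      rw [← Equiv.Perm.smul_def, rep24.act_spec g b hg hb]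
      exact pts_ok (rep24.act_lt g b hg hb)
    have h23 : rep24.pt 23 = none := by rw [rep24_pt (by norm_num)]; rfl
    show bv ((vpL.getD (getField 5 g a) 0 ^^^ vpL.getD (getField 5 g 23) 0) ^^^ colB g l) = _
    rw [bv_xor, bv_xor, ih fun b hb => ha b (List.mem_cons_of_mem _ hb), List.map_cons, List.sum_cons,
      map_add, hL, himg a (ha a List.mem_cons_self), himg 23 (by norm_num), h23]

theorem basisL_lt : ∀ k : Fin 11, ∀ a ∈ basisL.getD k.val [], a < 24 := by decide +kernel

theorem bv_two_pow (k : Fin 11) : bv (2 ^ k.val) =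
    ((basisL.getD k.val []).map fun a => pt (rep24.pt a) + pt none).sum := by
  funext i
  have hgen : ∀ l : List ℕ, (∀ a ∈ l, a < 24) →
      (l.map fun a => pt (rep24.pt a) + pt none).sum i =
        (l.map fun a => (pt (e24 (Fin.ofNat 24 a)) + pt none) i).sum := by
    intro l
    induction l with
    | nil => intro _; rfl
    | cons a l ih =>
      intro ha
      have e : Fin.ofNat 24 a = ⟨a, ha a List.mem_cons_self⟩ :=
        Fin.ext (Nat.mod_eq_of_lt (ha a List.mem_cons_self))
      rw [List.map_cons, List.sum_cons, Pi.add_apply, ih fun b hb => ha b (List.mem_cons_of_mem _ hb),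
        List.map_cons, List.sum_cons, rep24_pt (ha a List.mem_cons_self), e]
  rw [basis_eq k i, hgen _ (basisL_lt k)]

theorem matOf_length (g : ℕ) : (matOf g).length = 11 := rfl

theorem matOf_getD (g : ℕ) (k : Fin 11) : (matOf g).getD k.val 0 = colB g (basisL.getD k.val []) := by
  fin_cases k <;> rfl

/-- The matrix of a code is the action on the cocode. -/
theorem matOf_spec {g : ℕ} (hg : rep24.Ok g) (L : W11 →+ W11) (hL : Acts (rep24.den g) L) :
    ∀ {v : ℕ}, v < 2048 → L (bv v) = bv (mapp (matOf g) v) := by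
  have key : ∀ n, n ≤ 11 → ∀ v < 2 ^ n, L (bv v) = bv (mapp (matOf g) v) := by
    intro n
    induction n with
    | zero =>
      intro _ v hv
      obtain rfl : v = 0 := by simpa using hv
      rw [mapp_zero, bv_zero, map_zero]
    | succ n ih =>
      intro hn v hv
      by_cases hb : v.testBit n
      · have hlt : v ^^^ 2 ^ n < 2 ^ n := by
          refine Nat.lt_pow_two_of_testBit _ fun i hi => ?_
          rw [Nat.testBit_xor, Nat.testBit_two_pow]
          rcases eq_or_lt_of_le hi with rfl | hi'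
          · simp [hb]
          · rw [Nat.testBit_eq_false_of_lt (hv.trans_le (Nat.pow_le_pow_right (by norm_num) hi'))]
            simp [hi'.ne]
        obtain ⟨w, rfl⟩ : ∃ w, v = w ^^^ 2 ^ n :=
          ⟨v ^^^ 2 ^ n, by rw [Nat.xor_assoc, Nat.xor_self, Nat.xor_zero]⟩
        rw [Nat.xor_assoc, Nat.xor_self, Nat.xor_zero] at hlt
        rw [bv_xor, map_add, mapp_xor, bv_xor, ih (Nat.le_of_succ_le hn) _ hlt,
          bv_two_pow ⟨n, hn⟩, ← colB_ok hg L hL _ (basisL_lt ⟨n, hn⟩), ← matOf_getD g ⟨n, hn⟩,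
          mapp_two_pow]
      · refine ih (Nat.le_of_succ_le hn) v (Nat.lt_pow_two_of_testBit _ fun i hi => ?_)
        rcases eq_or_lt_of_le hi with rfl | hi'
        · simpa using hb
        · exact Nat.testBit_eq_false_of_lt (hv.trans_le (Nat.pow_le_pow_right (by norm_num) hi'))
  exact fun {v} hv => key 11 le_rfl v hv

end Cfsg.Agent.TenLocal
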