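import Cfsg.Agent.TenLocal.OctCheck
import Cfsg.Agent.Compute.MathieuPointwise

/-!
# The translations of the octad as permutations
-/

set_option autoImplicit false
set_option maxRecDepth 100000

namespace Cfsg.Agent.TenLocal

open Cfsg Cfsg.Agent.Compute Cfsg.Agent.LargeFischer Oct
open scoped Pointwise

theorem r_facts {m : ℕ} (hm : m < 16) : rep24.Ok (rC m) ∧ rep24.den (rC m) ∈ M24 ∧
    (∀ i < 24, cfgOctRoot.testBit i = true → rep24.act (rC m) i = i) ∧
    (m ≠ 0 → ∀ i < 24, cfgOctRoot.testBit i = false → rep24.act (rC m) i ≠ i) := by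
  have h := r_ok
  simp only [rB, Bool.and_eq_true] at h
  have h1 := allBelow_eq_true.1 h.1.1.2 m hm
  simp only [Bool.and_eq_true, Bool.or_eq_true, Nat.beq_eq] at h1
  obtain ⟨⟨hM, hfix⟩, hmove⟩ := h1
  obtain ⟨hok, hden⟩ := mem_M24_of_check hM
  refine ⟨hok, hden, fun i hi hb => ?_, fun hm0 i hi hb => ?_⟩
  · have := allBelow_eq_true.1 hfix i hi
    rw [bitB_eq, hb, Bool.not_true, Bool.false_or, Nat.beq_eq] at this
    exact this
  · have := allBelow_eq_true.1 (hmove.resolve_left hm0) i hi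
    rw [bitB_eq, hb, Bool.false_or, Bool.not_eq_true', ← Bool.not_eq_true, Nat.beq_eq] at this
    exact this

/-- A translation of the octad. -/
noncomputable def rEl (m : ℕ) : ↥M24 :=
  ⟨rep24.den (rC (m % 16)), (r_facts (Nat.mod_lt m (by norm_num))).2.1⟩

theorem rEl_val {m : ℕ} (hm : m < 16) : (rEl m : Equiv.Perm GolayPt) = rep24.den (rC m) := by
  show rep24.den (rC (m % 16)) = _
  rw [Nat.mod_eq_of_lt hm]

theorem den_pt {g i : ℕ} (hg : rep24.Ok g) (hi : i < 24) :
    rep24.den g (rep24.pt i) = rep24.pt (rep24.act g i) := by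
  rw [← Equiv.Perm.smul_def, rep24.act_spec g i hg hi]

theorem perm_ext_pts {σ τ : Equiv.Perm GolayPt} (h : ∀ i < 24, σ (rep24.pt i) = τ (rep24.pt i)) : σ = τ :=
  Equiv.ext fun p => by rw [← rep24_pt_ptIdx p]; exact h _ (ptIdx_lt p)

theorem mem_octPts {p : GolayPt} : p ∈ octPts ↔ cfgOctRoot.testBit (ptIdx p) = true := by
  rw [octPts, Finset.mem_coe, mem_suppM]

theorem rEl_mem (m : ℕ) : (rEl m : Equiv.Perm GolayPt) ∈ octR := by
  refine ⟨(rEl m).2, (mem_fixingSubgroup_iff _).2 fun p hp => ?_⟩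
  obtain ⟨hok, -, hfix, -⟩ := r_facts (Nat.mod_lt m (by norm_num : 16 > 0))
  show rep24.den (rC (m % 16)) • p = p
  conv_lhs => rw [← rep24_pt_ptIdx p]
  rw [rep24.act_spec _ _ hok (ptIdx_lt p), hfix _ (ptIdx_lt p) (mem_octPts.1 hp), rep24_pt_ptIdx]

theorem rEl_xor {a b : ℕ} (ha : a < 16) (hb : b < 16) : rEl a * rEl b = rEl (a ^^^ b) := by
  have hab : a ^^^ b < 16 := Nat.xor_lt_two_pow (n := 4) ha hb
  refine Subtype.ext (perm_ext_pts fun i hi => ?_)
  have h := r_ok
  simp only [rB, Bool.and_eq_true] at h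
  have h1 := allBelow_eq_true.1 (allBelow_eq_true.1 (allBelow_eq_true.1 h.1.2 a ha) b hb) i hi
  rw [Nat.beq_eq] at h1
  rw [Subgroup.coe_mul, Equiv.Perm.mul_apply, rEl_val ha, rEl_val hb, rEl_val hab,
    den_pt (r_facts hb).1 hi, den_pt (r_facts ha).1 (rep24.act_lt _ _ (r_facts hb).1 hi),
    den_pt (r_facts hab).1 hi, h1]
  rfl

theorem rEl_zero : rEl 0 = 1 := by
  have h := rEl_xor (a := 0) (b := 0) (by norm_num) (by norm_num)
  rw [Nat.xor_self] at h
  exact mul_eq_left.1 h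

theorem outside : ∃ i < 24, cfgOctRoot.testBit i = false := ⟨4, by norm_num, by decide +kernel⟩

theorem rEl_eq_one {m : ℕ} (hm : m < 16) (h : rEl m = 1) : m = 0 := by
  by_contra hm0
  obtain ⟨i, hi, hb⟩ := outside
  obtain ⟨hok, -, -, hmove⟩ := r_facts hm
  have e : rep24.den (rC m) (rep24.pt i) = rep24.pt i := by rw [← rEl_val hm, h]; rfl
  rw [den_pt hok hi] at e
  exact hmove hm0 i hi hb (rep24.pt_inj _ _ (rep24.act_lt _ _ hok hi) hi e)

theorem rEl_inj {a b : ℕ} (ha : a < 16) (hb : b < 16) (h : rEl a = rEl b) : a = b := by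
  refine Nat.xor_eq_zero_iff.1 (rEl_eq_one (Nat.xor_lt_two_pow (n := 4) ha hb) ?_)
  rw [← rEl_xor ha hb, h, rEl_xor hb hb, Nat.xor_self, rEl_zero]

theorem card_octR_pts : Nat.card ↥octR = 16 := by
  have hset : octR = rep24.chainGroup (m24cChain.drop 6) := by
    ext g
    rw [mem_fix_baseOctad, octR, Subgroup.mem_inf, mem_fixingSubgroup_iff]
    exact and_congr_right fun _ => by
      simp only [octPts, Finset.mem_coe, ← octRoot_eq, Equiv.Perm.smul_def]
  rw [hset, rep24.card_chainGroup _ (checkChain_drop m24c_check 6), drop6_c.2.1]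

theorem exists_rEl {σ : Equiv.Perm GolayPt} (hσ : σ ∈ octR) : ∃ m < 16, (rEl m : Equiv.Perm GolayPt) = σ := by
  classical
  have hinj : Function.Injective fun m : Fin 16 => (⟨(rEl m.1 : Equiv.Perm GolayPt), rEl_mem m.1⟩ : ↥octR) :=
    fun a b h => Fin.ext (rEl_inj a.2 b.2 (Subtype.ext (congrArg (fun x : ↥octR => (x : Equiv.Perm GolayPt)) h)))
  have hbij := (Nat.bijective_iff_injective_and_card _).2 ⟨hinj, by rw [Nat.card_fin, card_octR_pts]⟩
  obtain ⟨m, hm⟩ := hbij.2 ⟨σ, hσ⟩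
  exact ⟨m.1, m.2, congrArg Subtype.val hm⟩

theorem rEl_fix {m : ℕ} (hm : m < 16) (hm0 : m ≠ 0) {p : GolayPt}
    (hp : (rEl m : Equiv.Perm GolayPt) p = p) : p ∈ octPts := by
  rw [mem_octPts]
  by_contra hb
  rw [Bool.not_eq_true] at hb
  obtain ⟨hok, -, -, hmove⟩ := r_facts hm
  rw [rEl_val hm, ← rep24_pt_ptIdx p, den_pt hok (ptIdx_lt p)] at hp
  exact hmove hm0 _ (ptIdx_lt p) hb
    (rep24.pt_inj _ _ (rep24.act_lt _ _ hok (ptIdx_lt p)) (ptIdx_lt p) hp)

theorem bv_surj (w : W11) : ∃ v < 2048, bv v = w := by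
  have h : Function.Bijective (fun n : Fin 2048 => bv n.val) := by
    refine (Fintype.bijective_iff_injective_and_card _).2
      ⟨fun a b e => Fin.ext (bv_inj a.2 b.2 e), ?_⟩
    simp [W11]
  obtain ⟨n, hn⟩ := h.2 w
  exact ⟨n.val, n.2, hn⟩

theorem inU_lt {v : ℕ} (h : inU v = true) : v < 256 := by
  rw [inU, bitB_eq] at h
  by_contra hv
  have hu := u_ok
  simp only [uB', Bool.and_eq_true, Nat.blt_eq] at hu
  have h2 : uMask < 2 ^ 256 := hu.2
  rw [Nat.testBit_eq_false_of_lt (h2.trans_le (Nat.pow_le_pow_right (by norm_num) (by omega)))] at h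
  exact Bool.noConfusion h

/-- The common fixed space is fixed by all the translations. -/
noncomputable def uAllB : Bool :=
  allBelow 256 fun v => !(inU v) || allBelow 16 fun m => Nat.beq (comR m v) 0

theorem uAll_ok : uAllB = true := by decide +kernel

theorem inU_iff {v : ℕ} (hv : v < 2048) :
    inU v = true ↔ ∀ m < 16, mapp (matOf (rC m)) v = v := by
  constructor
  · intro h m hm
    have h1 := allBelow_eq_true.1 uAll_ok v (inU_lt h)
    rw [h, Bool.not_true, Bool.false_or] at h1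
    have h2 := allBelow_eq_true.1 h1 m hm
    rw [Nat.beq_eq] at h2
    exact (Nat.xor_eq_zero_iff.1 h2).symm
  · intro h
    by_contra hb
    rw [Bool.not_eq_true] at hb
    have hu := u_ok
    simp only [uB', Bool.and_eq_true] at hu
    have h1 := allBelow_eq_true.1 hu.1.1.1.1.1 v hv
    rw [hb, cond_false, Bool.not_eq_true', ← Bool.not_eq_true, allBelow_eq_true] at h1
    refine h1 fun i hi => ?_
    rw [Nat.beq_eq]
    show v ^^^ mapp (matOf (rC (2 ^ i))) v = 0
    rw [h _ (lt_of_lt_of_le (Nat.pow_lt_pow_right (by norm_num) hi) (by norm_num)), Nat.xor_self]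

end Cfsg.Agent.TenLocal
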