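import Cfsg.Agent.TenLocal.Code
import Cfsg.Agent.TenLocal.OctData

/-!
# Checks on the standard group of order `2 ^ 10`
-/

set_option autoImplicit false
set_option maxRecDepth 100000
set_option Elab.async false

namespace Cfsg.Agent.TenLocal.Oct

open Cfsg Cfsg.Agent.Compute Cfsg.Agent.LargeFischer

/-- A translation. -/
noncomputable def rC (m : ℕ) : ℕ := rL.getD m 0

/-- Membership in the common fixed space. -/
noncomputable def inU (v : ℕ) : Bool := bitB uMask v

/-- The commutator of a vector with a translation. -/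
noncomputable def comR (m v : ℕ) : ℕ := Nat.xor v (mapp (matOf (rC m)) v)

/-- Vectors with all commutators in the common fixed space. -/
noncomputable def inW (v : ℕ) : Bool := allBelow 4 fun i => inU (comR (Nat.pow 2 i) v)

/-- The part in the cocode. -/
noncomputable def uOf (n : ℕ) : ℕ := mapp uB n

/-- The translation part. -/
noncomputable def mOf (n : ℕ) : ℕ := mapp mB n

/-- The translations. -/
noncomputable def rB : Bool :=
  Nat.beq rL.length 16 &&
  allBelow 16 (fun m => inM24B (rC m) &&
    (allBelow 24 fun i => !(bitB cfgOctRoot i) || Nat.beq (rep24.act (rC m) i) i) &&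
    (Nat.beq m 0 || allBelow 24 fun i => bitB cfgOctRoot i || !(Nat.beq (rep24.act (rC m) i) i))) &&
  allBelow 16 (fun a => allBelow 16 fun b =>
    allBelow 24 fun i => Nat.beq (rep24.act (rC a) (rep24.act (rC b) i)) (rep24.act (rC (Nat.xor a b)) i)) &&
  allBelow 24 (fun i => Nat.beq (rep24.act (rC 0) i) i)

theorem r_ok : rB = true := by decide +kernel

/-- The common fixed space. -/
noncomputable def uB' : Bool :=
  allBelow 2048 (fun v => cond (inU v) (allBelow 4 fun i => Nat.beq (comR (Nat.pow 2 i) v) 0)
    (!(allBelow 4 fun i => Nat.beq (comR (Nat.pow 2 i) v) 0))) &&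
  Nat.beq uList.length 64 &&
  uList.all (fun v => inU v && Nat.blt v 2048) && Nat.blt uMask (Nat.pow 2 2048) &&
  allBelow 256 (fun v => !(bitB uMask v) || uList.any (Nat.beq v)) && Nat.blt uMask (Nat.pow 2 256)

theorem u_ok : uB' = true := by decide +kernel

/-- Fixed vectors of one translation. -/
noncomputable def eB' : Bool :=
  allBelow 4 (fun i => Nat.blt (eB.getD i 0) 2048 && !(inU (eB.getD i 0)) &&
    Nat.beq (comR (Nat.pow 2 i) (eB.getD i 0)) 0 &&
    (allBelow 4 fun j => Nat.beq i j || !(Nat.beq (comR (Nat.pow 2 j) (eB.getD i 0)) 0)) &&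
    inU (Nat.xor (eB.getD i 0) (comR (Nat.pow 2 i) wTop))) &&
  allBelow 15 (fun m => allBelow 2048 fun v => !(Nat.beq (comR (Nat.add m 1) v) 0) || inU v ||
    inU (Nat.xor v (comR (Nat.add m 1) wTop))) &&
  allBelow 4 (fun i => allBelow 2048 fun v => !(Nat.beq (comR (Nat.pow 2 i) v) 0) || inU v ||
    inU (Nat.xor v (eB.getD i 0))) &&
  Nat.blt wTop 2048

theorem e_ok : eB' = true := by decide +kernel

/-- Pairs outside the octad. -/
noncomputable def pairB : Bool :=
  allBelow 24 fun p => bitB cfgOctRoot p || allBelow 24 fun q => bitB cfgOctRoot q ||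
    (inW (Nat.xor (vpL.getD p 0) (vpL.getD q 0)) &&
      (Nat.beq p q || !(inU (Nat.xor (vpL.getD p 0) (vpL.getD q 0)))))

theorem pair_ok : pairB = true := by decide +kernel

/-- The vectors with commutators in the common fixed space. -/
noncomputable def wB : Bool :=
  Nat.beq ((List.range 2048).filter fun v => inW v).length 1024 &&
  wSel.all (fun v => inW v && Nat.blt v 2048)

theorem w_ok : wB = true := by decide +kernel

/-- The coordinates. -/
noncomputable def coordB : Bool :=
  allBelow 1024 (fun n => inU (uOf n) && Nat.blt (uOf n) 2048 && Nat.blt (mOf n) 16 &&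
    (Nat.beq n 0 || !(Nat.beq (uOf n) 0 && Nat.beq (mOf n) 0)))

theorem coord_ok : coordB = true := by decide +kernel

end Cfsg.Agent.TenLocal.Oct
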