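import Cfsg.Agent.TenLocal.Defs
import Cfsg.Agent.J4Type.V11.Mathieu

/-!
# The group of order `2 ^ 11` in the coordinates of the cocode
-/

set_option autoImplicit false

open Cfsg Subgroup

namespace Cfsg.Agent.TenLocal

open LargeExtra (oc)
open LargeFischer (W11 pt IsDuad bv)
open J4Type (mSub)
open J4Type.V11

variable {G : Type*} [Group G] [Finite G] {z : G} {P : Subgroup G} {V : Type*} [AddCommGroup V]
  {π : ↥(oc z) →* Multiplicative V} {ρ : ↥(mSub z P) →* Equiv.Perm V} {q : V → ZMod 2} {B : List V}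
  {S : Sys z P π ρ q B} (F : Frame S)

/-- The element with the given coordinates. -/
noncomputable def wg (w : W11) : G := (F.vEquiv.symm (Multiplicative.ofAdd w) : G)

theorem wg_mem (w : W11) : wg F w ∈ F.grp := (F.vEquiv.symm (Multiplicative.ofAdd w)).2

theorem wg_add (v w : W11) : wg F (v + w) = wg F v * wg F w := by
  rw [wg, ofAdd_add, map_mul]; rfl

theorem wg_zero : wg F 0 = 1 := by
  rw [wg, ofAdd_zero, map_one]; rfl

theorem wg_inj {v w : W11} (h : wg F v = wg F w) : v = w :=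
  Multiplicative.ofAdd.injective (F.vEquiv.symm.injective (Subtype.ext h))

theorem exists_wg {a : G} (ha : a ∈ F.grp) : ∃ w, wg F w = a := by
  refine ⟨(F.vEquiv ⟨a, ha⟩).toAdd, ?_⟩
  rw [wg, ofAdd_toAdd, MulEquiv.symm_apply_apply]

theorem wg_phi {x : ℕ} (hx : x < 2048) : wg F (bv (J4Type.Rep.app Lm x)) = F.phi x := by
  rw [wg, ← F.vEquiv_phi hx, MulEquiv.symm_apply_apply]

theorem conj_wg (n : ↥F.nrm) (w : W11) : (n : G) * wg F w * (n : G)⁻¹ = wg F (F.tau n w) := by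
  obtain ⟨a, ha⟩ := F.vEquiv.surjective (Multiplicative.ofAdd w)
  have e : w = (F.vEquiv a).toAdd := by rw [ha]; rfl
  rw [e, F.tau_apply, wg, wg, ofAdd_toAdd, ofAdd_toAdd, MulEquiv.symm_apply_apply,
    MulEquiv.symm_apply_apply]
  rfl

theorem acts_theta (hF : F.Good) (n : ↥F.nrm) :
    Acts (F.theta hF n : Equiv.Perm GolayPt) (F.tau n) := F.perm_spec hF n

theorem duad_iff_sec (hF : F.Good) (w : W11) :
    IsDuad w ↔ wg F w ≠ 1 ∧ ¬ IsConj z (wg F w) := by
  obtain ⟨a, ha⟩ := F.vEquiv.surjective (Multiplicative.ofAdd w)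
  have e : w = (F.vEquiv a).toAdd := by rw [ha]; rfl
  have hw : wg F w = (a : G) := by rw [e, wg, ofAdd_toAdd, MulEquiv.symm_apply_apply]
  obtain ⟨hx, hxa⟩ := F.codeOf_spec a
  rw [e, F.isDuad_iff hF, ← e, hw, ← hxa]
  exact ⟨fun h => ⟨fun h' => h.1 (F.phi_eq_one hx h'), h.2⟩,
    fun h => ⟨fun h' => h.1 (by rw [h', F.phi_zero]), h.2⟩⟩

end Cfsg.Agent.TenLocal
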