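import Cfsg.Agent.TenLocal.Coord
import Cfsg.Agent.J4Type.V11.CentT

/-!
# Facts from the frame
-/

set_option autoImplicit false
set_option maxRecDepth 100000

open Cfsg Subgroup

namespace Cfsg.Agent.TenLocal

open LargeExtra (oc oc_le)
open LargeFischer (W11 IsDuad)
open J4Type (mSub)
open J4Type.V11 J4Type.Rep J4Type.Orbits

variable {G : Type*} [Group G] [Finite G] {z : G} {P : Subgroup G} {V : Type*} [AddCommGroup V]
  {π : ↥(oc z) →* Multiplicative V} {ρ : ↥(mSub z P) →* Equiv.Perm V} {q : V → ZMod 2} {B : List V}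
  {S : Sys z P π ρ q B} (F : Frame S)

include F in
theorem exists_conj_le_nrm {X : Subgroup G} (hF : F.Good) (hX : IsPGroup 2 ↥X) :
    ∃ g, X.map (cj g) ≤ F.nrm := by
  have := Fact.mk Nat.prime_two
  obtain ⟨T₀, hT₀⟩ := S.exists_sylow
  obtain ⟨Q, hQ⟩ := Sylow.exists_subgroup_card_pow_prime 2 (G := ↥F.nrm) (n := 21)
    (by rw [F.card_nrm_eq hF]; norm_num)
  have hQc : Nat.card ↥(Q.map F.nrm.subtype) = 2 ^ 21 := by
    rw [card_map_of_injective (subtype_injective _), hQ]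
  obtain ⟨T, hT⟩ := (IsPGroup.of_card hQc).exists_le_sylow
  have hTc : Nat.card ↥(T : Subgroup G) = 2 ^ 21 := by
    rw [Sylow.card_eq_multiplicity, ← Sylow.card_eq_multiplicity T₀, hT₀, S.card_tG]
  have hTeq : Q.map F.nrm.subtype = T := eq_of_le_of_card_ge hT (by rw [hTc, hQc])
  obtain ⟨T', hT'⟩ := hX.exists_le_sylow
  obtain ⟨g, hg⟩ := MulAction.exists_smul_eq G T' T
  refine ⟨g, ?_⟩
  rintro _ ⟨x, hx, rfl⟩
  have h : g * x * g⁻¹ ∈ (T : Subgroup G) := by
    rw [← hg, Sylow.coe_subgroup_smul]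
    exact Subgroup.smul_mem_pointwise_smul _ (MulAut.conj g) _ (hT' hx)
  rw [← hTeq] at h
  exact map_subtype_le Q h

theorem exists_conj_tt (hF : F.Good) {w : W11} (hw : IsDuad w) :
    ∃ n ∈ F.nrm, cj n F.tt = wg F w := by
  obtain ⟨x, hx, e⟩ := wg_mem F w
  have hd := (duad_iff_sec F hF w).1 hw
  have hs : F.sec x := ⟨fun h => hd.1 (by rw [← e, h, F.phi_zero]), e ▸ hd.2⟩
  obtain ⟨n, hn, en⟩ := F.rel_all hx hs
  exact ⟨n, hn, by rw [cj_apply, Frame.tt, show t0 = 58 from rfl, ← en, e]⟩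

theorem cent_duad (hF : F.Good) {w : W11} (hw : IsDuad w) :
    centralizer ({wg F w} : Set G) ≤ F.nrm := by
  obtain ⟨n, hn, e⟩ := exists_conj_tt F hF hw
  rw [← e, F.lc_conj n]
  rintro _ ⟨y, hy, rfl⟩
  rw [cj_apply]
  exact mul_mem (mul_mem hn (F.cent_le_nrm hF hy)) (inv_mem hn)

theorem classes_wg (hF : F.Good) {x : G} (hx2 : x * x = 1) (hx1 : x ≠ 1) (hxz : ¬ IsConj z x) {w : W11}
    (hw : IsDuad w) : IsConj (wg F w) x := by
  obtain ⟨n, -, e⟩ := exists_conj_tt F hF hw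
  refine IsConj.trans (IsConj.symm ?_) ((F.classes hF hx2 hx1).resolve_left hxz)
  exact isConj_iff.2 ⟨n, e⟩

theorem outer_ok : (bit Long.orbBits 11 && !inW 11 && !(J4Type.Orbits.qb 11) &&
    Nat.ble 128 ((List.range 2048).filter fun x => Nat.beq (eAct 11 x) x).length) = true := by decide +kernel

theorem exists_outer (hF : F.Good) : ∃ n : ↥F.nrm, (n : G) ∉ F.grp ∧ (n : G) * (n : G) = 1 ∧
    ¬ IsConj z (n : G) ∧ 128 ≤ Nat.card {w : W11 // F.tau n w = w} := by
  have h := outer_ok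
  simp only [Bool.and_eq_true, Bool.not_eq_true'] at h
  obtain ⟨⟨⟨hlong, hW⟩, hq⟩, hcount⟩ := h
  obtain ⟨e, he, hev⟩ := S.exists_code 11
  refine ⟨⟨e, F.oc_nrm he⟩, ?_, ?_, ?_, ?_⟩
  · rintro ⟨y, hy, ey⟩
    have hlt := (F.phi_oc_iff hy).1 (ey ▸ he)
    have hv := F.vec_phi hlt
    rw [ey, hev] at hv
    have h' := S.lin_lt_inj (by norm_num) (wv_lt _) hv
    rw [h', inW_iff.2 (by rw [wc_wv' (Nat.mod_lt _ (by norm_num))])] at hW
    exact Bool.noConfusion hW
  · show e * e = 1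
    rw [S.sq_code he (by norm_num) hev, hq]
    rfl
  · intro hz
    obtain ⟨γ₁, hγ₁, e₁⟩ := long.reach S.M hlong
    obtain ⟨γ₂, hγ₂, e₂⟩ := long.reach S.M long_base.1
    have h58 := F.isConj_of_img (k := 58) (r := 11) (by norm_num) (by norm_num)
      (mul_mem hγ₁ (inv_mem hγ₂))
      (by rw [Equiv.Perm.mul_apply, Equiv.Perm.inv_def, ← e₂, Equiv.symm_apply_apply, e₁]) he hev
    exact F.sec_58.2 (hz.trans h58.symm)
  · set L := (List.range 2048).filter fun x => Nat.beq (eAct 11 x) x with hL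
    have hm : ∀ i : Fin L.length, L[i] < 2048 ∧ eAct 11 L[i] = L[i] := fun i => by
      have := List.getElem_mem (l := L) i.2
      obtain ⟨h1, h2⟩ := List.mem_filter.1 (Eq.subst (motive := fun l => L[(i : ℕ)] ∈ l) hL this)
      exact ⟨List.mem_range.1 h1, beq_nat h2⟩
    have hfin : Finite {w : W11 // F.tau ⟨e, F.oc_nrm he⟩ w = w} := Subtype.finite
    refine le_trans ((Nat.le_of_ble_eq_true hcount)) ?_
    rw [← Nat.card_fin L.length]
    refine Nat.card_le_card_of_injective (fun i =>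
      (⟨(F.vEquiv ⟨F.phi L[i], F.phi_mem (hm i).1⟩).toAdd, ?_⟩ : {w : W11 // F.tau ⟨e, F.oc_nrm he⟩ w = w})) ?_
    · rw [F.tau_apply]
      refine congrArg (fun a => (F.vEquiv a).toAdd) (Subtype.ext ?_)
      show e * F.phi L[i] * e⁻¹ = F.phi L[i]
      rw [F.conj_phi he (by norm_num) hev (hm i).1, (hm i).2]
    · intro i j hij
      have h1 := congrArg Subtype.val (F.vEquiv.injective (Multiplicative.toAdd.injective (congrArg Subtype.val hij)))
      have h2 := F.phi_inj (hm i).1 (hm j).1 h1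
      exact Fin.ext ((List.Nodup.getElem_inj_iff (hL ▸ (List.nodup_range).filter _)).1 h2)

omit F in
theorem prime_small {A : Subgroup G} (hA : Cfsg.IsElementaryAbelian 2 A) (hc : Nat.card A = 2 ^ 10)
    (hC : centralizer (A : Set G) ≤ A) {p : ℕ} (hp : p.Prime) (hp2 : p ≠ 2)
    (hd : p ∣ Nat.card (normalizer (A : Set G))) : ∃ j, 1 ≤ j ∧ j ≤ 10 ∧ p ∣ 2 ^ j - 1 := by
  classical
  have := Fact.mk hp
  have : Fintype G := Fintype.ofFinite G
  obtain ⟨⟨n, hn⟩, hord⟩ := exists_prime_orderOf_dvd_card' (G := ↥(normalizer (A : Set G))) p hd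
  rw [Subgroup.orderOf_mk] at hord
  let φ : ↥(normalizer (A : Set G)) →* MulAut ↥A := A.normalizerMonoidHom
  let f : Function.End ↥A := MulAction.toEndHom (φ ⟨n, hn⟩)
  have hpow : (⟨n, hn⟩ : ↥(normalizer (A : Set G))) ^ p ^ 1 = 1 := by
    rw [pow_one]
    exact Subtype.ext (by rw [SubgroupClass.coe_pow, ← hord]; exact pow_orderOf_eq_one n)
  have hf : f ^ p ^ 1 = 1 := by rw [← map_pow, ← map_pow, hpow, map_one, map_one]
  have hmod := Equiv.Perm.card_fixedPoints_modEq hf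
  set K := A ⊓ centralizer ({n} : Set G) with hK
  have hfix : Nat.card f.fixedPoints = Nat.card K := by
    refine Nat.card_congr
      { toFun := fun a => ⟨a.1.1, a.1.2, mem_centralizer_singleton_iff.2 ?_⟩
        invFun := fun a => ⟨⟨a.1, a.2.1⟩, ?_⟩
        left_inv := fun a => rfl
        right_inv := fun a => rfl }
    · exact (mul_inv_eq_iff_eq_mul.1 (congrArg Subtype.val a.2)).symm
    · exact Subtype.ext (mul_inv_eq_iff_eq_mul.2 (mem_centralizer_singleton_iff.1 a.2.2).symm)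
  rw [Fintype.card_eq_nat_card, Fintype.card_eq_nat_card, hc, hfix] at hmod
  obtain ⟨j, hj, hjK⟩ := (Nat.dvd_prime_pow Nat.prime_two).1
    (hc ▸ card_dvd_of_le (inf_le_left : K ≤ A))
  have hj' : j < 10 := by
    refine lt_of_le_of_ne hj fun e => ?_
    have hle : K = A := eq_of_le_of_card_ge inf_le_left (by rw [hjK, hc, e])
    have hnA : n ∈ A := hC (mem_centralizer_iff.2 fun a ha =>
      mem_centralizer_singleton_iff.1 ((hle.ge ha).2))
    have h2 : orderOf n ∣ 2 := orderOf_dvd_of_pow_eq_one (hA.2 n hnA)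
    rw [hord] at h2
    exact hp2 ((Nat.prime_dvd_prime_iff_eq hp Nat.prime_two).1 h2)
  rw [hjK] at hmod
  refine ⟨10 - j, by omega, by omega, ?_⟩
  have hd' := (Nat.modEq_iff_dvd' (Nat.pow_le_pow_right (by norm_num) hj'.le)).1 hmod.symm
  have e : 2 ^ 10 - 2 ^ j = 2 ^ j * (2 ^ (10 - j) - 1) := by
    rw [Nat.mul_sub, mul_one, ← pow_add, Nat.add_sub_cancel' hj'.le]
  rw [e] at hd'
  exact (hp.dvd_mul.1 hd').resolve_left fun h' =>
    hp2 ((Nat.prime_dvd_prime_iff_eq hp Nat.prime_two).1 (hp.dvd_of_dvd_pow h'))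

end Cfsg.Agent.TenLocal
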