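import Cfsg.Agent.LargeFischer.MatPerm
import Cfsg.Agent.Compute.MathieuSets

/-!
# Shared definitions for the self-centralising elementary groups of order `2 ^ 10`
-/

set_option autoImplicit false

namespace Cfsg.Agent.TenLocal

open Cfsg Cfsg.Agent.Compute Cfsg.Agent.LargeFischer

/-- The additive map `L` is the action of the permutation `σ` on the even sets modulo the code. -/
def Acts (σ : Equiv.Perm GolayPt) (L : W11 →+ W11) : Prop :=
  ∀ i j, L (pt i + pt j) = pt (σ i) + pt (σ j)

/-- The octad. -/
def octPts : Set GolayPt := (suppM cfgOctRoot : Finset GolayPt)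

/-- Its pointwise stabiliser in `M₂₄`. -/
def octR : Subgroup (Equiv.Perm GolayPt) :=
  M24 ⊓ fixingSubgroup (Equiv.Perm GolayPt) octPts

/-- Coordinates of the exterior square of a five-dimensional space: the pairs `(i, j)`, `i < j`. -/
def pairIdx : List (ℕ × ℕ) :=
  [(0, 1), (0, 2), (0, 3), (0, 4), (1, 2), (1, 3), (1, 4), (2, 3), (2, 4), (3, 4)]

/-- The exterior product of two five-bit vectors, as a ten-bit number. -/
def wedge (a b : Fin 32) : Fin 1024 :=
  Fin.ofNat 1024 (((List.range 10).map fun k =>
    let p := pairIdx.getD k (0, 0)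
    if (a.val.testBit p.1 && b.val.testBit p.2) != (a.val.testBit p.2 && b.val.testBit p.1) then 2 ^ k else 0).sum)

/-- The nonzero decomposable elements. -/
def IsLine (v : Fin 1024) : Prop := v ≠ 0 ∧ ∃ a b : Fin 32, wedge a b = v

end Cfsg.Agent.TenLocal
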