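import Cfsg.Agent.TenLocal.ElemSound
import Cfsg.Agent.TenLocal.Defs
import Cfsg.Agent.S0381

/-!
# Elementary subgroups of `M₂₄` fixing many even sets modulo the code

The pointwise stabiliser of an octad is, up to conjugacy, the only nontrivial elementary abelian
subgroup `R` with `|R|` times the number of its fixed vectors at least `2 ^ 10`; an involution fixing
`2 ^ 7` vectors is conjugate into it.
-/

set_option autoImplicit false
set_option maxRecDepth 20000

namespace Cfsg.Agent.TenLocal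

open Cfsg Cfsg.Agent.Compute Cfsg.Agent.LargeFischer Cfsg.Agent.J4Out
open Cfsg.Agent.J4Rep (app app_xor app_zero app_lt)
open scoped Pointwise

theorem psum_single (i : GolayPt) : psum (Pi.single i 1) = (pt i, 1) := by
  classical
  refine Prod.ext ?_ (Finset.sum_pi_single' i (1 : ZMod 2) Finset.univ |>.trans (by simp))
  show ∑ l, (Pi.single i (1 : ZMod 2) : GolayPt → ZMod 2) l • pt l = pt i
  rw [Finset.sum_eq_single i (fun l _ hl => by rw [Pi.single_eq_of_ne hl, zero_smul])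
    (fun h => absurd (Finset.mem_univ i) h), Pi.single_eq_same, one_smul]

theorem psum_zero : psum 0 = 0 := by simp [psum]

theorem add_self_pair (p : W11 × ZMod 2) : p + p = 0 :=
  Prod.ext (self11 p.1) ((show ∀ c : ZMod 2, c + c = 0 by decide) p.2)

theorem self_code (x : GolayPt → ZMod 2) : x + x = 0 :=
  funext fun _ => (show ∀ c : ZMod 2, c + c = 0 by decide) _

theorem psum_moved {g : Equiv.Perm GolayPt} (hg : g ∈ M24) {x y : GolayPt → ZMod 2}
    (h : psum x = psum y) : psum (x ∘ g.symm) = psum (y ∘ g.symm) := by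
  have hc : x + y ∈ golayCode := code_of_psum (by rw [psum_add, h, add_self_pair])
  have h0 := psum_code ((mem_M24_iff_words g).1 hg _ hc)
  rw [show (x + y) ∘ g.symm = x ∘ g.symm + y ∘ g.symm from rfl, psum_add] at h0
  calc psum (x ∘ g.symm) = psum (x ∘ g.symm) + psum (y ∘ g.symm) + psum (y ∘ g.symm) := by
        rw [add_assoc, add_self_pair, add_zero]
    _ = psum (y ∘ g.symm) := by rw [h0, zero_add]

/-- An element of `M₂₄` acts on the even sets modulo the code. -/
theorem exists_acts {g : Equiv.Perm GolayPt} (hg : g ∈ M24) : ∃ M : W11 →+ W11, Acts g M := by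
  classical
  have hsur : ∀ w : W11, ∃ x, psum x = (w, 0) := by
    let K : AddSubgroup W11 :=
      { carrier := {w | ∃ x, psum x = (w, 0)}
        zero_mem' := ⟨0, psum_zero⟩
        add_mem' := by
          rintro v w ⟨x, hx⟩ ⟨y, hy⟩
          exact ⟨x + y, by rw [psum_add, hx, hy, Prod.mk_add_mk, add_zero]⟩
        neg_mem' := by
          rintro v ⟨x, hx⟩
          exact ⟨x, by rw [hx, neg_eq_of_add_eq_zero_right (self11 v)]⟩ }
    intro w
    refine span_duads (K := K) (fun i => ⟨Pi.single i 1 + Pi.single none 1, ?_⟩) w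
    rw [psum_add, psum_single, psum_single, Prod.mk_add_mk]
    exact Prod.ext rfl ((show (1 : ZMod 2) + 1 = 0 by decide))
  choose lf hlf using hsur
  refine ⟨AddMonoidHom.mk' (fun w => (psum (lf w ∘ g.symm)).1) fun v w => ?_, fun i j => ?_⟩
  · show (psum (lf (v + w) ∘ g.symm)).1 = _
    rw [psum_moved hg (y := lf v + lf w) (by rw [psum_add, hlf, hlf, hlf, Prod.mk_add_mk, add_zero]),
      show (lf v + lf w) ∘ g.symm = lf v ∘ g.symm + lf w ∘ g.symm from rfl, psum_add]
    rfl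
  · show (psum (lf (pt i + pt j) ∘ g.symm)).1 = _
    have e : ∀ k : GolayPt, (Pi.single k (1 : ZMod 2) : GolayPt → ZMod 2) ∘ g.symm =
        Pi.single (g k) 1 := fun k => funext fun l => by
      simp only [Function.comp_apply, Pi.single_apply, Equiv.symm_apply_eq]
    rw [psum_moved hg (y := Pi.single i 1 + Pi.single j 1) (by
        rw [hlf, psum_add, psum_single, psum_single, Prod.mk_add_mk]
        exact Prod.ext rfl ((show (0 : ZMod 2) = 1 + 1 by decide))),
      show ((Pi.single i 1 + Pi.single j 1 : GolayPt → ZMod 2)) ∘ g.symm =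
        (Pi.single i 1 : GolayPt → ZMod 2) ∘ g.symm + (Pi.single j 1 : GolayPt → ZMod 2) ∘ g.symm from rfl,
      e, e, psum_add, psum_single, psum_single]
    rfl

theorem Acts.comp {g h : Equiv.Perm GolayPt} {M N : W11 →+ W11} (hM : Acts g M) (hN : Acts h N) :
    Acts (g * h) (M.comp N) := fun i j => by
  rw [AddMonoidHom.comp_apply, hN, hM, Equiv.Perm.mul_apply, Equiv.Perm.mul_apply]

theorem Acts.unique {g : Equiv.Perm GolayPt} {M N : W11 →+ W11} (hM : Acts g M) (hN : Acts g N)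
    (w : W11) : M w = N w := by
  let K : AddSubgroup W11 :=
    { carrier := {w | M w = N w}
      zero_mem' := show M 0 = N 0 by rw [map_zero, map_zero]
      add_mem' := fun {a b} ha hb => show M (a + b) = N (a + b) by
        rw [map_add, map_add, show M a = N a from ha, show M b = N b from hb]
      neg_mem' := fun {a} ha => show M (-a) = N (-a) by
        rw [map_neg, map_neg, show M a = N a from ha] }
  exact span_duads (K := K) (fun i => (hM i none).trans (hN i none).symm) w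

/-- Acting maps of inverse permutations are inverse. -/
theorem Acts.inv_apply {g : Equiv.Perm GolayPt} {M N : W11 →+ W11} (hM : Acts g M)
    (hN : Acts g⁻¹ N) (w : W11) : N (M w) = w := by
  have h := (hN.comp hM).unique (N := AddMonoidHom.id W11)
    (fun i j => by rw [inv_mul_cancel]; rfl) w
  exact h

theorem vL_vp : ∀ i : Fin 24, vL i.val = vp24 i := by decide +kernel

theorem vL_pt (x : ℕ) (hx : x < 24) : bv (vL x) = pt (rep24.pt x) := by
  rw [pt, pn, ptIdx_rep24 hx, vL_vp ⟨x, hx⟩,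
    show (Fin.ofNat 24 x : Fin 24) = ⟨x, hx⟩ from Fin.ext (Nat.mod_eq_of_lt hx)]

theorem pt_vL (p : GolayPt) : pt p = bv (vL (ptIdx p)) := by
  rw [vL_pt _ (ptIdx_lt p), rep24_pt_ptIdx]

theorem vL_lt (p : GolayPt) : vL (ptIdx p) < 2048 := by
  rw [show vL (ptIdx p) = vp24 ⟨ptIdx p, ptIdx_lt p⟩ from vL_vp ⟨_, ptIdx_lt p⟩,
    show vp24 ⟨ptIdx p, ptIdx_lt p⟩ = pn p by
      rw [pn]; congr 1; exact Fin.ext (Nat.mod_eq_of_lt (ptIdx_lt p)).symm]
  exact pn_lt p

theorem mat_facts {i : ℕ} (hi : i < 191) : (∀ v, app (eM i) v < 2048) ∧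
    ∀ p : GolayPt, bv (app (eM i) (vL (ptIdx p) ^^^ vL 23)) =
      pt (rep24.den (eC i) p) + pt (rep24.den (eC i) none) := by
  have h := (allB_iff _ _).1 elem_mat_ok i hi
  rw [CosetCert.force_eq, Bool.and_eq_true, allBelow_eq_true, allL_iff] at h
  refine ⟨app_lt (d := 11) fun c hc => Nat.le_of_ble_eq_true (h.2 c hc), fun p => ?_⟩
  have hok := (eC_ok hi).1
  have hx := Nat.beq_eq.mp (h.1 _ (ptIdx_lt p))
  rw [fapp_eq] at hx
  have h23 : rep24.pt 23 = (none : GolayPt) :=
    ptIdx_injective ((ptIdx_rep24 (by norm_num)).trans rfl)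
  rw [show vL (ptIdx p) ^^^ vL 23 = Nat.xor (vL (ptIdx p)) (vL 23) from rfl, hx,
    field_den hok (ptIdx_lt p), field_den hok (show 23 < 24 by norm_num), rep24_pt_ptIdx, h23]
  exact (bv_xor _ _).trans (by rw [← pt_vL, ← pt_vL])

/-- On numbers an acting map is the listed matrix. -/
theorem acts_num {i : ℕ} (hi : i < 191) {K : W11 →+ W11} (hK : Acts (rep24.den (eC i)) K) (w : W11) :
    ∃ n < 2048, bv n = w ∧ K w = bv (app (eM i) n) := by
  let S : AddSubgroup W11 :=
    { carrier := {w | ∃ n < 2048, bv n = w ∧ K w = bv (app (eM i) n)}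
      zero_mem' := ⟨0, by norm_num, bv_zero, by rw [map_zero, app_zero, bv_zero]⟩
      add_mem' := by
        rintro v w ⟨m, hm, rfl, h1⟩ ⟨n, hn, rfl, h2⟩
        exact ⟨m ^^^ n, xor_lt11 hm hn, bv_xor _ _, by rw [map_add, h1, h2, app_xor, bv_xor]⟩
      neg_mem' := by
        rintro v hv
        rw [neg_eq_of_add_eq_zero_right (self11 v)]
        exact hv }
  refine span_duads (K := S) (fun p => ⟨vL (ptIdx p) ^^^ vL 23, ?_, ?_, ?_⟩) w
  · exact xor_lt11 (vL_lt p) (by decide)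
  · rw [bv_xor, ← pt_vL, pt_vL none]
    rfl
  · rw [hK, (mat_facts hi).2]

/-- The fixed vectors of some listed involutions as numbers. -/
theorem fixed_numbers (T : Equiv.Perm GolayPt → Prop) (U : Finset W11)
    (hne : ∃ i < 191, T (rep24.den (eC i)))
    (hU : ∀ i < 191, T (rep24.den (eC i)) →
      ∃ K, Acts (rep24.den (eC i)) K ∧ ∀ w ∈ U, K w = w) :
    ∃ F : Finset ℕ, U.card ≤ F.card ∧
      (∀ m ∈ F, m < 2048 ∧ ∀ i < 191, T (rep24.den (eC i)) → app (eM i) m = m) ∧
      ∀ a ∈ F, ∀ b ∈ F, a ^^^ b ∈ F := by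
  classical
  refine ⟨(Finset.range 2048).filter fun m => ∀ i < 191, T (rep24.den (eC i)) → app (eM i) m = m,
    ?_, ?_, ?_⟩
  · refine le_trans (Finset.card_le_card (t := Finset.image bv _) fun w hw => ?_)
      (Finset.card_image_le)
    obtain ⟨i0, hi0, hT0⟩ := hne
    obtain ⟨K0, hK0, -⟩ := hU i0 hi0 hT0
    obtain ⟨n, hn, hw', -⟩ := acts_num hi0 hK0 w
    refine Finset.mem_image.2 ⟨n, ?_, hw'⟩
    simp only [Finset.mem_filter, Finset.mem_range]
    refine ⟨hn, fun i hi hT => ?_⟩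
    obtain ⟨K, hK, hKU⟩ := hU i hi hT
    obtain ⟨m, hm, hmw, hKw⟩ := acts_num hi hK w
    rw [hKU w hw] at hKw
    obtain rfl : m = n := bv_inj hm hn (hmw.trans hw'.symm)
    exact bv_inj ((mat_facts hi).1 _) hm (hKw.symm.trans hmw.symm)
  · intro m hm
    simp only [Finset.mem_filter, Finset.mem_range] at hm
    exact hm
  · intro a ha b hb
    simp only [Finset.mem_filter, Finset.mem_range] at ha hb ⊢
    exact ⟨xor_lt11 ha.1 hb.1, fun i hi hT => by rw [app_xor, ha.2 i hi hT, hb.2 i hi hT]⟩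

theorem syl_le_M24 : rep24.chainGroup syl2FChain ≤ M24 := by
  rw [Rep.chainGroup, Rep.span, Subgroup.closure_le]
  rintro _ ⟨g, hg, rfl⟩
  exact (mem_M24_of_check (chain_checks.2.1 g hg)).2

/-- A 2-subgroup of `M₂₄` goes into the listed Sylow subgroup. -/
theorem exists_conj_syl {R : Subgroup (Equiv.Perm GolayPt)} (hR : R ≤ M24) (hp : IsPGroup 2 R) :
    ∃ g ∈ M24, ∀ a ∈ R, g * a * g⁻¹ ∈ rep24.chainGroup syl2FChain := by
  have : Fact (Nat.Prime 2) := ⟨Nat.prime_two⟩
  have hfac : (Nat.card ↥M24).factorization 2 = 10 := by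
    rw [card_m24, show (244823040 : ℕ) = 2 ^ 10 * 239085 by norm_num,
      Nat.factorization_mul (by norm_num) (by norm_num), Nat.Prime.factorization_pow Nat.prime_two]
    simp [Nat.factorization_eq_zero_of_not_dvd]
  let P : Sylow 2 ↥M24 := Sylow.ofCard ((rep24.chainGroup syl2FChain).subgroupOf M24) (by
    rw [hfac, Nat.card_congr (Subgroup.subgroupOfEquivOfLe syl_le_M24).toEquiv,
      rep24.card_chainGroup _ chain_checks.1, chain_checks.2.2]
    norm_num)
  have hpR : IsPGroup 2 (R.subgroupOf M24) :=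
    hp.of_equiv (Subgroup.subgroupOfEquivOfLe hR).symm
  obtain ⟨Q, hQ⟩ := hpR.exists_le_sylow
  obtain ⟨g, hg⟩ := MulAction.exists_smul_eq ↥M24 Q P
  refine ⟨g, g.2, fun a ha => ?_⟩
  have hm : (⟨a, hR ha⟩ : ↥M24) ∈ (Q : Subgroup ↥M24) := hQ (Subgroup.mem_subgroupOf.2 ha)
  have h2 : g * ⟨a, hR ha⟩ * g⁻¹ ∈ ((g • Q : Sylow 2 ↥M24) : Subgroup ↥M24) :=
    Subgroup.smul_mem_pointwise_smul _ (MulAut.conj g) _ hm
  rw [hg] at h2
  exact Subgroup.mem_subgroupOf.1 h2

theorem octPts_octad : suppM cfgOctRoot ∈ octads := by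
  rw [octads_eq_orbit]
  exact MulAction.mem_orbit_self _

theorem card_octR : Nat.card ↥octR = 16 :=
  (S0381.result (suppM cfgOctRoot) octPts_octad).1

theorem isPGroup_two_of_sq {R : Subgroup (Equiv.Perm GolayPt)} (hsq : ∀ a ∈ R, a * a = 1) :
    IsPGroup 2 R := fun a => ⟨1, Subtype.ext (by simpa [sq] using hsq a.1 a.2)⟩

/-- Elementary subgroups of `M₂₄` fixing many vectors. -/
theorem elem_class (R : Subgroup (Equiv.Perm GolayPt)) (hR : R ≤ M24)
    (hc : ∀ a ∈ R, ∀ b ∈ R, a * b = b * a) (hsq : ∀ a ∈ R, a * a = 1) (hne : R ≠ ⊥)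
    (L : Equiv.Perm GolayPt → (W11 →+ W11)) (hL : ∀ a ∈ R, Acts a (L a))
    (U : Finset W11) (hU : ∀ a ∈ R, ∀ w ∈ U, L a w = w) (h : 1024 ≤ U.card * Nat.card R) :
    (∃ g ∈ M24, R.map (MulAut.conj g).toMonoidHom = octR) ∧ U.card = 64 ∧ Nat.card R = 16 := by
  classical
  obtain ⟨g, hg, hgR⟩ := exists_conj_syl hR (isPGroup_two_of_sq hsq)
  obtain ⟨M, hM⟩ := exists_acts hg
  obtain ⟨M', hM'⟩ := exists_acts (inv_mem hg)
  set A := R.map (MulAut.conj g).toMonoidHom with hAdef
  have hmem : ∀ σ ∈ A, ∃ a ∈ R, g * a * g⁻¹ = σ := fun σ hσ => by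
    obtain ⟨a, ha, rfl⟩ := Subgroup.mem_map.1 hσ
    exact ⟨a, ha, rfl⟩
  have hAc : ∀ σ ∈ A, ∀ τ ∈ A, σ * τ = τ * σ := by
    intro σ hσ τ hτ
    obtain ⟨a, ha, rfl⟩ := hmem σ hσ
    obtain ⟨b, hb, rfl⟩ := hmem τ hτ
    rw [show g * a * g⁻¹ * (g * b * g⁻¹) = g * (a * b) * g⁻¹ by group, hc a ha b hb]
    group
  have hA : ∀ σ ∈ A, σ * σ = 1 := by
    intro σ hσ
    obtain ⟨a, ha, rfl⟩ := hmem σ hσ
    rw [show g * a * g⁻¹ * (g * a * g⁻¹) = g * (a * a) * g⁻¹ by group, hsq a ha]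
    group
  have hK : A ≤ rep24.chainGroup syl2FChain := fun σ hσ => by
    obtain ⟨a, ha, rfl⟩ := hmem σ hσ
    exact hgR a ha
  have hcard : Nat.card A = Nat.card R :=
    (Nat.card_congr (R.equivMapOfInjective _ (MulAut.conj g).injective).toEquiv).symm
  have hR1 : Nat.card R ≠ 1 := fun h1 => hne (Subgroup.card_eq_one.1 h1)
  have hinj : Function.Injective M := fun v w e => by
    rw [← hM.inv_apply hM' v, ← hM.inv_apply hM' w, e]
  have hex : ∃ i < 191, rep24.den (eC i) ∈ A := by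
    obtain ⟨a, ha, ha1⟩ := (Subgroup.bot_or_exists_ne_one R).resolve_left hne
    obtain ⟨i, hi, he⟩ := inv_code (hgR a ha)
      (hA _ (Subgroup.mem_map.2 ⟨a, ha, rfl⟩)) fun e => ha1 (by simpa using e)
    exact ⟨i, hi, by rw [he]; exact Subgroup.mem_map.2 ⟨a, ha, rfl⟩⟩
  obtain ⟨F, hUF, hF, hcl⟩ := fixed_numbers (· ∈ A) (U.image M) hex fun i _ hσ => by
    obtain ⟨a, ha, he⟩ := hmem _ hσ
    refine ⟨(M.comp (L a)).comp M', ?_, ?_⟩
    · rw [← he]
      exact (hM.comp (hL a ha)).comp hM'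
    · intro w hw
      obtain ⟨u, hu, rfl⟩ := Finset.mem_image.1 hw
      rw [AddMonoidHom.comp_apply, AddMonoidHom.comp_apply, hM.inv_apply hM', hU a ha u hu]
  rw [Finset.card_image_of_injective _ hinj] at hUF
  have hle : 1024 ≤ F.card * Nat.card A := by
    rw [hcard]; exact h.trans (Nat.mul_le_mul_right _ hUF)
  rcases elem_small hA hAc hK hF hcl with h1 | h1 | ⟨h16, hF64, hfix⟩
  · exact absurd (hcard ▸ h1) hR1
  · omega
  · rw [← hcard, h16] at h
    refine ⟨⟨g, hg, Subgroup.eq_of_le_of_card_ge (fun σ hσ => ?_) ?_⟩, by omega, hcard ▸ h16⟩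
    · exact Subgroup.mem_inf.2 ⟨syl_le_M24 (hK hσ),
        (mem_fixingSubgroup_iff _).2 fun p hp => hfix σ hσ p (Finset.mem_coe.1 hp)⟩
    · rw [card_octR, h16]

/-- An involution of `M₂₄` fixing at least `2 ^ 7` vectors fixes an octad pointwise. -/
theorem inv_class (a : Equiv.Perm GolayPt) (ha : a ∈ M24) (hsq : a * a = 1) (hne : a ≠ 1)
    (L : W11 →+ W11) (hL : Acts a L) (h : 128 ≤ Nat.card {w : W11 // L w = w}) :
    ∃ g ∈ M24, g * a * g⁻¹ ∈ octR := by
  classical
  obtain ⟨g, hg, hgR⟩ := exists_conj_syl (R := Subgroup.zpowers a)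
    ((Subgroup.zpowers_le).2 ha) (IsPGroup.of_card (n := 1) (by
      rw [Nat.card_zpowers, pow_one]
      exact orderOf_eq_prime (by rw [sq, hsq]) hne))
  have hb := hgR a (Subgroup.mem_zpowers a)
  obtain ⟨i, hi, he⟩ := inv_code hb
    (by rw [show g * a * g⁻¹ * (g * a * g⁻¹) = g * (a * a) * g⁻¹ by group, hsq]; group)
    fun e => hne (conj_eq_one_iff.1 e)
  have hinv := (allB_iff _ _).1 elem_inv_ok i hi
  cases hm : missB 2 (eF i)
  · rw [hm, cond_false, CosetCert.force_eq, CosetCert.force_eq, Bool.and_eq_true,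
      allBelow_eq_true] at hinv
    obtain ⟨hh, hfix⟩ := hinv
    obtain ⟨hjok, hjM⟩ := mem_M24_of_check hh
    set t := rep24.den (eJ i) with htdef
    have hconj : t⁻¹ * g * a * (t⁻¹ * g)⁻¹ = t⁻¹ * rep24.den (eC i) * t := by
      rw [he]; group
    refine ⟨t⁻¹ * g, mul_mem (inv_mem hjM) hg, ?_⟩
    rw [hconj]
    refine Subgroup.mem_inf.2 ⟨mul_mem (mul_mem (inv_mem hjM)
      (by rw [he]; exact mul_mem (mul_mem hg ha) (inv_mem hg))) hjM, ?_⟩
    refine (mem_fixingSubgroup_iff _).2 fun p hp => ?_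
    have hx := hfix _ (ptIdx_lt p)
    rw [ebit_eq, mem_suppM.1 (Finset.mem_coe.1 hp), Bool.not_true, Bool.false_or, Nat.beq_eq,
      field_den (eC_ok hi).1 (field_lt hjok (ptIdx_lt p)), pt_field hjok (ptIdx_lt p),
      field_den hjok (ptIdx_lt p), rep24_pt_ptIdx] at hx
    rw [Equiv.Perm.smul_def, Equiv.Perm.mul_apply, Equiv.Perm.mul_apply, Equiv.Perm.inv_eq_iff_eq]
    exact ptIdx_injective hx
  · exfalso
    obtain ⟨M, hM⟩ := exists_acts hg
    obtain ⟨M', hM'⟩ := exists_acts (inv_mem hg)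
    have hinj : Function.Injective M := fun v w e => by
      rw [← hM.inv_apply hM' v, ← hM.inv_apply hM' w, e]
    obtain ⟨F, hUF, hF, hcl⟩ := fixed_numbers (· = g * a * g⁻¹)
      ((Finset.univ.filter fun w : W11 => L w = w).image M) ⟨i, hi, he⟩ fun j _ hj => by
      refine ⟨(M.comp L).comp M', ?_, ?_⟩
      · rw [hj]
        exact (hM.comp hL).comp hM'
      · intro w hw
        obtain ⟨u, hu, rfl⟩ := Finset.mem_image.1 hw
        rw [AddMonoidHom.comp_apply, AddMonoidHom.comp_apply, hM.inv_apply hM',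
          (Finset.mem_filter.1 hu).2]
    rw [Finset.card_image_of_injective _ hinj] at hUF
    have := miss_sound (by norm_num) hm
      (fun m hm => ⟨fix_bit hi (hF m hm).1 ((hF m hm).2 i hi he), (hF m hm).1⟩) hcl
    rw [Nat.card_eq_fintype_card, Fintype.card_subtype] at h
    omega

end Cfsg.Agent.TenLocal
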