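import Cfsg.Agent.TenLocal.Orbit
import Cfsg.Agent.TenLocal.FrameFacts
import Cfsg.Agent.TenLocal.M24Elem

/-!
# The classes and the order of the normaliser of the standard group
-/

set_option autoImplicit false
set_option maxRecDepth 8000

open Cfsg Subgroup
open scoped Pointwise

namespace Cfsg.Agent.TenLocal

open LargeExtra (oc)
open LargeFischer (W11 pt IsDuad bv)
open J4Type (mSub)
open J4Type.V11
open Oct

theorem sort_facts : (∀ n < 1024, n ≠ 0 → oMask0.testBit n = true ∨ oMask1.testBit n = true ∨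
      oMask2.testBit n = true ∨ oMask3.testBit n = true) ∧
    (∀ n < 1024, oMask0.testBit n = true → mOf n = 0 ∧ LargeFischer.tmask.testBit (uOf n) = false) ∧
    (∀ n < 1024, oMask1.testBit n = true → mOf n = 0 ∧ LargeFischer.tmask.testBit (uOf n) = true) ∧
    (∀ n < 1024, oMask2.testBit n = true → mOf n ≠ 0) ∧ (∀ n < 1024, oMask3.testBit n = true → mOf n ≠ 0) ∧
    (((List.range 1024).filter fun n => Compute.bitB oMask0 n).length = 35 ∧
      ((List.range 1024).filter fun n => Compute.bitB oMask1 n).length = 28 ∧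
      ((List.range 1024).filter fun n => Compute.bitB oMask2 n).length = 120 ∧
      ((List.range 1024).filter fun n => Compute.bitB oMask3 n).length = 840) := by
  have h := sort_ok
  simp only [sortB, Bool.and_eq_true, Compute.allBelow_eq_true, Nat.beq_eq] at h
  obtain ⟨⟨⟨⟨⟨⟨⟨⟨hcov, hlow⟩, hhigh⟩, hz⟩, ht⟩, c0⟩, c1⟩, c2⟩, c3⟩ := h
  refine ⟨fun n hn h0 => ?_, fun n hn hb => ?_, fun n hn hb => ?_, fun n hn hb => ?_, fun n hn hb => ?_,
    c0, c1, c2, c3⟩
  · have h := hcov n hn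
    simp only [Bool.or_eq_true, Nat.beq_eq, Compute.bitB_eq] at h
    tauto
  · have h1 := hlow n hn
    have h2 := hz n hn
    simp only [Compute.bitB_eq, hb, Bool.true_or, Bool.not_true, Bool.false_or, Nat.beq_eq] at h1 h2
    exact ⟨h1, by simpa using h2⟩
  · have h1 := hlow n hn
    have h2 := ht n hn
    simp only [Compute.bitB_eq, hb, Bool.or_true, Bool.not_true, Bool.false_or, Nat.beq_eq] at h1 h2
    exact ⟨h1, h2⟩
  · have h1 := hhigh n hn
    simp only [Compute.bitB_eq, hb, Bool.true_or, Bool.not_true, Bool.false_or, Bool.not_eq_true',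
      ← Bool.not_eq_true, Nat.beq_eq] at h1
    exact h1
  · have h1 := hhigh n hn
    simp only [Compute.bitB_eq, hb, Bool.or_true, Bool.not_true, Bool.false_or, Bool.not_eq_true',
      ← Bool.not_eq_true, Nat.beq_eq] at h1
    exact h1

/-- The elements of an orbit mask. -/
noncomputable def mIdx (m : ℕ) : Finset ℕ := ((List.range 1024).filter fun n => Compute.bitB m n).toFinset

theorem mem_mIdx {m n : ℕ} : n ∈ mIdx m ↔ n < 1024 ∧ m.testBit n = true := by
  simp [mIdx, Compute.bitB_eq]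

theorem card_mIdx (m : ℕ) : (mIdx m).card = ((List.range 1024).filter fun n => Compute.bitB m n).length :=
  List.toFinset_card_of_nodup (List.nodup_range.filter _)

theorem twenty : (20 : ℕ) < 1024 ∧ oMask1.testBit 20 = true := by
  have h := Oct.root_ok
  simp only [Oct.rootB, Bool.and_eq_true, Compute.bitB_eq] at h
  exact ⟨by norm_num, h.1.1.1.2⟩

theorem self_map {G : Type*} [Group G] [Finite G] {A : Subgroup G} (g : G) (h : centralizer (A : Set G) ≤ A) :
    centralizer (↑(A.map (cj g)) : Set G) ≤ A.map (cj g) := by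
  intro x hx
  refine ⟨g⁻¹ * x * g, h (mem_centralizer_iff.2 fun a ha => ?_), by rw [cj_apply]; group⟩
  have h' : g * a * g⁻¹ * x = x * (g * a * g⁻¹) :=
    mem_centralizer_iff.1 hx (g * a * g⁻¹) ⟨a, ha, cj_apply g a⟩
  calc a * (g⁻¹ * x * g) = g⁻¹ * (g * a * g⁻¹ * x) * g := by group
    _ = g⁻¹ * (x * (g * a * g⁻¹)) * g := by rw [h']
    _ = g⁻¹ * x * g * a := by group

theorem mem_norm_of_map {G : Type*} [Group G] [Finite G] {A : Subgroup G} {g : G} (h : A.map (cj g) = A) :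
    g ∈ normalizer (A : Set G) := by
  refine mem_normalizer_iff_conj_image_eq.2 ?_
  have := congrArg (fun H : Subgroup G => (H : Set G)) h
  simp only [coe_map] at this
  exact this

variable {G : Type*} [Group G] [Finite G] {z : G} {P : Subgroup G} {V : Type*} [AddCommGroup V]
  {π : ↥(oc z) →* Multiplicative V} {ρ : ↥(mSub z P) →* Equiv.Perm V} {q : V → ZMod 2} {B : List V}
  {S : Sys z P π ρ q B}

namespace Sect

variable (T : Sect S)

/-- Every self-centralising group of order `2 ^ 10` in `N(V)` is conjugate there to the standard one. -/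
def ClassLe : Prop :=
  ∀ A : Subgroup G, Cfsg.IsElementaryAbelian 2 A → Nat.card A = 2 ^ 10 → centralizer (A : Set G) ≤ A →
    A ≤ T.F.nrm → ∃ n ∈ T.F.nrm, A.map (cj n) = T.std

theorem std_elem : Cfsg.IsElementaryAbelian 2 T.std := by
  refine ⟨⟨⟨fun a b => Subtype.ext (T.std_comm a.2 b.2)⟩⟩, ?_⟩
  rintro _ ⟨n, hn, rfl⟩
  rw [pow_two]; exact T.sEl_sq hn

theorem duad_twenty : IsDuad (bv (uOf 20)) :=
  (duad_iff (coord_facts twenty.1).2.1).2
    ((J4Type.Orbits.bit_iff).2 (sort_facts.2.2.1 20 twenty.1 twenty.2).2)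

theorem t_twenty : ¬ IsConj z (T.sEl 20) ∧ T.sEl 20 ≠ 1 ∧ centralizer ({T.sEl 20} : Set G) ≤ T.F.nrm := by
  have hm := (sort_facts.2.2.1 20 twenty.1 twenty.2).1
  have hd := duad_twenty
  rw [T.sEl_low hm]
  obtain ⟨h1, h2⟩ := (duad_iff_sec T.F T.good _).1 hd
  exact ⟨h2, h1, cent_duad T.F T.good hd⟩

theorem std_self : centralizer (T.std : Set G) ≤ T.std := by
  intro x hx
  have hc : ∀ a ∈ T.std, a * x = x * a := mem_centralizer_iff.1 hx
  have hxn : x ∈ T.F.nrm := T.t_twenty.2.2 (mem_centralizer_singleton_iff.2 (hc _ (T.sEl_mem twenty.1)).symm)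
  obtain ⟨w, hw⟩ := T.exists_el hxn
  set σ := T.F.theta T.good ⟨x, hxn⟩
  have hconj : ∀ n < 1024, x * T.sEl n * x⁻¹ = T.sEl n := fun n hn => by
    rw [← hc _ (T.sEl_mem hn), mul_inv_cancel_right]
  have hu : ∀ u, Oct.inU u = true → T.act σ (bv u) = bv u := by
    intro u hu
    obtain ⟨n, hn, e1, e2⟩ := exists_coord hu (m := 0) (by norm_num)
    have := hconj n hn
    rw [sEl, e1, e2, rEl_zero, hw, T.el_conj, mul_one, mul_inv_cancel, T.act_one,
      show w + T.act σ (bv u) + w = T.act σ (bv u) by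
        rw [add_comm w, add_assoc, LargeFischer.self11, add_zero]] at this
    exact (T.el_inj this).1
  have hfix : ∀ i ∈ octPts, (σ : Equiv.Perm GolayPt) i = i := by
    intro i hi
    have hcard : 3 ≤ (Compute.suppM Compute.cfgOctRoot).card := by decide +kernel
    have h2 : 2 ≤ ((Compute.suppM Compute.cfgOctRoot).erase i).card := by
      have := Finset.pred_card_le_card_erase (a := i) (s := Compute.suppM Compute.cfgOctRoot)
      omega
    obtain ⟨j, hj, k, hk, hjk⟩ := Finset.one_lt_card.1 h2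
    rw [Finset.mem_erase] at hj hk
    have hp : ∀ j ∈ octPts, j ≠ i → ({(σ : Equiv.Perm GolayPt) i, (σ : Equiv.Perm GolayPt) j} : Set GolayPt) = {i, j} := by
      intro j hj hji
      obtain ⟨u, hu', e⟩ := (pairU_iff hji.symm).2 ⟨hi, hj⟩
      have h1 := T.acts σ i j
      rw [e, hu u hu', ← e] at h1
      rcases LargeFischer.pair_eq hji.symm ((σ : Equiv.Perm GolayPt).injective.ne hji.symm) h1 with ⟨a, b⟩ | ⟨a, b⟩
      · rw [← a, ← b]
      · rw [← a, ← b, Set.pair_comm]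
    have hj' := hp j (Finset.mem_coe.2 hj.2) hj.1
    have hk' := hp k (Finset.mem_coe.2 hk.2) hk.1
    have m1 : (σ : Equiv.Perm GolayPt) i ∈ ({i, j} : Set GolayPt) := hj' ▸ Set.mem_insert _ _
    have m2 : (σ : Equiv.Perm GolayPt) i ∈ ({i, k} : Set GolayPt) := hk' ▸ Set.mem_insert _ _
    rcases m1 with m1 | m1
    · exact m1
    rcases m2 with m2 | m2
    · exact m2
    exact absurd (m1.symm.trans m2) hjk
  obtain ⟨m, hm, hm'⟩ := exists_rEl (σ := (σ : Equiv.Perm GolayPt))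
    ⟨σ.2, (mem_fixingSubgroup_iff _).2 hfix⟩
  have hσ : σ = rEl m := Subtype.ext hm'.symm
  have hfw : ∀ k < 16, T.act (rEl k) w = w := by
    intro k hk
    obtain ⟨n, hn, en⟩ := T.sEl_of_rEl hk
    have := hconj n hn
    rw [en, hw, T.el_conj, map_zero, add_zero, hσ, rEl_xor hm hk] at this
    obtain ⟨h1, h2⟩ := T.el_inj this
    rw [h2] at h1
    exact (LargeFischer.eq_of_add11 h1).symm
  obtain ⟨u, hu', e⟩ := (T.fixed_iff w).1 hfw
  rw [hw, hσ, e]
  exact T.el_mem_std hu' hm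

theorem fusion_t (hcl : T.ClassLe) {t : G} (ht : t ∈ T.std) (ht1 : t ≠ 1) (htz : ¬ IsConj z t) :
    ∃ m ∈ normalizer (T.std : Set G), m * t * m⁻¹ = T.sEl 20 := by
  have ht2 : t * t = 1 := by obtain ⟨n, hn, rfl⟩ := ht; exact T.sEl_sq hn
  have hd := duad_twenty
  have h20 : T.sEl 20 = wg T.F (bv (uOf 20)) := T.sEl_low (sort_facts.2.2.1 20 twenty.1 twenty.2).1
  obtain ⟨g, hg⟩ := isConj_iff.1 (classes_wg T.F T.good ht2 ht1 htz hd).symm
  rw [← h20] at hg
  set A := T.std.map (cj g) with hA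
  have hAe : Cfsg.IsElementaryAbelian 2 A := elem_map (MulAut.conj g) T.std_elem
  have hAc : Nat.card A = 2 ^ 10 := by rw [card_map_of_injective (cj_inj g), T.card_std]
  have h20A : T.sEl 20 ∈ A := ⟨t, ht, hg⟩
  have hAle : A ≤ T.F.nrm := fun a ha => T.t_twenty.2.2 (mem_centralizer_singleton_iff.2 (by
    obtain ⟨x, hx, rfl⟩ := ha
    obtain ⟨y, hy, e⟩ := h20A
    rw [← e, ← map_mul, ← map_mul, T.std_comm hx hy]))
  obtain ⟨n, hn, e⟩ := hcl A hAe hAc (self_map g T.std_self) hAle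
  -- the image of the pair lies in the group and is fixed, so it is conjugate to the root
  obtain ⟨i, hi, ei⟩ : n * T.sEl 20 * n⁻¹ ∈ T.std := e ▸ ⟨_, h20A, cj_apply _ _⟩
  have hgrp : n * T.sEl 20 * n⁻¹ ∈ T.F.grp := by
    rw [h20]; exact T.F.conj_mem hn (wg_mem _ _)
  rw [ei] at hgrp
  have hm0 : mOf i = 0 := by
    have hker : (⟨T.sEl i, T.el_mem _ _⟩ : ↥T.F.nrm) ∈ (T.F.theta T.good).ker := by
      rw [T.F.theta_ker T.good, mem_subgroupOf]; exact hgrp
    rw [MonoidHom.mem_ker] at hker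
    exact rEl_eq_one (coord_facts hi).2.2.1 ((T.theta_el _ _).symm.trans hker)
  have hiz : ¬ IsConj z (T.sEl i) := by
    rw [← ei, isConj_conj_iff]; exact T.t_twenty.1
  have hi0 : i ≠ 0 := by
    rintro rfl
    rw [T.sEl_zero, conj_eq_one_iff] at ei
    exact T.t_twenty.2.1 ei
  have hb1 : oMask1.testBit i = true := by
    have hb := (T.low_sec hi hm0 hi0).1 hiz
    rw [Compute.bitB_eq] at hb
    obtain ⟨hcov, h0, -, h2, h3, -⟩ := sort_facts
    rcases hcov i hi hi0 with h | h | h | h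
    · rw [(h0 i hi h).2] at hb; exact Bool.noConfusion hb
    · exact h
    · exact absurd hm0 (h2 i hi h)
    · exact absurd hm0 (h3 i hi h)
  obtain ⟨p, hp, ep⟩ := (T.rel_mask1 hb1).2
  refine ⟨p⁻¹ * n * g, mem_norm_of_map ?_, ?_⟩
  · have hp' : T.std.map (cj p⁻¹) = T.std := by
      have h := inv_mem (mem_inf.1 hp).2
      refine SetLike.coe_injective ?_
      rw [coe_map]
      exact mem_normalizer_iff_conj_image_eq.1 h
    have hcomp : cj (p⁻¹ * n * g) = ((cj p⁻¹).comp (cj n)).comp (cj g) := by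
      ext x; simp only [MonoidHom.comp_apply, cj_apply]; group
    rw [hcomp, ← map_map, ← map_map, ← hA, e, hp']
  · calc p⁻¹ * n * g * t * (p⁻¹ * n * g)⁻¹ = p⁻¹ * (n * (g * t * g⁻¹) * n⁻¹) * p := by group
      _ = p⁻¹ * T.sEl i * p := by rw [hg, ei]
      _ = T.sEl 20 := by rw [← ep]; group

/-- The elements of the standard group outside the class of `z`. -/
noncomputable def tIdx : Finset ℕ :=
  by classical exact (Finset.range 1024).filter fun n => n ≠ 0 ∧ ¬ IsConj z (T.sEl n)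

theorem mem_tIdx {n : ℕ} : n ∈ T.tIdx ↔ n < 1024 ∧ n ≠ 0 ∧ ¬ IsConj z (T.sEl n) := by
  simp [tIdx]

theorem orbit_pN : {v : G | ∃ m ∈ T.pN, m * T.sEl 20 * m⁻¹ = v} = T.sEl '' ↑(mIdx oMask1) := by
  ext v
  constructor
  · rintro ⟨m, hm, rfl⟩
    obtain ⟨i, hi, e⟩ := (mem_normalizer_iff.1 (mem_inf.1 hm).2 _).1 (T.sEl_mem twenty.1)
    have hgrp : m * T.sEl 20 * m⁻¹ ∈ T.F.grp := by
      rw [T.sEl_low (sort_facts.2.2.1 20 twenty.1 twenty.2).1]
      exact T.F.conj_mem (mem_inf.1 hm).1 (wg_mem _ _)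
    rw [e] at hgrp ⊢
    have hm0 : mOf i = 0 := by
      have hker : (⟨T.sEl i, T.el_mem _ _⟩ : ↥T.F.nrm) ∈ (T.F.theta T.good).ker := by
        rw [T.F.theta_ker T.good, mem_subgroupOf]; exact hgrp
      rw [MonoidHom.mem_ker] at hker
      exact rEl_eq_one (coord_facts hi).2.2.1 ((T.theta_el _ _).symm.trans hker)
    have hi0 : i ≠ 0 := fun h => by
      rw [h, T.sEl_zero, conj_eq_one_iff] at e
      exact T.t_twenty.2.1 e
    have hb := (T.low_sec hi hm0 hi0).1 (by rw [← e, isConj_conj_iff]; exact T.t_twenty.1)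
    rw [Compute.bitB_eq] at hb
    obtain ⟨hcov, h0, -, h2, h3, -⟩ := sort_facts
    refine ⟨i, Finset.mem_coe.2 (mem_mIdx.2 ⟨hi, ?_⟩), rfl⟩
    rcases hcov i hi hi0 with h | h | h | h
    · rw [(h0 i hi h).2] at hb; exact Bool.noConfusion hb
    · exact h
    · exact absurd hm0 (h2 i hi h)
    · exact absurd hm0 (h3 i hi h)
  · rintro ⟨i, hi, rfl⟩
    exact (T.rel_mask1 (mem_mIdx.1 (Finset.mem_coe.1 hi)).2).2

theorem card_stab : Nat.card ↥(T.pN ⊓ centralizer ({T.sEl 20} : Set G)) = 11796480 := by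
  have h := CoOneType.card_conj_orbit T.pN (T.sEl 20) {v | ∃ m ∈ T.pN, m * T.sEl 20 * m⁻¹ = v} fun y => Iff.rfl
  rw [Nat.card_coe_set_eq, T.orbit_pN,
    Set.InjOn.ncard_image fun a ha b hb e => T.sEl_inj (mem_mIdx.1 ha).1 (mem_mIdx.1 hb).1 e,
    Set.ncard_coe_finset, card_mIdx, sort_facts.2.2.2.2.2.2.1, T.card_pN] at h
  omega

theorem orbit_norm (hcl : T.ClassLe) :
    {v : G | ∃ m ∈ normalizer (T.std : Set G), m * T.sEl 20 * m⁻¹ = v} = T.sEl '' ↑T.tIdx := by
  ext v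
  constructor
  · rintro ⟨m, hm, rfl⟩
    obtain ⟨i, hi, e⟩ := (mem_normalizer_iff.1 hm _).1 (T.sEl_mem twenty.1)
    refine ⟨i, Finset.mem_coe.2 (T.mem_tIdx.2 ⟨hi, fun h => ?_, ?_⟩), e.symm⟩
    · rw [h, T.sEl_zero, conj_eq_one_iff] at e
      exact T.t_twenty.2.1 e
    · rw [← e, isConj_conj_iff]; exact T.t_twenty.1
  · rintro ⟨i, hi, rfl⟩
    obtain ⟨hi', hi0, hiz⟩ := T.mem_tIdx.1 (Finset.mem_coe.1 hi)
    obtain ⟨m, hm, e⟩ := T.fusion_t hcl (T.sEl_mem hi')
      (fun h => hi0 (T.sEl_inj hi' (by norm_num) (h.trans T.sEl_zero.symm))) hiz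
    exact ⟨m⁻¹, inv_mem hm, by rw [← e]; group⟩

theorem card_norm_eq (hcl : T.ClassLe) :
    Nat.card ↥(normalizer (T.std : Set G)) = T.tIdx.card * 11796480 := by
  have h := CoOneType.card_conj_orbit (normalizer (T.std : Set G)) (T.sEl 20)
    {v | ∃ m ∈ normalizer (T.std : Set G), m * T.sEl 20 * m⁻¹ = v} fun y => Iff.rfl
  have hs : normalizer (T.std : Set G) ⊓ centralizer ({T.sEl 20} : Set G) =
      T.pN ⊓ centralizer ({T.sEl 20} : Set G) :=
    le_antisymm (fun x hx => ⟨⟨T.t_twenty.2.2 hx.2, hx.1⟩, hx.2⟩) (fun x hx => ⟨hx.1.2, hx.2⟩)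
  rwa [Nat.card_coe_set_eq, T.orbit_norm hcl,
    Set.InjOn.ncard_image fun a ha b hb e => T.sEl_inj (T.mem_tIdx.1 ha).1 (T.mem_tIdx.1 hb).1 e,
    Set.ncard_coe_finset, hs, T.card_stab] at h

end Sect

end Cfsg.Agent.TenLocal
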