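import Cfsg.Agent.TenLocal.ElemDefs

/-! Kernel checks on the involutions of a Sylow 2-subgroup of `M₂₄`. -/

set_option autoImplicit false
set_option maxRecDepth 100000
set_option maxHeartbeats 0
set_option Elab.async false

namespace Cfsg.Agent.TenLocal

theorem elem_chain_ok : chainB = true := by decide +kernel

theorem elem_list_ok : listB = true := by decide +kernel

theorem elem_codes_ok : okB = true := by decide +kernel

theorem elem_mat_ok : matB = true := by decide +kernel

theorem elem_sub_ok : subB = true := by decide +kernel

theorem elem_inv_ok : invB = true := by decide +kernel

theorem elem_search_ok : searchE = true := by decide +kernel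

end Cfsg.Agent.TenLocal
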