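import Cfsg.Agent.TenLocal.ElemData
import Cfsg.Agent.J4Out.Lin
import Cfsg.Agent.Compute.GolayPerm
import Cfsg.Agent.Compute.Syl2FlagData
import Cfsg.Agent.Compute.CfgOctData

/-!
# Checks on the elementary subgroups of a Sylow 2-subgroup of `M₂₄`

The involutions are numbered; a search over all elementary abelian subgroups keeps a mask of the
vectors fixed by the subgroup reached.
-/

set_option autoImplicit false

namespace Cfsg.Agent.TenLocal

open Cfsg.Agent.Compute Cfsg.Agent.J4Out
open Cfsg.Agent.CosetCert (force)

/-- An entry of a table in chunks of sixteen. -/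
def tget {α : Type} (l : List (List α)) (d : α) (i : ℕ) : α :=
  (l.getD (Nat.div i 16) []).getD (Nat.mod i 16) d

/-- An involution as a code. -/
def eC (i : ℕ) : ℕ := tget elemCode 0 i

/-- An involution as a matrix. -/
def eM (i : ℕ) : List ℕ := tget elemMat [] i

/-- The vectors fixed by an involution. -/
def eF (i : ℕ) : ℕ := tget elemFix 0 i

/-- The involutions commuting with one. -/
def eK (i : ℕ) : ℕ := tget elemComm 0 i

/-- A permutation taking the octad to the fixed points. -/
def eJ (i : ℕ) : ℕ := tget elemConj 0 i

/-- The number of a product. -/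
def eP (i j : ℕ) : ℕ := Nat.mod (Nat.shiftRight (tget elemProd 0 i) (Nat.mul 8 j)) 256

/-- A bit. -/
def ebit (f i : ℕ) : Bool := Nat.beq (Nat.land (Nat.shiftRight f i) 1) 1

/-- The images of the points. -/
def vL (i : ℕ) : ℕ :=
  [1, 2, 67, 148, 531, 170, 1829, 1859, 1014, 1547, 1543, 985, 899, 579, 195, 1551, 563, 189, 1004,
    1822, 1603, 1848, 547, 0].getD i 0

/-- A code squares to the identity. -/
noncomputable def involB (c : ℕ) : Bool :=
  allBelow 24 fun x => Nat.beq (getField 5 c (getField 5 c x)) x

/-- A code is the identity. -/
noncomputable def oneB (c : ℕ) : Bool :=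
  allBelow 24 fun x => Nat.beq (getField 5 c x) x

/-- Two codes commute. -/
noncomputable def commB (a b : ℕ) : Bool :=
  allBelow 24 fun x => Nat.beq (getField 5 a (getField 5 b x)) (getField 5 b (getField 5 a x))

/-- The chain of the Sylow subgroup is checked. -/
noncomputable def chainB : Bool :=
  rep24.checkChain syl2FChain && (topGens syl2FChain).all inM24B &&
    Nat.beq (chainSize syl2FChain) 1024

/-- The involutions of the Sylow subgroup are listed. -/
noncomputable def listB : Bool :=
  (rep24.chainElems syl2FChain).all fun c => force c fun c =>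
    !(involB c) || oneB c || (List.range 191).any fun j => Nat.beq c (eC j)

/-- The listed codes are permutations other than the identity. -/
noncomputable def okB : Bool :=
  allB (fun i => rep24.okb (eC i) && !(oneB (eC i))) 191

/-- The tables of commuting involutions and of their products. -/
noncomputable def tableB (lo n : ℕ) : Bool :=
  allB (fun i => force (eC (lo + i)) fun a => allB (fun j => force (eC j) fun b =>
    cond (ebit (eK (lo + i)) j)
      (cond (Nat.beq (lo + i) j) true (cond (Nat.blt (eP (lo + i) j) 191)
        (force (eC (eP (lo + i) j)) fun p =>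
          allBelow 24 fun x => Nat.beq (getField 5 a (getField 5 b x)) (getField 5 p x)) false))
      (!(commB a b))) 191) n

/-- The matrices follow the permutations on pairs of points. -/
noncomputable def matB : Bool :=
  allB (fun i => force (eC i) fun c =>
    allBelow 24 (fun x => Nat.beq (fapp (eM i) (Nat.xor (vL x) (vL 23)))
      (Nat.xor (vL (getField 5 c x)) (vL (getField 5 c 23)))) &&
    allL (fun v => Nat.blt v 2048) (eM i)) 191

/-- The fixed vectors are recorded. -/
noncomputable def fixedB (lo n : ℕ) : Bool :=
  allB (fun i => force (eF (lo + i)) fun F => allB (fun m =>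
    cond (Nat.beq (fapp (eM (lo + i)) m) m) (ebit F m) true) 2048) n

/-- An element of a listed subspace. -/
noncomputable def subElt (b : List ℕ) (j : ℕ) : ℕ :=
  xs (fun t => b.getD t 0) (bitsOf j b.length)

/-- The listed subspaces have the stated dimension and are recorded as masks. -/
noncomputable def subB : Bool :=
  allB (fun d => allB (fun n =>
    Nat.beq ((elemBasis.getD d []).getD n []).length (d + 3) &&
    allB (fun j => cond (Nat.beq j 0) true
      (force (subElt ((elemBasis.getD d []).getD n []) j) fun e =>
        !(Nat.beq e 0) && Nat.blt e 2048 && ebit ((elemMask.getD d []).getD n 0) e))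
      (Nat.pow 2 (d + 3))) (elemMask.getD d []).length) 6

/-- A listed subspace of dimension `d + 3` meets `f` in zero only. -/
noncomputable def missB (d f : ℕ) : Bool :=
  List.rec (motive := fun _ => Bool) false
    (fun m _ ih => cond (Nat.beq (Nat.land f m) 1) true ih) (elemMask.getD d [])

/-- The listed elements fix the octad pointwise. -/
noncomputable def octB (L : List ℕ) : Bool :=
  allL (fun t => force (eC t) fun c =>
    allBelow 24 fun x => !(ebit cfgOctRoot x) || Nat.beq (getField 5 c x) x) L

/-- A subgroup of order `2 ^ k` allowed by the search. -/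
noncomputable def nodeB (k f : ℕ) (L : List ℕ) : Bool :=
  cond (missB (Nat.sub k 1) f) true (Nat.beq k 4 && missB 2 f && octB L)

/-- The new elements after adjoining `i`. -/
noncomputable def addNew {β : Sort*} (i : ℕ) (L : List ℕ) (k : List ℕ → β) : β :=
  List.rec (motive := fun _ => (List ℕ → β) → β) (fun k => k [i])
    (fun t _ ih k => force (eP i t) fun p => force t fun t => ih fun r => k (p :: t :: r)) L k

/-- One step of the search. -/
noncomputable def stepE (rec' : List ℕ → ℕ → ℕ → ℕ → Bool) (L : List ℕ)
    (cand fix k i : ℕ) : Bool :=
  cond (ebit cand i)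
    (force i fun i => cond (allL (fun t => Nat.blt i (eP i t)) L)
      (cond (Nat.ble (k + 1) 6)
        (force (Nat.land fix (eF i)) fun f =>
          force (Nat.land (Nat.land cand (eK i))
            (Nat.shiftLeft (Nat.sub (Nat.pow 2 191) 1) (i + 1))) fun c =>
            addNew i L fun L' => force (k + 1) fun k' =>
              cond (nodeB k' f L') (rec' L' c f k') false)
        false)
      true)
    true

/-- The search below a subgroup, by blocks of eight candidates. -/
noncomputable def goE : ℕ → List ℕ → ℕ → ℕ → ℕ → Bool :=
  fun fuel => Nat.rec (motive := fun _ => List ℕ → ℕ → ℕ → ℕ → Bool) (fun _ _ _ _ => false)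
    (fun _ ih L cand fix k => cond (Nat.beq cand 0) true
      (allB (fun b => force (Nat.mul 8 b) fun o =>
        cond (Nat.beq (Nat.land (Nat.shiftRight cand o) 255) 0) true
          (allB (fun j => cond (Nat.blt (Nat.add o j) 191)
            (stepE ih L cand fix k (Nat.add o j)) true) 8)) 24)) fuel

/-- The whole search. -/
noncomputable def searchE : Bool :=
  goE 7 [] (Nat.sub (Nat.pow 2 191) 1) (Nat.sub (Nat.pow 2 2048) 1) 0

/-- An involution fixing many vectors is carried into the stabiliser of the octad. -/
noncomputable def invB : Bool :=
  allB (fun i => cond (missB 2 (eF i)) true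
    (force (eJ i) fun h => force (eC i) fun c => inM24B h &&
      allBelow 24 fun x => !(ebit cfgOctRoot x) ||
        Nat.beq (getField 5 c (getField 5 h x)) (getField 5 h x))) 191

end Cfsg.Agent.TenLocal
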