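import Cfsg.Agent.TenLocal.ElemDefs

/-! Kernel check of the vectors fixed by the involutions. -/

set_option autoImplicit false
set_option maxRecDepth 100000
set_option maxHeartbeats 0
set_option Elab.async false

namespace Cfsg.Agent.TenLocal

theorem elem_fix0_ok : fixedB 0 96 = true := by decide +kernel

theorem elem_fix1_ok : fixedB 96 95 = true := by decide +kernel

end Cfsg.Agent.TenLocal
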