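import Cfsg.Agent.TenLocal.ElemCheck
import Cfsg.Agent.TenLocal.ElemTable
import Cfsg.Agent.TenLocal.ElemFix

/-!
# The elementary subgroups of a Sylow 2-subgroup of `M₂₄` fixing many vectors

Soundness of the search: only the pointwise stabiliser of the octad reaches `2 ^ 10`.
-/

set_option autoImplicit false
set_option maxRecDepth 20000

namespace Cfsg.Agent.TenLocal

open Cfsg Cfsg.Agent.Compute Cfsg.Agent.J4Out
open Cfsg.Agent.J4Rep (app app_xor)

theorem ebit_eq (f i : ℕ) : ebit f i = f.testBit i := by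
  rw [ebit, show Nat.land (Nat.shiftRight f i) 1 = (f >>> i) &&& 1 from rfl, Nat.and_one_is_mod,
    Nat.shiftRight_eq_div_pow, Bool.eq_iff_iff, Nat.beq_eq, Nat.testBit_eq_decide_div_mod_eq,
    decide_eq_true_iff]

theorem field_den {c : ℕ} (hc : rep24.Ok c) {x : ℕ} (hx : x < 24) :
    getField 5 c x = ptIdx (rep24.den c (rep24.pt x)) := by
  rw [ptIdx_den hc, ptIdx_rep24 hx]
  rfl

theorem field_lt {c : ℕ} (hc : rep24.Ok c) {x : ℕ} (hx : x < 24) : getField 5 c x < 24 :=
  rep24.act_lt c x hc hx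

theorem pt_field {c : ℕ} (hc : rep24.Ok c) {x : ℕ} (hx : x < 24) :
    rep24.pt (getField 5 c x) = rep24.den c (rep24.pt x) := by
  rw [field_den hc hx, rep24_pt_ptIdx]

theorem perm_ext {σ τ : Equiv.Perm GolayPt}
    (h : ∀ x < 24, σ (rep24.pt x) = τ (rep24.pt x)) : σ = τ :=
  Equiv.ext fun p => by
    have := h _ (ptIdx_lt p)
    rwa [rep24_pt_ptIdx] at this

theorem oneB_iff {c : ℕ} (hc : rep24.Ok c) : oneB c = true ↔ rep24.den c = 1 := by
  rw [oneB, allBelow_eq_true]
  constructor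
  · intro h
    refine perm_ext fun x hx => ?_
    rw [← pt_field hc hx, Nat.beq_eq.mp (h x hx), Equiv.Perm.one_apply]
  · intro h x hx
    rw [Nat.beq_eq, field_den hc hx, h, Equiv.Perm.one_apply, ptIdx_rep24 hx]

theorem chain_checks : rep24.checkChain syl2FChain = true ∧
    (∀ g ∈ topGens syl2FChain, inM24B g = true) ∧ chainSize syl2FChain = 1024 := by
  have h := elem_chain_ok
  rw [chainB, Bool.and_eq_true, Bool.and_eq_true, List.all_eq_true, Nat.beq_eq] at h
  exact ⟨h.1.1, h.1.2, h.2⟩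

theorem eC_ok {i : ℕ} (hi : i < 191) : rep24.Ok (eC i) ∧ rep24.den (eC i) ≠ 1 := by
  have h := (allB_iff _ _).1 elem_codes_ok i hi
  rw [Bool.and_eq_true, Bool.not_eq_true'] at h
  have hok := rep24.okb_sound _ h.1
  exact ⟨hok, fun e => by rw [(oneB_iff hok).2 e] at h; exact absurd h.2 (by simp)⟩

theorem inv_code {σ : Equiv.Perm GolayPt} (hσ : σ ∈ rep24.chainGroup syl2FChain)
    (hsq : σ * σ = 1) (hne : σ ≠ 1) : ∃ i < 191, rep24.den (eC i) = σ := by
  obtain ⟨c, hc, hok, rfl⟩ := rep24.exists_elem syl2FChain chain_checks.1 hσ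
  have h := List.all_eq_true.1 elem_list_ok c hc
  rw [CosetCert.force_eq] at h
  simp only [Bool.or_eq_true, Bool.not_eq_true', List.any_eq_true, List.mem_range, Nat.beq_eq] at h
  rcases h with (h | h) | ⟨j, hj, h⟩
  · rw [← Bool.not_eq_true, involB, allBelow_eq_true] at h
    refine absurd (fun x hx => ?_) h
    rw [Nat.beq_eq, field_den hok (field_lt hok hx), pt_field hok hx, ← Equiv.Perm.mul_apply, hsq,
      Equiv.Perm.one_apply, ptIdx_rep24 hx]
  · exact absurd ((oneB_iff hok).1 h) hne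
  · exact ⟨j, hj, by rw [← h]⟩

theorem code_comm {i j : ℕ} (hi : i < 191) (hj : j < 191)
    (hc : rep24.den (eC i) * rep24.den (eC j) = rep24.den (eC j) * rep24.den (eC i)) :
    (eK i).testBit j = true ∧ (i ≠ j → eP i j < 191 ∧
      rep24.den (eC (eP i j)) = rep24.den (eC i) * rep24.den (eC j)) := by
  have ha := (eC_ok hi).1
  have hb := (eC_ok hj).1
  have h1 := (allB_iff _ _).1 elem_table_ok i hi
  rw [Nat.zero_add, CosetCert.force_eq] at h1
  have h2 := (allB_iff _ _).1 h1 j hj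
  rw [CosetCert.force_eq] at h2
  cases hbit : ebit (eK i) j
  · rw [hbit, cond_false, Bool.not_eq_true', ← Bool.not_eq_true, commB, allBelow_eq_true] at h2
    refine absurd (fun x hx => ?_) h2
    rw [Nat.beq_eq, field_den ha (field_lt hb hx), field_den hb (field_lt ha hx), pt_field hb hx,
      pt_field ha hx, ← Equiv.Perm.mul_apply, ← Equiv.Perm.mul_apply, hc]
  · refine ⟨by rw [← ebit_eq, hbit], fun hne => ?_⟩
    have hbeq : Nat.beq i j = false := by
      rw [← Bool.not_eq_true]; exact fun h3 => hne (Nat.eq_of_beq_eq_true h3)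
    rw [hbit, cond_true, hbeq, cond_false] at h2
    cases hlt : Nat.blt (eP i j) 191
    · rw [hlt, cond_false] at h2; exact absurd h2 (by simp)
    · rw [hlt, cond_true, CosetCert.force_eq, allBelow_eq_true] at h2
      have hp : eP i j < 191 := Nat.le_of_ble_eq_true hlt
      refine ⟨hp, perm_ext fun x hx => ?_⟩
      rw [← pt_field (eC_ok hp).1 hx, ← Nat.beq_eq.mp (h2 x hx), pt_field ha (field_lt hb hx),
        pt_field hb hx, Equiv.Perm.mul_apply]

theorem fix_bit {i m : ℕ} (hi : i < 191) (hm : m < 2048) (he : app (eM i) m = m) :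
    (eF i).testBit m = true := by
  rw [← ebit_eq]
  rcases Nat.lt_or_ge i 96 with hlt | hge
  · have h1 := (allB_iff _ _).1 elem_fix0_ok i hlt
    rw [Nat.zero_add, CosetCert.force_eq] at h1
    have h2 := (allB_iff _ _).1 h1 m hm
    rw [fapp_eq, he, Nat.beq_refl, cond_true] at h2
    exact h2
  · have h1 := (allB_iff _ _).1 elem_fix1_ok (i - 96) (by omega)
    rw [show 96 + (i - 96) = i by omega, CosetCert.force_eq] at h1
    have h2 := (allB_iff _ _).1 h1 m hm
    rw [fapp_eq, he, Nat.beq_refl, cond_true] at h2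
    exact h2

theorem subElt_xor (b : List ℕ) (i j : ℕ) : subElt b (i ^^^ j) = subElt b i ^^^ subElt b j := by
  unfold subElt
  generalize b.length = l
  induction l with
  | zero => simp [bitsOf, xs_nil]
  | succ l ih =>
    rw [bitsOf_succ, bitsOf_succ, bitsOf_succ, Nat.testBit_xor]
    cases i.testBit l <;> cases j.testBit l <;>
      simp only [Bool.false_bne, Bool.true_bne, Bool.not_false, Bool.not_true, Bool.false_eq_true,
        if_true, if_false, xs_cons, ih]
    · ac_rfl
    · ac_rfl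
    · rw [xor_xor_xor_comm', Nat.xor_self, Nat.zero_xor]

/-- A set closed under sums and missing a listed subspace is small. -/
theorem miss_sound {d f : ℕ} (hd : d < 6) (hf : missB d f = true)
    {F : Finset ℕ} (hF : ∀ m ∈ F, f.testBit m = true ∧ m < 2048)
    (hcl : ∀ a ∈ F, ∀ b ∈ F, a ^^^ b ∈ F) : F.card * 2 ^ (d + 3) ≤ 2048 := by
  have hex : ∀ l : List ℕ,
      List.rec (motive := fun _ => Bool) false
        (fun m _ ih => cond (Nat.beq (Nat.land f m) 1) true ih) l = true →
      ∃ n < l.length, Nat.land f (l.getD n 0) = 1 := by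
    intro l
    induction l with
    | nil => intro h; exact absurd h (by simp)
    | cons m l ih =>
      intro h
      cases hm : Nat.beq (Nat.land f m) 1
      · simp only [hm, cond_false] at h
        obtain ⟨n, hn, he⟩ := ih h
        exact ⟨n + 1, by simpa using hn, by simpa using he⟩
      · exact ⟨0, by simp, by simpa using Nat.eq_of_beq_eq_true hm⟩
  obtain ⟨n, hn, hland⟩ := hex _ hf
  have hw := (allB_iff _ _).1 ((allB_iff _ _).1 elem_sub_ok d hd) n hn
  rw [Bool.and_eq_true] at hw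
  set b := (elemBasis.getD d []).getD n []
  have hprop : ∀ j < 2 ^ (d + 3), j ≠ 0 → subElt b j ≠ 0 ∧ subElt b j < 2048 ∧
      ((elemMask.getD d []).getD n 0).testBit (subElt b j) = true := by
    intro j hj hj0
    have h1 := (allB_iff _ _).1 hw.2 j hj
    have hb : Nat.beq j 0 = false := by
      rw [← Bool.not_eq_true]; exact fun h2 => hj0 (Nat.eq_of_beq_eq_true h2)
    rw [hb, cond_false, CosetCert.force_eq] at h1
    simp only [Bool.and_eq_true, Bool.not_eq_true', ebit_eq] at h1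
    exact ⟨fun h0 => by rw [h0] at h1; simp at h1, Nat.le_of_ble_eq_true h1.1.2, h1.2⟩
  have h00 : subElt b 0 = 0 := by
    have h0 := subElt_xor b 0 0
    rwa [Nat.xor_self, Nat.xor_self] at h0
  have hlt : ∀ j < 2 ^ (d + 3), subElt b j < 2048 := by
    intro j hj
    rcases eq_or_ne j 0 with rfl | hj0
    · rw [h00]; norm_num
    · exact (hprop j hj hj0).2.1
  refine le_trans (le_of_eq ?_) (Finset.card_le_card_of_injOn
    (s := F ×ˢ Finset.range (2 ^ (d + 3))) (t := Finset.range 2048)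
    (fun p => p.1 ^^^ subElt b p.2) ?_ ?_ |>.trans (Finset.card_range _).le)
  · rw [Finset.card_product, Finset.card_range]
  · intro p hp
    rw [Finset.mem_coe, Finset.mem_product, Finset.mem_range] at hp
    rw [Finset.mem_coe, Finset.mem_range]
    exact Nat.xor_lt_two_pow (n := 11) (hF _ hp.1).2 (hlt _ hp.2)
  · intro p hp q hq hpq
    rw [Finset.mem_coe, Finset.mem_product, Finset.mem_range] at hp hq
    have he : p.1 ^^^ q.1 = subElt b (p.2 ^^^ q.2) := by
      rw [subElt_xor]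
      have := congrArg (fun z => z ^^^ q.1 ^^^ subElt b p.2) hpq
      simp only at this
      calc p.1 ^^^ q.1 = p.1 ^^^ subElt b p.2 ^^^ q.1 ^^^ subElt b p.2 := by
            rw [Nat.xor_assoc p.1, Nat.xor_comm (subElt b p.2), ← Nat.xor_assoc p.1,
              Nat.xor_assoc, Nat.xor_self, Nat.xor_zero]
        _ = q.1 ^^^ subElt b q.2 ^^^ q.1 ^^^ subElt b p.2 := this
        _ = subElt b p.2 ^^^ subElt b q.2 := by
            rw [Nat.xor_assoc q.1, Nat.xor_comm (subElt b q.2), ← Nat.xor_assoc, Nat.xor_self,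
              Nat.zero_xor, Nat.xor_comm]
    have h2 : p.2 ^^^ q.2 = 0 := by
      by_contra h0
      obtain ⟨hne, -, hbit⟩ := hprop _ (Nat.xor_lt_two_pow hp.2 hq.2) h0
      have h3 : (Nat.land f ((elemMask.getD d []).getD n 0)).testBit (subElt b (p.2 ^^^ q.2)) =
          true := by
        show (f &&& _).testBit _ = true
        rw [Nat.testBit_and, hbit, ← he, (hF _ (hcl _ hp.1 _ hq.1)).1]
        rfl
      rw [hland, show (1 : ℕ) = 2 ^ 0 from rfl, Nat.testBit_two_pow] at h3
      exact hne (of_decide_eq_true h3).symm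
    have h4 : p.1 ^^^ q.1 = 0 := by rw [he, h2, h00]
    exact Prod.ext (Nat.xor_eq_zero_iff.1 h4) (Nat.xor_eq_zero_iff.1 h2)

theorem addNew_eq {β : Sort*} (i : ℕ) : ∀ (L : List ℕ) (k : List ℕ → β),
    addNew i L k = k (L.foldr (fun t r => eP i t :: t :: r) [i]) := by
  intro L
  induction L with
  | nil => intro k; rfl
  | cons t L ih =>
    intro k
    show CosetCert.force (eP i t) (fun p => CosetCert.force t fun t =>
      addNew i L fun r => k (p :: t :: r)) = _
    rw [CosetCert.force_eq, CosetCert.force_eq, ih]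
    rfl

theorem mem_addNew (i : ℕ) : ∀ (L : List ℕ) (u : ℕ),
    u ∈ L.foldr (fun t r => eP i t :: t :: r) [i] ↔
      u = i ∨ u ∈ L ∨ ∃ t ∈ L, u = eP i t := by
  intro L
  induction L with
  | nil => intro u; simp
  | cons t L ih =>
    intro u
    simp only [List.foldr_cons, List.mem_cons, ih, exists_eq_or_imp]
    tauto

theorem octB_fix {L : List ℕ} (h : octB L = true) {t : ℕ} (ht : t ∈ L) (ht' : t < 191)
    {p : GolayPt} (hp : p ∈ suppM cfgOctRoot) : rep24.den (eC t) p = p := by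
  have h1 := (allL_iff _ _).1 h t ht
  rw [CosetCert.force_eq] at h1
  have h2 := allBelow_eq_true.1 h1 _ (ptIdx_lt p)
  rw [ebit_eq, mem_suppM.1 hp, Bool.not_true, Bool.false_or, Nat.beq_eq,
    field_den (eC_ok ht').1 (ptIdx_lt p), rep24_pt_ptIdx] at h2
  exact ptIdx_injective h2

/-- What the search carries. -/
structure Node (A : Subgroup (Equiv.Perm GolayPt)) (F : Finset ℕ) (k : ℕ) (L : List ℕ)
    (cand fix : ℕ) (Q : Finset (Equiv.Perm GolayPt)) : Prop where
  sub : ∀ σ ∈ Q, σ ∈ A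
  one : 1 ∈ Q
  mul : ∀ σ ∈ Q, ∀ τ ∈ Q, σ * τ ∈ Q
  card : Q.card = 2 ^ k
  rep : ∀ σ ∈ Q, σ ≠ 1 → ∃ t ∈ L, rep24.den (eC t) = σ
  back : ∀ t ∈ L, t < 191 ∧ rep24.den (eC t) ∈ Q
  open_ : ∀ i < 191, rep24.den (eC i) ∈ A → rep24.den (eC i) ∉ Q → cand.testBit i = true
  fixed : ∀ m ∈ F, fix.testBit m = true
  small : k = 0 ∨ (k ≤ 6 ∧ nodeB k fix L = true)

/-- The bound on an elementary subgroup with its fixed vectors, and the case of equality. -/
def Small (A : Subgroup (Equiv.Perm GolayPt)) (F : Finset ℕ) : Prop :=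
  F.card * Nat.card A < 1024 ∨
    (Nat.card A = 16 ∧ F.card ≤ 64 ∧ ∀ σ ∈ A, ∀ p ∈ suppM cfgOctRoot, σ p = p)

theorem goE_sound {A : Subgroup (Equiv.Perm GolayPt)} {F : Finset ℕ}
    (hA : ∀ σ ∈ A, σ * σ = 1) (hc : ∀ σ ∈ A, ∀ τ ∈ A, σ * τ = τ * σ)
    (hrep : ∀ σ ∈ A, σ ≠ 1 → ∃ i < 191, rep24.den (eC i) = σ)
    (hF : ∀ m ∈ F, m < 2048 ∧ ∀ i < 191, rep24.den (eC i) ∈ A → app (eM i) m = m)
    (hcl : ∀ a ∈ F, ∀ b ∈ F, a ^^^ b ∈ F) :
    ∀ (fuel k : ℕ) (L : List ℕ) (cand fix : ℕ) (Q : Finset (Equiv.Perm GolayPt)),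
      goE fuel L cand fix k = true → Node A F k L cand fix Q →
        Nat.card A = 1 ∨ Small A F := by
  classical
  intro fuel
  induction fuel with
  | zero => intro k L cand fix Q h; exact absurd h (by simp [goE])
  | succ fuel ih =>
    intro k L cand fix Q hgo hN
    by_cases hall : ∀ σ ∈ A, σ ∈ Q
    · have hcard : Nat.card A = 2 ^ k := by
        rw [← hN.card, Nat.subtype_card Q]
        exact fun σ => ⟨hN.sub σ, hall σ⟩
      rcases Nat.eq_zero_or_pos k with rfl | hpos
      · exact Or.inl hcard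
      rcases hN.small with h0 | ⟨hk6, hnode⟩
      · omega
      right
      have hFf : ∀ m ∈ F, fix.testBit m = true ∧ m < 2048 := fun m hm => ⟨hN.fixed m hm, (hF m hm).1⟩
      cases hm1 : missB (Nat.sub k 1) fix
      · rw [nodeB, hm1, cond_false] at hnode
        simp only [Bool.and_eq_true, Nat.beq_eq] at hnode
        obtain ⟨⟨rfl, hm2⟩, hoct⟩ := hnode
        have := miss_sound (by norm_num) hm2 hFf hcl
        refine Or.inr ⟨hcard, by omega, fun σ hσ p hp => ?_⟩
        rcases eq_or_ne σ 1 with rfl | hσ1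
        · rfl
        · obtain ⟨t, ht, rfl⟩ := hN.rep σ (hall σ hσ) hσ1
          exact octB_fix hoct ht (hN.back t ht).1 hp
      · have := miss_sound (show Nat.sub k 1 < 6 from show k - 1 < 6 by omega) hm1 hFf hcl
        refine Or.inl ?_
        rw [hcard]
        rw [show Nat.sub k 1 + 3 = k + 2 from show k - 1 + 3 = k + 2 by omega, pow_add,
          ← mul_assoc] at this
        omega
    push Not at hall
    have hex : ∃ i, i < 191 ∧ rep24.den (eC i) ∈ A ∧ rep24.den (eC i) ∉ Q := by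
      obtain ⟨σ, hσA, hσQ⟩ := hall
      obtain ⟨i, hi, rfl⟩ := hrep σ hσA fun h1 => hσQ (h1 ▸ hN.one)
      exact ⟨i, hi, hσA, hσQ⟩
    obtain ⟨hi, hσA, hσQ⟩ := Nat.find_spec hex
    set i := Nat.find hex with hidef
    have hmin : ∀ j < 191, rep24.den (eC j) ∈ A → rep24.den (eC j) ∉ Q → i ≤ j :=
      fun j hj h1 h2 => Nat.find_min' hex ⟨hj, h1, h2⟩
    have hbit := hN.open_ i hi hσA hσQ
    have hprod : ∀ t ∈ L, eP i t < 191 ∧
        rep24.den (eC (eP i t)) = rep24.den (eC i) * rep24.den (eC t) ∧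
        rep24.den (eC i) * rep24.den (eC t) ∉ Q ∧ i < eP i t := by
      intro t ht
      obtain ⟨ht1, htQ⟩ := hN.back t ht
      have hne : i ≠ t := fun h1 => hσQ (h1 ▸ htQ)
      obtain ⟨hlt, hp⟩ := (code_comm hi ht1 (hc _ hσA _ (hN.sub _ htQ))).2 hne
      have hnq : rep24.den (eC i) * rep24.den (eC t) ∉ Q := fun h1 => hσQ (by
        have := hN.mul _ h1 _ htQ
        rwa [mul_assoc, hA _ (hN.sub _ htQ), mul_one] at this)
      refine ⟨hlt, hp, hnq, lt_of_le_of_ne
        (hmin _ hlt (hp ▸ mul_mem hσA (hN.sub _ htQ)) (hp ▸ hnq)) fun h1 => ?_⟩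
      rw [← h1] at hp
      exact (eC_ok ht1).2 (mul_eq_left.1 hp.symm)
    -- unfold the step
    change cond (Nat.beq cand 0) true (allB _ 24) = true at hgo
    have hc0 : Nat.beq cand 0 = false := by
      rw [← Bool.not_eq_true]
      intro h0
      rw [Nat.eq_of_beq_eq_true h0, Nat.zero_testBit] at hbit
      exact absurd hbit (by simp)
    rw [hc0, cond_false] at hgo
    have h1 := (allB_iff _ _).1 hgo (i / 8) (by omega)
    rw [CosetCert.force_eq] at h1
    have hblock : Nat.beq (Nat.land (Nat.shiftRight cand (Nat.mul 8 (i / 8))) 255) 0 = false := by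
      rw [← Bool.not_eq_true]
      intro h0
      have h2 : ((cand >>> (8 * (i / 8))) &&& 255).testBit (i % 8) = true := by
        rw [Nat.testBit_and, Nat.testBit_shiftRight, show 8 * (i / 8) + i % 8 = i by omega, hbit,
          show (255 : ℕ) = 2 ^ 8 - 1 by norm_num, Nat.testBit_two_pow_sub_one,
          decide_eq_true (by omega)]
        rfl
      rw [show ((cand >>> (8 * (i / 8))) &&& 255) = 0 from Nat.eq_of_beq_eq_true h0,
        Nat.zero_testBit] at h2
      exact absurd h2 (by simp)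
    rw [hblock, cond_false] at h1
    have h2 := (allB_iff _ _).1 h1 (i % 8) (by omega)
    rw [show Nat.add (Nat.mul 8 (i / 8)) (i % 8) = i from Nat.div_add_mod i 8,
      show Nat.blt i 191 = true from Nat.ble_eq_true_of_le hi, cond_true, stepE, ebit_eq, hbit,
      cond_true, CosetCert.force_eq] at h2
    have hminB : allL (fun t => Nat.blt i (eP i t)) L = true :=
      (allL_iff _ _).2 fun t ht => Nat.ble_eq_true_of_le (hprod t ht).2.2.2
    rw [hminB, cond_true] at h2
    cases hk6 : Nat.ble (k + 1) 6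
    · rw [hk6, cond_false] at h2; exact absurd h2 (by simp)
    rw [hk6, cond_true, CosetCert.force_eq, CosetCert.force_eq, addNew_eq,
      CosetCert.force_eq] at h2
    cases hnode : nodeB (k + 1) (Nat.land fix (eF i)) (L.foldr (fun t r => eP i t :: t :: r) [i])
    · rw [hnode, cond_false] at h2; exact absurd h2 (by simp)
    rw [hnode, cond_true] at h2
    set σ := rep24.den (eC i) with hσdef
    refine ih (k + 1) _ _ _ (Q ∪ Q.image (σ * ·)) h2 ?_
    refine ⟨?_, Finset.mem_union_left _ hN.one, ?_, ?_, ?_, ?_, ?_, ?_,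
      Or.inr ⟨Nat.le_of_ble_eq_true hk6, hnode⟩⟩
    · intro τ hτ
      rcases Finset.mem_union.1 hτ with hτ | hτ
      · exact hN.sub τ hτ
      · obtain ⟨ρ, hρ, rfl⟩ := Finset.mem_image.1 hτ
        exact mul_mem hσA (hN.sub ρ hρ)
    · intro τ hτ ρ hρ
      rcases Finset.mem_union.1 hτ with hτ | hτ <;> rcases Finset.mem_union.1 hρ with hρ | hρ
      · exact Finset.mem_union_left _ (hN.mul _ hτ _ hρ)
      · obtain ⟨ρ', hρ', rfl⟩ := Finset.mem_image.1 hρ
        refine Finset.mem_union_right _ (Finset.mem_image.2 ⟨τ * ρ', hN.mul _ hτ _ hρ', ?_⟩)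
        rw [← mul_assoc, ← mul_assoc, hc _ hσA _ (hN.sub _ hτ)]
      · obtain ⟨τ', hτ', rfl⟩ := Finset.mem_image.1 hτ
        exact Finset.mem_union_right _
          (Finset.mem_image.2 ⟨τ' * ρ, hN.mul _ hτ' _ hρ, (mul_assoc _ _ _).symm⟩)
      · obtain ⟨τ', hτ', rfl⟩ := Finset.mem_image.1 hτ
        obtain ⟨ρ', hρ', rfl⟩ := Finset.mem_image.1 hρ
        refine Finset.mem_union_left _ ?_
        rw [show σ * τ' * (σ * ρ') = σ * (τ' * σ) * ρ' by simp only [mul_assoc],
          ← hc _ hσA _ (hN.sub _ hτ'), ← mul_assoc, hA _ hσA, one_mul]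
        exact hN.mul _ hτ' _ hρ'
    · rw [Finset.card_union_of_disjoint, Finset.card_image_of_injective _ (mul_right_injective σ),
        hN.card, pow_succ, mul_two]
      rw [Finset.disjoint_left]
      intro τ hτ hτ'
      obtain ⟨ρ, hρ, rfl⟩ := Finset.mem_image.1 hτ'
      refine hσQ ?_
      have := hN.mul _ hτ _ hρ
      rwa [mul_assoc, hA _ (hN.sub _ hρ), mul_one] at this
    · intro τ hτ hτ1
      rcases Finset.mem_union.1 hτ with hτ | hτ
      · obtain ⟨t, ht, htH⟩ := hN.rep τ hτ hτ1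
        exact ⟨t, (mem_addNew _ _ _).2 (Or.inr (Or.inl ht)), htH⟩
      · obtain ⟨ρ, hρ, rfl⟩ := Finset.mem_image.1 hτ
        rcases eq_or_ne ρ 1 with rfl | hρ1
        · exact ⟨i, (mem_addNew _ _ _).2 (Or.inl rfl), (mul_one σ).symm⟩
        · obtain ⟨t, ht, rfl⟩ := hN.rep ρ hρ hρ1
          exact ⟨_, (mem_addNew _ _ _).2 (Or.inr (Or.inr ⟨t, ht, rfl⟩)), (hprod t ht).2.1⟩
    · intro t ht
      rcases (mem_addNew _ _ _).1 ht with rfl | ht | ⟨s, hs, rfl⟩
      · exact ⟨hi, Finset.mem_union_right _ (Finset.mem_image.2 ⟨1, hN.one, mul_one σ⟩)⟩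
      · exact ⟨(hN.back t ht).1, Finset.mem_union_left _ (hN.back t ht).2⟩
      · exact ⟨(hprod s hs).1, Finset.mem_union_right _
          (Finset.mem_image.2 ⟨_, (hN.back s hs).2, (hprod s hs).2.1.symm⟩)⟩
    · intro j hj hjA hjQ
      have hjQ' : rep24.den (eC j) ∉ Q := fun h1 => hjQ (Finset.mem_union_left _ h1)
      have hle := hmin j hj hjA hjQ'
      have hne : i ≠ j := fun h1 => hjQ (Finset.mem_union_right _
        (Finset.mem_image.2 ⟨1, hN.one, by rw [mul_one, hσdef, h1]⟩))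
      show ((cand &&& _) &&& ((2 ^ 191 - 1) <<< (i + 1))).testBit j = true
      rw [Nat.testBit_and, Nat.testBit_and, hN.open_ j hj hjA hjQ',
        (code_comm hi hj (hc _ hσA _ hjA)).1, Nat.testBit_shiftLeft,
        Nat.testBit_two_pow_sub_one, decide_eq_true (show j ≥ i + 1 by omega),
        decide_eq_true (show j - (i + 1) < 191 by omega)]
      rfl
    · intro m hm
      show (fix &&& _).testBit m = true
      rw [Nat.testBit_and, hN.fixed m hm, fix_bit hi (hF m hm).1 ((hF m hm).2 i hi hσA)]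
      rfl

/-- The search at the root. -/
theorem elem_small {A : Subgroup (Equiv.Perm GolayPt)} {F : Finset ℕ}
    (hA : ∀ σ ∈ A, σ * σ = 1) (hc : ∀ σ ∈ A, ∀ τ ∈ A, σ * τ = τ * σ)
    (hK : A ≤ rep24.chainGroup syl2FChain)
    (hF : ∀ m ∈ F, m < 2048 ∧ ∀ i < 191, rep24.den (eC i) ∈ A → app (eM i) m = m)
    (hcl : ∀ a ∈ F, ∀ b ∈ F, a ^^^ b ∈ F) : Nat.card A = 1 ∨ Small A F := by
  classical
  refine goE_sound hA hc (fun σ h1 h2 => inv_code (hK h1) (hA σ h1) h2) hF hcl 7 0 [] _ _ {1}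
    elem_search_ok ⟨?_, Finset.mem_singleton_self 1, ?_, rfl, ?_, ?_, ?_, ?_, Or.inl rfl⟩
  · intro σ hσ
    rw [Finset.mem_singleton.1 hσ]
    exact one_mem A
  · intro σ hσ τ hτ
    rw [Finset.mem_singleton.1 hσ, Finset.mem_singleton.1 hτ, mul_one]
    exact Finset.mem_singleton_self 1
  · intro σ hσ h1
    exact absurd (Finset.mem_singleton.1 hσ) h1
  · intro t ht
    exact absurd ht List.not_mem_nil
  · intro i hi _ _
    show (2 ^ 191 - 1).testBit i = true
    rw [Nat.testBit_two_pow_sub_one, decide_eq_true hi]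
  · intro m hm
    show (2 ^ 2048 - 1).testBit m = true
    rw [Nat.testBit_two_pow_sub_one, decide_eq_true (hF m hm).1]

end Cfsg.Agent.TenLocal
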