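import Cfsg.Agent.TenLocal.OrbCheck

/-!
# Further checks for the normaliser of the standard group
-/

set_option autoImplicit false
set_option maxRecDepth 100000
set_option Elab.async false

namespace Cfsg.Agent.TenLocal.Oct

open Cfsg Cfsg.Agent.Compute Cfsg.Agent.LargeFischer

/-- All sixteen commutators. -/
noncomputable def wAllB : Bool :=
  allBelow 2048 fun v => !(Oct.inW v) || allBelow 16 fun m => Oct.inU (comR m v)

theorem wAll_ok : wAllB = true := by decide +kernel

/-- The pairs in the fixed space are those inside the octad. -/
noncomputable def duadB : Bool :=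
  allBelow 24 fun p => allBelow 24 fun q => Nat.beq p q ||
    ((Oct.inU (Nat.xor (vpL.getD p 0) (vpL.getD q 0))) == (bitB cfgOctRoot p && bitB cfgOctRoot q))

theorem duad_ok : duadB = true := by decide +kernel

/-- The fixed space is spanned by the first orbit. -/
noncomputable def spanB : Bool :=
  allBelow 1024 fun a => !(Nat.beq (mOf a) 0) || Nat.beq a 0 || bitB oMask0 a ||
    (List.range 1024).any fun b => bitB oMask0 b && bitB oMask0 (Nat.xor a b)

theorem span_ok : spanB = true := by decide +kernel

/-- Moving the roots. -/
noncomputable def rootB : Bool :=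
  bitB oMask0 1 && bitB oMask1 20 && bitB oMask2 8 && bitB oMask3 24 &&
  Nat.beq (chainSize cfgOctChain) 322560

theorem root_ok : rootB = true := by decide +kernel

end Cfsg.Agent.TenLocal.Oct
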