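import Cfsg.Agent.TenLocal.Std
import Cfsg.Agent.TenLocal.NormCheck

/-!
# The normaliser of the standard group inside the normaliser of the group of order `2 ^ 11`
-/

set_option autoImplicit false
set_option maxRecDepth 8000

open Cfsg Subgroup
open scoped Pointwise

namespace Cfsg.Agent.TenLocal

open LargeExtra (oc)
open LargeFischer (W11 pt IsDuad bv)
open J4Type (mSub)
open J4Type.V11
open Oct
open Compute (ptIdx)

/-- The permutation fixes the octad as a set. -/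
def SO (σ : ↥M24) : Prop := ∀ p, p ∈ octPts ↔ (σ : Equiv.Perm GolayPt) p ∈ octPts

theorem SO.inv {σ : ↥M24} (h : SO σ) : SO σ⁻¹ := fun p => by
  rw [InvMemClass.coe_inv]
  conv_lhs => rw [show p = (σ : Equiv.Perm GolayPt) ((σ : Equiv.Perm GolayPt)⁻¹ p) by simp]
  exact (h _).symm

theorem rEl_fixes {m : ℕ} {p : GolayPt} (hp : p ∈ octPts) : (rEl m : Equiv.Perm GolayPt) p = p :=
  (mem_fixingSubgroup_iff _).1 (rEl_mem m).2 p hp

theorem conj_rEl {σ : ↥M24} (hσ : SO σ) (m : ℕ) : ∃ m' < 16, σ * rEl m * σ⁻¹ = rEl m' := by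
  have hmem : (σ : Equiv.Perm GolayPt) * (rEl m : Equiv.Perm GolayPt) * (σ : Equiv.Perm GolayPt)⁻¹ ∈ octR := by
    refine ⟨(σ * rEl m * σ⁻¹).2, (mem_fixingSubgroup_iff _).2 fun p hp => ?_⟩
    have hq : ((σ : Equiv.Perm GolayPt)⁻¹) p ∈ octPts := by
      have := (hσ.inv p).1 hp
      rwa [InvMemClass.coe_inv] at this
    show (σ : Equiv.Perm GolayPt) ((rEl m : Equiv.Perm GolayPt) ((σ : Equiv.Perm GolayPt)⁻¹ p)) = p
    rw [rEl_fixes hq]
    simp
  obtain ⟨m', hm', e⟩ := exists_rEl hmem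
  exact ⟨m', hm', Subtype.ext e.symm⟩

theorem mem_octPts_of_fix {p : GolayPt} (h : (rEl 1 : Equiv.Perm GolayPt) p = p) : p ∈ octPts :=
  rEl_fix (by norm_num) (by norm_num) h

theorem SO_of_conj {σ : ↥M24} (h : ∀ m < 16, ∃ m' < 16, σ * rEl m * σ⁻¹ = rEl m') : SO σ := by
  classical
  have key : ∀ p ∈ octPts, (σ : Equiv.Perm GolayPt) p ∈ octPts := by
    intro p hp
    have hsurj : Function.Surjective fun m : Fin 16 => (⟨(h m.1 m.2).choose, (h m.1 m.2).choose_spec.1⟩ : Fin 16) := by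
      refine Finite.surjective_of_injective fun a b e => Fin.ext ?_
      have e' : (h a.1 a.2).choose = (h b.1 b.2).choose := congrArg Fin.val e
      have e1 := (h a.1 a.2).choose_spec.2
      rw [e', ← (h b.1 b.2).choose_spec.2] at e1
      exact rEl_inj a.2 b.2 (mul_left_cancel (mul_right_cancel e1))
    obtain ⟨m, hm⟩ := hsurj ⟨1, by norm_num⟩
    have hm' : σ * rEl m.1 * σ⁻¹ = rEl 1 := by
      rw [(h m.1 m.2).choose_spec.2]
      exact congrArg rEl (congrArg Fin.val hm)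
    refine mem_octPts_of_fix ?_
    rw [← hm']
    simp only [Subgroup.coe_mul, InvMemClass.coe_inv, Equiv.Perm.mul_apply, Equiv.Perm.inv_def, Equiv.symm_apply_apply]
    rw [rEl_fixes hp]
  intro p
  refine ⟨key p, fun hp => ?_⟩
  have himg : (σ : Equiv.Perm GolayPt) '' octPts = octPts :=
    Set.eq_of_subset_of_ncard_le (by rintro _ ⟨q, hq, rfl⟩; exact key q hq)
      (by rw [Set.ncard_image_of_injective _ (σ : Equiv.Perm GolayPt).injective]) (Set.toFinite _)
  rw [← himg] at hp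
  obtain ⟨q, hq, e⟩ := hp
  rwa [(σ : Equiv.Perm GolayPt).injective e] at hq

theorem pt_code (p : GolayPt) : Compute.ptIdx p < 24 ∧ bv (vpL.getD (Compute.ptIdx p) 0) = pt p := by
  refine ⟨Compute.ptIdx_lt p, ?_⟩
  rw [pts_ok (Compute.ptIdx_lt p), Compute.rep24_pt_ptIdx]

theorem pairU_iff {i j : GolayPt} (hij : i ≠ j) :
    (∃ u, Oct.inU u = true ∧ pt i + pt j = bv u) ↔ i ∈ octPts ∧ j ∈ octPts := by
  have h := Compute.allBelow_eq_true.1 (Compute.allBelow_eq_true.1 duad_ok _ (pt_code i).1) _ (pt_code j).1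
  rw [Bool.or_eq_true] at h
  have hne : ptIdx i ≠ ptIdx j := fun e => hij (Compute.ptIdx_injective e)
  replace h := beq_iff_eq.1 (h.resolve_left (by rw [Nat.beq_eq]; exact hne))
  have hl : ∀ k < 24, vpL.getD k 0 < 2048 := by decide +kernel
  have hlt : Nat.xor (vpL.getD (ptIdx i) 0) (vpL.getD (ptIdx j) 0) < 2048 :=
    LargeFischer.xor_lt11 (hl _ (pt_code i).1) (hl _ (pt_code j).1)
  have hbv : pt i + pt j = bv (Nat.xor (vpL.getD (ptIdx i) 0) (vpL.getD (ptIdx j) 0)) := by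
    rw [← (pt_code i).2, ← (pt_code j).2, ← LargeFischer.bv_xor]
    rfl
  rw [mem_octPts, mem_octPts, ← Bool.and_eq_true]
  simp only [Compute.bitB_eq] at h
  rw [← h]
  refine ⟨fun ⟨u, hu, e⟩ => ?_, fun hu => ⟨_, hu, hbv⟩⟩
  rw [hbv] at e
  rwa [LargeFischer.bv_inj hlt ((inU_lt hu).trans (by norm_num)) e]

variable {G : Type*} [Group G] [Finite G] {z : G} {P : Subgroup G} {V : Type*} [AddCommGroup V]
  {π : ↥(oc z) →* Multiplicative V} {ρ : ↥(mSub z P) →* Equiv.Perm V} {q : V → ZMod 2} {B : List V}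
  {S : Sys z P π ρ q B}

namespace Sect

variable (T : Sect S)

theorem fixed_iff (w : W11) : (∀ m < 16, T.act (rEl m) w = w) ↔ ∃ u, Oct.inU u = true ∧ w = bv u := by
  constructor
  · intro h
    obtain ⟨v, hv, rfl⟩ := bv_surj w
    refine ⟨v, (inU_iff hv).2 fun m hm => ?_, rfl⟩
    have h1 := h m hm
    rw [T.act_rEl hm hv] at h1
    refine LargeFischer.bv_inj ?_ hv h1
    have hb : ∀ m < 16, (matOf (rC m)).all (fun c => Nat.blt c 2048) = true := by decide +kernel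
    exact mapp_lt _ (fun c hc => by simpa using List.all_eq_true.1 (hb m hm) c hc) v
  · rintro ⟨u, hu, rfl⟩ m hm
    have hlt : u < 2048 := (inU_lt hu).trans (by norm_num)
    rw [T.act_rEl hm hlt, (inU_iff hlt).1 hu m hm]

theorem act_fixed {σ : ↥M24} (hσ : SO σ) {u : ℕ} (hu : Oct.inU u = true) :
    ∃ u', Oct.inU u' = true ∧ T.act σ (bv u) = bv u' := by
  refine (T.fixed_iff _).1 fun m hm => ?_
  obtain ⟨m', hm', e⟩ := conj_rEl hσ.inv m
  rw [inv_inv] at e
  rw [← T.act_mul, show rEl m * σ = σ * rEl m' by rw [← e]; group, T.act_mul,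
    (T.fixed_iff (bv u)).2 ⟨u, hu, rfl⟩ m' hm']

theorem el_conj (v w : W11) (σ τ : ↥M24) : T.el v σ * T.el w τ * (T.el v σ)⁻¹ =
    T.el (v + T.act σ w + T.act (σ * τ * σ⁻¹) v) (σ * τ * σ⁻¹) := by
  rw [mul_inv_eq_iff_eq_mul, T.el_mul, T.el_mul, inv_mul_cancel_right,
    show v + T.act σ w + T.act (σ * τ * σ⁻¹) v + T.act (σ * τ * σ⁻¹) v = v + T.act σ w by
      rw [add_assoc (v + T.act σ w), LargeFischer.self11, add_zero]]

theorem sEl_of_rEl {m : ℕ} (hm : m < 16) : ∃ n < 1024, T.sEl n = T.el 0 (rEl m) := by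
  have h0 : Oct.inU 0 = true := by decide +kernel
  obtain ⟨n, hn, e1, e2⟩ := exists_coord h0 hm
  exact ⟨n, hn, by rw [sEl, e1, e2, LargeFischer.bv_zero]⟩

theorem mem_std_iff {w : W11} {σ : ↥M24} :
    T.el w σ ∈ T.std ↔ ∃ u m, Oct.inU u = true ∧ m < 16 ∧ w = bv u ∧ σ = rEl m := by
  constructor
  · rintro ⟨n, hn, e⟩
    obtain ⟨h1, h2⟩ := T.el_inj e
    exact ⟨uOf n, mOf n, (coord_facts hn).1, (coord_facts hn).2.2.1, h1, h2⟩
  · rintro ⟨u, m, hu, hm, rfl, rfl⟩
    exact T.el_mem_std hu hm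

/-- The vectors moved into the fixed space by the translations. -/
def InW (w : W11) : Prop := ∃ v, v < 2048 ∧ Oct.inW v = true ∧ w = bv v

theorem norm_el {v : W11} {σ : ↥M24} :
    T.el v σ ∈ normalizer (T.std : Set G) ↔ SO σ ∧ InW v := by
  constructor
  · intro h
    have hc : ∀ m < 16, ∃ u' m', Oct.inU u' = true ∧ m' < 16 ∧
        v + T.act (σ * rEl m * σ⁻¹) v = bv u' ∧ σ * rEl m * σ⁻¹ = rEl m' := by
      intro m hm
      obtain ⟨n, hn, en⟩ := T.sEl_of_rEl hm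
      have h1 := (mem_normalizer_iff.1 h (T.sEl n)).1 (T.sEl_mem hn)
      rw [en, T.el_conj, map_zero, add_zero] at h1
      obtain ⟨u, m', hu, hm', e1, e2⟩ := T.mem_std_iff.1 h1
      exact ⟨u, m', hu, hm', e1, e2⟩
    have hσ : SO σ := SO_of_conj fun m hm => by
      obtain ⟨-, m', -, hm', -, e⟩ := hc m hm
      exact ⟨m', hm', e⟩
    refine ⟨hσ, ?_⟩
    obtain ⟨x, hx, rfl⟩ := bv_surj v
    refine ⟨x, hx, ?_, rfl⟩
    rw [Oct.inW, Compute.allBelow_eq_true]
    intro i hi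
    have hi' : 2 ^ i < 16 := lt_of_lt_of_le (Nat.pow_lt_pow_right (by norm_num) hi) (by norm_num)
    obtain ⟨m, hm, e⟩ := conj_rEl hσ.inv (2 ^ i)
    rw [inv_inv] at e
    obtain ⟨u, -, hu, -, e1, -⟩ := hc m hm
    rw [show σ * rEl m * σ⁻¹ = rEl (2 ^ i) by rw [← e]; group, T.act_rEl hi' hx, ← LargeFischer.bv_xor] at e1
    have hb : ∀ m < 16, (matOf (rC m)).all (fun c => Nat.blt c 2048) = true := by decide +kernel
    have hlt : mapp (matOf (rC (2 ^ i))) x < 2048 :=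
      mapp_lt _ (fun c hc => by simpa using List.all_eq_true.1 (hb _ hi') c hc) x
    have := LargeFischer.bv_inj (LargeFischer.xor_lt11 hx hlt) ((inU_lt hu).trans (by norm_num)) e1
    show Oct.inU (x ^^^ mapp (matOf (rC (2 ^ i))) x) = true
    rw [this]; exact hu
  · rintro ⟨hσ, x, hx, hW, rfl⟩
    have hle : ∀ a ∈ T.std, T.el (bv x) σ * a * (T.el (bv x) σ)⁻¹ ∈ T.std := by
      rintro _ ⟨n, hn, rfl⟩
      obtain ⟨m', hm', e⟩ := conj_rEl hσ (mOf n)
      obtain ⟨u', hu', e'⟩ := T.act_fixed hσ (coord_facts hn).1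
      rw [sEl, T.el_conj, e, e', T.act_rEl hm' hx]
      refine T.mem_std_iff.2 ⟨u' ^^^ (x ^^^ mapp (matOf (rC m')) x), m', ?_, hm', ?_, rfl⟩
      · have h2 : Oct.inU (x ^^^ mapp (matOf (rC m')) x) = true := by
          have := Compute.allBelow_eq_true.1 wAll_ok x hx
          rw [hW, Bool.not_true, Bool.false_or] at this
          exact Compute.allBelow_eq_true.1 this m' hm'
        have hlt : u' < 2048 := (inU_lt hu').trans (by norm_num)
        have hlt2 : x ^^^ mapp (matOf (rC m')) x < 2048 := (inU_lt h2).trans (by norm_num)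
        refine (inU_iff (LargeFischer.xor_lt11 hlt hlt2)).2 fun m hm => ?_
        rw [mapp_xor, (inU_iff hlt).1 hu' m hm, (inU_iff hlt2).1 h2 m hm]
      · rw [LargeFischer.bv_xor, LargeFischer.bv_xor]
        abel
    refine mem_normalizer_iff_conj_image_eq.2 ?_
    refine Set.eq_of_subset_of_ncard_le ?_ ?_ (Set.toFinite _)
    · rintro _ ⟨a, ha, rfl⟩
      exact hle a ha
    · rw [Set.ncard_image_of_injective _ (MulAut.conj (T.el (bv x) σ)).injective]

end Sect

end Cfsg.Agent.TenLocal
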