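import Cfsg.Agent.TenLocal.Norm

/-!
# The orbits of the part of the normaliser in `N(V)` on the standard group
-/

set_option autoImplicit false
set_option maxRecDepth 8000

open Cfsg Subgroup
open scoped Pointwise

namespace Cfsg.Agent.TenLocal

open LargeExtra (oc)
open LargeFischer (W11 pt IsDuad bv)
open J4Type (mSub)
open J4Type.V11
open Oct

theorem bit_or_pow {known n i : ℕ} :
    (Nat.lor known (Nat.shiftLeft 1 n)).testBit i = true ↔ known.testBit i = true ∨ i = n := by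
  show (known ||| 1 <<< n).testBit i = true ↔ _
  rw [Nat.one_shiftLeft, Nat.testBit_or, Bool.or_eq_true, Nat.testBit_two_pow, decide_eq_true_iff]
  exact or_congr_right eq_comm

theorem card_SO : Nat.card {σ : ↥M24 // SO σ} = 322560 := by
  classical
  have h := Oct.root_ok
  simp only [Oct.rootB, Bool.and_eq_true, Nat.beq_eq] at h
  have hs := Compute.octStab_spec
  have hmem : ∀ σ : ↥M24, SO σ ↔ (σ : Equiv.Perm GolayPt) ∈ Compute.rep24.chainGroup Compute.cfgOctChain := by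
    intro σ
    rw [← hs.2.1, mem_inf]
    refine ⟨fun h => ⟨σ.2, MulAction.mem_stabilizer_iff.2 ?_⟩, fun h p => ?_⟩
    · refine Finset.eq_of_subset_of_card_le (fun p hp => ?_) (by rw [Finset.card_smul_finset])
      obtain ⟨q, hq, rfl⟩ := Finset.mem_smul_finset.1 hp
      exact Finset.mem_coe.1 ((h q).1 (Finset.mem_coe.2 hq))
    · show p ∈ (Compute.suppM Compute.cfgOctRoot : Set GolayPt) ↔ _
      rw [Finset.mem_coe]
      conv_rhs => rw [octPts, Finset.mem_coe, ← MulAction.mem_stabilizer_iff.1 h.2, ← Equiv.Perm.smul_def,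
        Finset.smul_mem_smul_finset_iff]
  rw [← h.2, ← Compute.rep24.card_chainGroup _ hs.1]
  refine Nat.card_congr
    { toFun := fun σ => ⟨_, (hmem σ.1).1 σ.2⟩
      invFun := fun g => ⟨⟨g.1, (mem_inf.1 (hs.2.1.ge g.2)).1⟩, (hmem _).2 g.2⟩
      left_inv := fun _ => rfl
      right_inv := fun _ => rfl }

variable {G : Type*} [Group G] [Finite G] {z : G} {P : Subgroup G} {V : Type*} [AddCommGroup V]
  {π : ↥(oc z) →* Multiplicative V} {ρ : ↥(mSub z P) →* Equiv.Perm V} {q : V → ZMod 2} {B : List V}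
  {S : Sys z P π ρ q B}

theorem card_InW : Nat.card {w : W11 // Sect.InW w} = 1024 := by
  classical
  have h := w_ok
  simp only [Oct.wB, Bool.and_eq_true, Nat.beq_eq] at h
  set L := (List.range 2048).filter fun v => Oct.inW v with hL
  have hnd : L.Nodup := List.nodup_range.filter _
  have hm : ∀ i : Fin L.length, L[i] < 2048 ∧ Oct.inW L[i] = true := fun i => by
    have := List.getElem_mem (l := L) i.2
    obtain ⟨h1, h2⟩ := List.mem_filter.1 (Eq.subst (motive := fun l => L[(i : ℕ)] ∈ l) hL this)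
    exact ⟨List.mem_range.1 h1, h2⟩
  rw [← h.1, ← Nat.card_fin L.length]
  refine (Nat.card_eq_of_bijective (fun i : Fin L.length =>
    (⟨bv L[i], L[i], (hm i).1, (hm i).2, rfl⟩ : {w : W11 // Sect.InW w})) ⟨fun i j e => ?_, fun w => ?_⟩).symm
  · exact Fin.ext (hnd.getElem_inj_iff.1 (LargeFischer.bv_inj (hm i).1 (hm j).1 (congrArg Subtype.val e)))
  · obtain ⟨v, hv, hW, e⟩ := w.2
    have hvL : v ∈ L := List.mem_filter.2 ⟨List.mem_range.2 hv, hW⟩
    obtain ⟨i, hi, rfl⟩ := List.getElem_of_mem hvL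
    exact ⟨⟨i, hi⟩, Subtype.ext e.symm⟩

namespace Sect

variable (T : Sect S)

/-- The part of the normaliser of the standard group in `N(V)`. -/
noncomputable def pN : Subgroup G := T.F.nrm ⊓ normalizer (T.std : Set G)

theorem card_pN : Nat.card ↥T.pN = 1024 * 322560 := by
  rw [← card_InW, ← card_SO, ← Nat.card_prod]
  refine (Nat.card_eq_of_bijective (fun x : {w : W11 // InW w} × {σ : ↥M24 // SO σ} =>
    (⟨T.el x.1.1 x.2.1, mem_inf.2 ⟨T.el_mem _ _, T.norm_el.2 ⟨x.2.2, x.1.2⟩⟩⟩ : ↥T.pN)) ⟨fun x y e => ?_, fun g => ?_⟩).symm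
  · obtain ⟨h1, h2⟩ := T.el_inj (congrArg Subtype.val e)
    exact Prod.ext (Subtype.ext h1) (Subtype.ext h2)
  · obtain ⟨w, hw⟩ := T.exists_el (mem_inf.1 g.2).1
    obtain ⟨h1, h2⟩ := T.norm_el.1 (hw ▸ (mem_inf.1 g.2).2)
    exact ⟨(⟨w, h2⟩, ⟨_, h1⟩), Subtype.ext hw.symm⟩

/-- Conjugate in the part of the normaliser in `N(V)`. -/
def Rel (a b : ℕ) : Prop := ∃ m ∈ T.pN, m * T.sEl a * m⁻¹ = T.sEl b

theorem Rel.refl (a : ℕ) : T.Rel a a := ⟨1, one_mem _, by group⟩

theorem Rel.trans {a b c : ℕ} : T.Rel a b → T.Rel b c → T.Rel a c := by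
  rintro ⟨m, hm, e⟩ ⟨n, hn, e'⟩
  exact ⟨n * m, mul_mem hn hm, by rw [← e', ← e]; group⟩

theorem rel_step {t : ℕ × ℕ × ℕ} (h : stepB t = true) :
    t.2.1 < 1024 ∧ t.2.2 < 1024 ∧ T.Rel t.2.1 t.2.2 := by
  obtain ⟨g, a, b⟩ := t
  simp only [stepB, Bool.and_eq_true, Nat.blt_eq] at h
  obtain ⟨⟨ha, hb⟩, h⟩ := h
  refine ⟨ha, hb, ?_⟩
  have hu := (coord_facts ha).2.1
  have hm := (coord_facts ha).2.2.1
  by_cases hg : g < 6
  · rw [Nat.blt, Nat.ble_eq_true_of_le hg, cond_true] at h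
    simp only [Bool.and_eq_true, Nat.beq_eq] at h
    have hsel : wSel.getD g 0 < 2048 ∧ Oct.inW (wSel.getD g 0) = true := by
      have hlen : wSel.length = 6 := rfl
      have hmem : wSel.getD g 0 ∈ wSel := by
        rw [List.getD_eq_getElem _ _ (hlen.symm ▸ hg)]; exact List.getElem_mem _
      have hw := w_ok
      simp only [Oct.wB, Bool.and_eq_true, List.all_eq_true] at hw
      have := hw.2 _ hmem
      rw [Nat.blt_eq] at this
      exact ⟨this.2, this.1⟩
    set w := wSel.getD g 0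
    have hSO : SO (1 : ↥M24) := fun p => Iff.rfl
    refine ⟨T.el (bv w) 1, mem_inf.2 ⟨T.el_mem _ _, T.norm_el.2 ⟨hSO, w, hsel.1, hsel.2, rfl⟩⟩, ?_⟩
    rw [sEl, sEl, T.el_conj, one_mul, inv_one, mul_one, T.act_one, T.act_rEl hm hsel.1, h.1, h.2]
    congr 1
    show bv w + bv (uOf a) + bv (mapp (matOf (rC (mOf a))) w) =
      bv (uOf a ^^^ (w ^^^ mapp (matOf (rC (mOf a))) w))
    rw [LargeFischer.bv_xor, LargeFischer.bv_xor]
    abel
  · rw [show Nat.blt g 6 = false by rw [← Bool.not_eq_true, Nat.blt_eq]; exact hg, cond_false] at h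
    simp only [Bool.and_eq_true, Nat.beq_eq, Nat.blt_eq] at h
    obtain ⟨⟨hg13, h1⟩, h2⟩ := h
    have hj : g - 6 < 7 := by omega
    have hs := Compute.allBelow_eq_true.1 Oct.s_ok _ hj
    simp only [Bool.and_eq_true, Nat.beq_eq] at hs
    obtain ⟨⟨hM, himg⟩, hperm⟩ := hs
    obtain ⟨hok, hden⟩ := Compute.mem_M24_of_check hM
    have hp := Compute.allBelow_eq_true.1 hperm (mOf a) hm
    simp only [Bool.and_eq_true, Nat.blt_eq] at hp
    obtain ⟨hm', hp⟩ := hp
    set σ : ↥M24 := ⟨_, hden⟩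
    simp only [Nat.sub_eq] at h1 h2 hm' hp
    set m' := (sImg.getD (g - 6) []).getD (mOf a) 16
    have hSO : SO σ := by
      intro p
      rw [mem_octPts, mem_octPts, show (σ : Equiv.Perm GolayPt) = Compute.rep24.den (sC (g - 6)) from rfl]
      conv_rhs => rw [← himg, Compute.testBit_imgMask hok]
    have hconj : σ * rEl (mOf a) * σ⁻¹ = rEl m' := by
      rw [mul_inv_eq_iff_eq_mul]
      refine Subtype.ext (perm_ext_pts fun i hi => ?_)
      have := Compute.allBelow_eq_true.1 hp i hi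
      rw [Nat.beq_eq] at this
      rw [Subgroup.coe_mul, Subgroup.coe_mul, Equiv.Perm.mul_apply, Equiv.Perm.mul_apply, rEl_val hm,
        rEl_val hm', den_pt (r_facts hm).1 hi,
        show (σ : Equiv.Perm GolayPt) = Compute.rep24.den (sC (g - 6)) from rfl,
        den_pt hok (Compute.rep24.act_lt _ _ (r_facts hm).1 hi), den_pt hok hi,
        den_pt (r_facts hm').1 (Compute.rep24.act_lt _ _ hok hi)]
      exact congrArg _ this
    have h0 : InW (0 : W11) := ⟨0, by norm_num, by decide +kernel, LargeFischer.bv_zero.symm⟩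
    refine ⟨T.el 0 σ, mem_inf.2 ⟨T.el_mem _ _, T.norm_el.2 ⟨hSO, h0⟩⟩, ?_⟩
    rw [sEl, sEl, T.el_conj, hconj, map_zero, add_zero, zero_add,
      show σ = ⟨_, hden⟩ from rfl, T.act_code hok hden hu, h1, h2]

theorem rel_run {root : ℕ} : ∀ (l : List (ℕ × ℕ × ℕ)) (known : ℕ),
    (∀ i, known.testBit i = true → i < 1024 ∧ T.Rel root i) → (runB l known).1 = true →
      ∀ i, (runB l known).2.testBit i = true → i < 1024 ∧ T.Rel root i := by
  intro l
  induction l with
  | nil => intro known hk _; exact hk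
  | cons t l ih =>
    intro known hk h
    have e : runB (t :: l) known = cond (Compute.bitB known t.2.1 && stepB t)
        (runB l (Nat.lor known (Nat.shiftLeft 1 t.2.2))) (false, known) := rfl
    rw [e] at h ⊢
    cases hc : (Compute.bitB known t.2.1 && stepB t)
    · rw [hc] at h; exact absurd h (by simp)
    · rw [hc, cond_true] at h
      rw [cond_true]
      rw [Bool.and_eq_true, Compute.bitB_eq] at hc
      refine ih _ (fun i hi => ?_) h
      rcases bit_or_pow.1 hi with hi | rfl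
      · exact hk i hi
      · obtain ⟨-, h2, h3⟩ := T.rel_step hc.2
        exact ⟨h2, Rel.trans T (hk _ hc.1).2 h3⟩

theorem rel_orb {root mask : ℕ} {l : List (List (ℕ × ℕ × ℕ))} (hr : root < 1024) (h : orbB root mask l = true)
    {i : ℕ} (hi : mask.testBit i = true) : i < 1024 ∧ T.Rel root i := by
  simp only [orbB, Bool.and_eq_true, Nat.beq_eq] at h
  refine T.rel_run l.flatten _ (fun j hj => ?_) h.1 i (by rw [h.2]; exact hi)
  rw [show Nat.shiftLeft 1 root = 2 ^ root from Nat.one_shiftLeft _, Nat.testBit_two_pow,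
    decide_eq_true_iff] at hj
  subst hj
  exact ⟨hr, Rel.refl T _⟩

theorem rel_mask0 {i : ℕ} (h : oMask0.testBit i = true) : i < 1024 ∧ T.Rel 1 i :=
  T.rel_orb (by norm_num) orb0_ok h

theorem rel_mask1 {i : ℕ} (h : oMask1.testBit i = true) : i < 1024 ∧ T.Rel 20 i :=
  T.rel_orb (by norm_num) orb1_ok h

theorem rel_mask2 {i : ℕ} (h : oMask2.testBit i = true) : i < 1024 ∧ T.Rel 8 i :=
  T.rel_orb (by norm_num) orb2_ok h

theorem rel_mask3 {i : ℕ} (h : oMask3.testBit i = true) : i < 1024 ∧ T.Rel 24 i :=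
  T.rel_orb (by norm_num) orb3_ok h

theorem rel_conj {a b : ℕ} (h : T.Rel a b) : IsConj z (T.sEl a) ↔ IsConj z (T.sEl b) := by
  obtain ⟨m, -, e⟩ := h
  rw [← e, isConj_conj_iff]

theorem sEl_low {n : ℕ} (hm : mOf n = 0) : T.sEl n = wg T.F (bv (uOf n)) := by
  rw [sEl, hm, rEl_zero, el, map_one, coe_one, mul_one]

theorem low_sec {n : ℕ} (hn : n < 1024) (hm : mOf n = 0) (hn0 : n ≠ 0) :
    ¬ IsConj z (T.sEl n) ↔ Compute.bitB LargeFischer.tmask (uOf n) = true := by
  have hne : wg T.F (bv (uOf n)) ≠ 1 := fun h => hn0 (T.sEl_inj hn (by norm_num) (by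
    rw [T.sEl_low hm, T.sEl_zero, h]))
  rw [T.sEl_low hm, Compute.bitB_eq, ← J4Type.Orbits.bit_iff, ← duad_iff (coord_facts hn).2.1,
    duad_iff_sec T.F T.good]
  exact ⟨fun h => ⟨hne, h⟩, fun h => h.2⟩

end Sect

end Cfsg.Agent.TenLocal
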