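import Cfsg.Agent.TenLocal.Types

/-!
# The orbits of the normaliser on the standard group
-/

set_option autoImplicit false
set_option maxRecDepth 8000

open Cfsg Subgroup
open scoped Pointwise

namespace Cfsg.Agent.TenLocal

open LargeExtra (oc)
open LargeFischer (W11 pt IsDuad bv)
open J4Type (mSub)
open J4Type.V11
open Oct

/-- The decomposable part. -/
noncomputable def zIdx : Finset ℕ := mIdx oMask0 ∪ mIdx oMask2

theorem card_zIdx : zIdx.card = 155 := by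
  rw [zIdx, Finset.card_union_of_disjoint (Finset.disjoint_left.2 fun n hn hn' =>
    sort_facts.2.2.2.1 n (mem_mIdx.1 hn).1 (mem_mIdx.1 hn').2 (sort_facts.2.1 n (mem_mIdx.1 hn).1 (mem_mIdx.1 hn).2).1),
    card_mIdx, card_mIdx, sort_facts.2.2.2.2.2.1, sort_facts.2.2.2.2.2.2.2.1]

theorem zero_not : oMask0.testBit 0 = false ∧ oMask2.testBit 0 = false := by decide +kernel

theorem mem_zIdx {n : ℕ} : n ∈ zIdx ↔ n < 1024 ∧ (oMask0.testBit n = true ∨ oMask2.testBit n = true) := by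
  rw [zIdx, Finset.mem_union, mem_mIdx, mem_mIdx]; tauto

theorem roots_mem : oMask0.testBit 1 = true ∧ oMask3.testBit 24 = true := by
  have h := Oct.root_ok
  simp only [Oct.rootB, Bool.and_eq_true, Compute.bitB_eq] at h
  exact ⟨h.1.1.1.1, h.1.2⟩

theorem low_span {a : ℕ} (ha : a < 1024) (hm : mOf a = 0) : a = 0 ∨ oMask0.testBit a = true ∨
    ∃ b < 1024, oMask0.testBit b = true ∧ oMask0.testBit (a ^^^ b) = true := by
  have h := Compute.allBelow_eq_true.1 Oct.span_ok a ha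
  simp only [Bool.or_eq_true, Bool.not_eq_true', List.any_eq_true, Bool.and_eq_true, Compute.bitB_eq,
    Nat.beq_eq, List.mem_range] at h
  rcases h with ((h | h) | h) | ⟨b, hb, h1, h2⟩
  · rw [← Bool.not_eq_true, Nat.beq_eq] at h; exact absurd hm h
  · exact Or.inl h
  · exact Or.inr (Or.inl h)
  · exact Or.inr (Or.inr ⟨b, hb, h1, h2⟩)

variable {G : Type*} [Group G] [Finite G] {z : G} {P : Subgroup G} {V : Type*} [AddCommGroup V]
  {π : ↥(oc z) →* Multiplicative V} {ρ : ↥(mSub z P) →* Equiv.Perm V} {q : V → ZMod 2} {B : List V}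
  {S : Sys z P π ρ q B}

namespace Sect

variable (T : Sect S)

theorem conj_img {m : G} (hm : m ∈ normalizer (T.std : Set G)) {a : ℕ} (ha : a < 1024) :
    ∃ i < 1024, m * T.sEl a * m⁻¹ = T.sEl i := by
  obtain ⟨i, hi, e⟩ := (mem_normalizer_iff.1 hm _).1 (T.sEl_mem ha)
  exact ⟨i, hi, e⟩

theorem sEl_ne {i : ℕ} (hi : i < 1024) (h : i ≠ 0) : T.sEl i ≠ 1 := fun e =>
  h (T.sEl_inj hi (by norm_num) (e.trans T.sEl_zero.symm))

theorem orbit_one (hcl : T.ClassLe) :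
    {v : G | ∃ m ∈ normalizer (T.std : Set G), m * T.sEl 1 * m⁻¹ = v} = T.sEl '' ↑zIdx := by
  obtain ⟨hcls, -⟩ := T.classes_std hcl
  have h1z : IsConj z (T.sEl 1) := (hcls 1 (by norm_num) one_ne_zero).2 (Or.inl roots_mem.1)
  have himg : ∀ m ∈ normalizer (T.std : Set G), ∀ a < 1024, oMask0.testBit a = true →
      ∃ i ∈ zIdx, m * T.sEl a * m⁻¹ = T.sEl i := by
    intro m hm a ha hb
    obtain ⟨i, hi, e⟩ := T.conj_img hm ha
    have ha0 : a ≠ 0 := fun h => by rw [h, zero_not.1] at hb; exact Bool.noConfusion hb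
    have hi0 : i ≠ 0 := fun h => by
      rw [h, T.sEl_zero, conj_eq_one_iff] at e
      exact T.sEl_ne ha ha0 e
    refine ⟨i, mem_zIdx.2 ⟨hi, (hcls i hi hi0).1 ?_⟩, e⟩
    rw [← e, isConj_conj_iff]
    exact (hcls a ha ha0).2 (Or.inl hb)
  -- some element outside `V` is reached
  obtain ⟨m, hm, i, hib, e⟩ : ∃ m ∈ normalizer (T.std : Set G), ∃ i, oMask2.testBit i = true ∧
      m * T.sEl 1 * m⁻¹ = T.sEl i := by
    by_contra hne
    push_neg at hne
    have hlow : ∀ m ∈ normalizer (T.std : Set G), ∀ a < 1024, oMask0.testBit a = true →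
        ∀ i < 1024, m * T.sEl a * m⁻¹ = T.sEl i → mOf i = 0 := by
      intro m hm a ha hb i hi e
      obtain ⟨j, hj, e'⟩ := himg m hm a ha hb
      obtain rfl := T.sEl_inj hi (mem_zIdx.1 hj).1 (e.symm.trans e')
      rcases (mem_zIdx.1 hj).2 with h | h
      · exact (sort_facts.2.1 i hi h).1
      · obtain ⟨p, hp, ep⟩ := (T.rel_mask0 hb).2
        exact absurd (show m * p * T.sEl 1 * (m * p)⁻¹ = T.sEl i by rw [← e, ← ep]; group)
          (hne (m * p) (mul_mem hm hp.2) i h)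
    obtain ⟨h20, h20b⟩ := twenty
    have h24 : 24 ∈ T.tIdx := T.mem_tIdx.2 ⟨by norm_num, by norm_num, fun h => by
      rcases (hcls 24 (by norm_num) (by norm_num)).1 h with h' | h'
      · exact sort_facts.2.2.2.2.1 24 (by norm_num) roots_mem.2 (sort_facts.2.1 24 (by norm_num) h').1
      · have : oMask2.testBit 24 = false := by decide +kernel
        rw [this] at h'; exact Bool.noConfusion h'⟩
    obtain ⟨m, hm, em⟩ : T.sEl 24 ∈ {v : G | ∃ m ∈ normalizer (T.std : Set G), m * T.sEl 20 * m⁻¹ = v} := by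
      rw [T.orbit_norm hcl]; exact ⟨24, h24, rfl⟩
    rcases low_span h20 (sort_facts.2.2.1 20 h20 h20b).1 with h | h | ⟨b, hb, h1, h2⟩
    · omega
    · exact sort_facts.2.2.2.2.1 24 (by norm_num) roots_mem.2 (hlow m hm 20 h20 h 24 (by norm_num) em)
    · have hab : 20 ^^^ b < 1024 := Nat.xor_lt_two_pow (n := 10) h20 hb
      obtain ⟨i, hi, ei⟩ := T.conj_img hm hb
      obtain ⟨j, hj, ej⟩ := T.conj_img hm hab
      have hij : T.sEl 24 = T.sEl (i ^^^ j) := by
        rw [← em, ← T.sEl_mul hi hj, ← ei, ← ej,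
          show m * T.sEl b * m⁻¹ * (m * T.sEl (20 ^^^ b) * m⁻¹) = m * (T.sEl b * T.sEl (20 ^^^ b)) * m⁻¹ by group,
          T.sEl_mul hb hab, Nat.xor_comm 20 b, ← Nat.xor_assoc, Nat.xor_self, Nat.zero_xor]
      refine sort_facts.2.2.2.2.1 24 (by norm_num) roots_mem.2 ?_
      rw [T.sEl_inj (by norm_num) (Nat.xor_lt_two_pow (n := 10) hi hj) hij, mOf_xor,
        hlow m hm b hb h1 i hi ei, hlow m hm _ hab h2 j hj ej, Nat.xor_self]
  ext v
  constructor
  · rintro ⟨m, hm, rfl⟩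
    obtain ⟨i, hi, e⟩ := himg m hm 1 (by norm_num) roots_mem.1
    exact ⟨i, Finset.mem_coe.2 hi, e.symm⟩
  · rintro ⟨j, hj, rfl⟩
    rcases (mem_zIdx.1 (Finset.mem_coe.1 hj)).2 with h | h
    · obtain ⟨p, hp, ep⟩ := (T.rel_mask0 h).2
      exact ⟨p, hp.2, ep⟩
    · obtain ⟨p, hp, ep⟩ := (T.rel_mask2 hib).2
      obtain ⟨p', hp', ep'⟩ := (T.rel_mask2 h).2
      refine ⟨p' * p⁻¹ * m, mul_mem (mul_mem hp'.2 (inv_mem hp.2)) hm, ?_⟩
      calc p' * p⁻¹ * m * T.sEl 1 * (p' * p⁻¹ * m)⁻¹ = p' * (p⁻¹ * (m * T.sEl 1 * m⁻¹) * p) * p'⁻¹ := by group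
        _ = p' * T.sEl 8 * p'⁻¹ := by rw [e, ← ep]; group
        _ = T.sEl j := ep'

theorem ncard_orbit_one (hcl : T.ClassLe) :
    Set.ncard {v : G | ∃ m ∈ normalizer (T.std : Set G), m * T.sEl 1 * m⁻¹ = v} = 155 := by
  rw [T.orbit_one hcl,
    Set.InjOn.ncard_image fun a ha b hb e => T.sEl_inj (mem_zIdx.1 ha).1 (mem_zIdx.1 hb).1 e,
    Set.ncard_coe_finset, card_zIdx]

theorem ncard_orbit_t (hcl : T.ClassLe) :
    Set.ncard {v : G | ∃ m ∈ normalizer (T.std : Set G), m * T.sEl 20 * m⁻¹ = v} = 868 := by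
  rw [T.orbit_norm hcl,
    Set.InjOn.ncard_image fun a ha b hb e => T.sEl_inj (T.mem_tIdx.1 ha).1 (T.mem_tIdx.1 hb).1 e,
    Set.ncard_coe_finset, (T.classes_std hcl).2]

/-- **The normaliser is irreducible on the group.** -/
theorem irreducible (hcl : T.ClassLe) {W : Subgroup G} (hW : W ≤ T.std)
    (hn : normalizer (T.std : Set G) ≤ normalizer (W : Set G)) : W = ⊥ ∨ W = T.std := by
  classical
  obtain ⟨hcls, hT⟩ := T.classes_std hcl
  set I : Finset ℕ := (Finset.range 1024).filter fun n => T.sEl n ∈ W with hI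
  have hmemI : ∀ {n}, n ∈ I ↔ n < 1024 ∧ T.sEl n ∈ W := fun {n} => by simp [hI]
  have hcardI : Nat.card W = I.card := by
    have hset : (W : Set G) = T.sEl '' ↑I := by
      ext x
      constructor
      · intro hx
        obtain ⟨n, hn', rfl⟩ := hW hx
        exact ⟨n, Finset.mem_coe.2 (hmemI.2 ⟨hn', hx⟩), rfl⟩
      · rintro ⟨n, hn', rfl⟩
        exact (hmemI.1 hn').2
    rw [show Nat.card W = (W : Set G).ncard from Nat.card_coe_set_eq _, hset,
      Set.InjOn.ncard_image fun a ha b hb e => T.sEl_inj (hmemI.1 ha).1 (hmemI.1 hb).1 e,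
      Set.ncard_coe_finset]
  have hclosed : ∀ (r : ℕ) (X : Finset ℕ), r < 1024 →
      {v : G | ∃ m ∈ normalizer (T.std : Set G), m * T.sEl r * m⁻¹ = v} = T.sEl '' ↑X →
      (∀ i ∈ X, i < 1024) → (∃ i ∈ X, i ∈ I) → X ⊆ I := by
    intro r X hr hX hlt ⟨i, hi, hiI⟩ j hj
    obtain ⟨m, hm, em⟩ := hX.ge ⟨i, hi, rfl⟩
    obtain ⟨m', hm', em'⟩ := hX.ge ⟨j, hj, rfl⟩
    refine hmemI.2 ⟨hlt j hj, ?_⟩
    have h := (mem_normalizer_iff.1 (hn (mul_mem hm' (inv_mem hm))) _).1 (hmemI.1 hiI).2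
    rwa [← em, show m' * m⁻¹ * (m * T.sEl r * m⁻¹) * (m' * m⁻¹)⁻¹ = m' * T.sEl r * m'⁻¹ by group, em'] at h
  have hdvd : I.card ∣ 2 ^ 10 := by
    rw [← hcardI, ← T.card_std]; exact card_dvd_of_le hW
  have hzI : (∃ i ∈ zIdx, i ∈ I) → zIdx ⊆ I :=
    hclosed 1 zIdx (by norm_num) (T.orbit_one hcl) fun i hi => (mem_zIdx.1 hi).1
  have htI : (∃ i ∈ T.tIdx, i ∈ I) → T.tIdx ⊆ I :=
    hclosed 20 T.tIdx (by norm_num) (T.orbit_norm hcl) fun i hi => (T.mem_tIdx.1 hi).1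
  have h0 : (0 : ℕ) ∈ I := hmemI.2 ⟨by norm_num, by rw [T.sEl_zero]; exact one_mem _⟩
  have hz0 : (0 : ℕ) ∉ zIdx := fun h => by
    have := (mem_zIdx.1 h).2
    rw [zero_not.1, zero_not.2] at this
    simp at this
  have ht0 : (0 : ℕ) ∉ T.tIdx := fun h => (T.mem_tIdx.1 h).2.1 rfl
  have hdisj : Disjoint zIdx T.tIdx := Finset.disjoint_left.2 fun n hn hn' =>
    (T.mem_tIdx.1 hn').2.2 ((hcls n (mem_zIdx.1 hn).1 (T.mem_tIdx.1 hn').2.1).2 (mem_zIdx.1 hn).2)
  have hsub : ∀ n ∈ I, n = 0 ∨ n ∈ zIdx ∨ n ∈ T.tIdx := fun n hnI => by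
    obtain ⟨hlt, -⟩ := hmemI.1 hnI
    by_cases h : n = 0
    · exact Or.inl h
    by_cases hz : IsConj z (T.sEl n)
    · exact Or.inr (Or.inl (mem_zIdx.2 ⟨hlt, (hcls n hlt h).1 hz⟩))
    · exact Or.inr (Or.inr (T.mem_tIdx.2 ⟨hlt, h, hz⟩))
  by_cases hz : ∃ i ∈ zIdx, i ∈ I <;> by_cases ht : ∃ i ∈ T.tIdx, i ∈ I
  · right
    refine eq_of_le_of_card_ge hW ?_
    rw [T.card_std, hcardI]
    refine le_trans ?_ (Finset.card_le_card
      (Finset.insert_subset h0 (Finset.union_subset (hzI hz) (htI ht))))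
    rw [Finset.card_insert_of_notMem (by simp [hz0, ht0]), Finset.card_union_of_disjoint hdisj, card_zIdx, hT]
    norm_num
  · exfalso
    have hI' : I = insert 0 zIdx := Finset.Subset.antisymm (fun n hn => by
      rcases hsub n hn with h | h | h
      · rw [h]; exact Finset.mem_insert_self _ _
      · exact Finset.mem_insert_of_mem h
      · exact absurd ⟨n, h, hn⟩ ht) (Finset.insert_subset h0 (hzI hz))
    rw [hI', Finset.card_insert_of_notMem hz0, card_zIdx] at hdvd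
    norm_num at hdvd
  · exfalso
    have hI' : I = insert 0 T.tIdx := Finset.Subset.antisymm (fun n hn => by
      rcases hsub n hn with h | h | h
      · rw [h]; exact Finset.mem_insert_self _ _
      · exact absurd ⟨n, h, hn⟩ hz
      · exact Finset.mem_insert_of_mem h) (Finset.insert_subset h0 (htI ht))
    rw [hI', Finset.card_insert_of_notMem ht0, hT] at hdvd
    norm_num at hdvd
  · left
    refine card_eq_one.1 ?_
    rw [hcardI]
    refine Finset.card_eq_one.2 ⟨0, Finset.eq_singleton_iff_unique_mem.2 ⟨h0, fun n hn => ?_⟩⟩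
    rcases hsub n hn with h | h | h
    · exact h
    · exact absurd ⟨n, h, hn⟩ hz
    · exact absurd ⟨n, h, hn⟩ ht

end Sect

end Cfsg.Agent.TenLocal
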