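import Cfsg.Agent.TenLocal.Coord
import Cfsg.Agent.TenLocal.Perms
import Cfsg.Agent.J4Type.V11.Complement

/-!
# The standard elementary abelian group of order `2 ^ 10` in the normaliser
-/

set_option autoImplicit false

open Cfsg Subgroup
open scoped Pointwise

namespace Cfsg.Agent.TenLocal

open LargeExtra (oc)
open LargeFischer (W11 pt IsDuad bv)
open J4Type (mSub)
open J4Type.V11
open Oct

theorem acts_unique {σ : Equiv.Perm GolayPt} {L L' : W11 →+ W11} (h : Acts σ L) (h' : Acts σ L') (w : W11) :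
    L w = L' w :=
  LargeFischer.span_duads (K := AddMonoidHom.eqLocus L L') (fun i => (h i none).trans (h' i none).symm) w

theorem coord_facts {n : ℕ} (hn : n < 1024) : Oct.inU (uOf n) = true ∧ uOf n < 2048 ∧ mOf n < 16 ∧
    (n = 0 ∨ uOf n ≠ 0 ∨ mOf n ≠ 0) := by
  have h := Compute.allBelow_eq_true.1 coord_ok n hn
  simp only [Bool.and_eq_true, Bool.or_eq_true, Bool.not_eq_true', Bool.and_eq_false_iff, Nat.blt_eq,
    Nat.beq_eq, ← Bool.not_eq_true] at h
  exact ⟨h.1.1.1, h.1.1.2, h.1.2, h.2.imp_right fun h' => not_and_or.1 h'⟩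

theorem uOf_xor (a b : ℕ) : uOf (a ^^^ b) = uOf a ^^^ uOf b := mapp_xor _ a b

theorem mOf_xor (a b : ℕ) : mOf (a ^^^ b) = mOf a ^^^ mOf b := mapp_xor _ a b

theorem uList_facts : uList.length = 64 ∧
    ∀ v, Oct.inU v = true → v ∈ uList := by
  have hl : uB' = true := Oct.u_ok
  simp only [uB', Bool.and_eq_true, Nat.beq_eq] at hl
  refine ⟨hl.1.1.1.1.2, fun v hv => ?_⟩
  have h1 := Compute.allBelow_eq_true.1 hl.1.2 v (inU_lt hv)
  rw [show Compute.bitB uMask v = true from hv, Bool.not_true, Bool.false_or, List.any_eq_true] at h1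
  obtain ⟨x, hx, e⟩ := h1
  rw [Nat.beq_eq] at e
  rwa [e]

theorem coord_inj {a b : ℕ} (ha : a < 1024) (hb : b < 1024) (h1 : uOf a = uOf b) (h2 : mOf a = mOf b) :
    a = b := by
  have hx := (coord_facts (Nat.xor_lt_two_pow (n := 10) ha hb)).2.2.2
  rw [uOf_xor, mOf_xor, h1, h2, Nat.xor_self, Nat.xor_self] at hx
  exact Nat.xor_eq_zero_iff.1 (hx.resolve_right (by simp))

theorem exists_uSet : ∃ U : Finset ℕ, U.card ≤ 64 ∧ ∀ v, Oct.inU v = true → v ∈ U := by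
  obtain ⟨hlen, hmem⟩ := uList_facts
  exact ⟨uList.toFinset, (List.toFinset_card_le uList).trans hlen.le, fun v hv => List.mem_toFinset.2 (hmem v hv)⟩

theorem exists_coord {u m : ℕ} (hu : Oct.inU u = true) (hm : m < 16) :
    ∃ n < 1024, uOf n = u ∧ mOf n = m := by
  classical
  obtain ⟨U, hU, hmem⟩ := exists_uSet
  obtain ⟨N, hN⟩ : ∃ N : ℕ, N = 1024 := ⟨_, rfl⟩
  obtain ⟨M, hM⟩ : ∃ M : ℕ, M = 16 := ⟨_, rfl⟩
  have hcard : (U ×ˢ Finset.range M).card ≤ (Finset.range N).card := by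
    rw [Finset.card_product, Finset.card_range, Finset.card_range, hN, hM]
    omega
  have hlt : ∀ {n}, n ∈ Finset.range N → n < 1024 := fun h => (Finset.mem_range.1 h).trans_le hN.le
  obtain ⟨n, hn, e⟩ := Finset.surj_on_of_inj_on_of_card_le (s := Finset.range N)
    (t := U ×ˢ Finset.range M) (fun n _ => (uOf n, mOf n))
    (fun n hn => Finset.mem_product.2 ⟨hmem _ (coord_facts (hlt hn)).1,
      Finset.mem_range.2 ((coord_facts (hlt hn)).2.2.1.trans_le hM.ge)⟩)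
    (fun a b ha hb e => by
      rw [Prod.mk.injEq] at e
      exact coord_inj (hlt ha) (hlt hb) e.1 e.2)
    hcard (u, m) (Finset.mem_product.2 ⟨hmem u hu, Finset.mem_range.2 (hm.trans_le hM.ge)⟩)
  rw [Prod.mk.injEq] at e
  exact ⟨n, hlt hn, e.1.symm, e.2.symm⟩

variable {G : Type*} [Group G] [Finite G] {z : G} {P : Subgroup G} {V : Type*} [AddCommGroup V]
  {π : ↥(oc z) →* Multiplicative V} {ρ : ↥(mSub z P) →* Equiv.Perm V} {q : V → ZMod 2} {B : List V}
  {S : Sys z P π ρ q B}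

theorem conj_wg' (F : Frame S) {n : G} (hn : n ∈ F.nrm) (w : W11) :
    n * wg F w = wg F (F.tau ⟨n, hn⟩ w) * n := by
  rw [← conj_wg F ⟨n, hn⟩ w]; group

/-- A frame with a section of the action on the points. -/
structure Sect (S : Sys z P π ρ q B) where
  /-- the frame -/
  F : Frame S
  good : F.Good
  /-- the section -/
  kap : ↥M24 →* ↥F.nrm
  spec : ∀ σ, F.theta good (kap σ) = σ

theorem exists_sect (S : Sys z P π ρ q B) : Nonempty (Sect S) := by
  obtain ⟨F, hF⟩ := Frame.exists_good S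
  obtain ⟨K, hK, h1, h2, -⟩ := F.exists_split hF
  let f : ↥K →* ↥M24 := (F.theta hF).comp (inclusion hK)
  have hinj : Function.Injective f := (injective_iff_map_eq_one f).2 fun k hk => by
    have h : inclusion hK k ∈ (F.theta hF).ker := hk
    rw [F.theta_ker hF, mem_subgroupOf] at h
    have h' : (k : G) ∈ K ⊓ F.grp := ⟨k.2, h⟩
    rw [h1, mem_bot] at h'
    exact Subtype.ext h'
  have hsurj : Function.Surjective f := fun σ => by
    obtain ⟨n, hn⟩ := F.theta_surjective hF σ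
    have hnorm : K ≤ normalizer (F.grp : Set G) := hK
    have hmem : (n : G) ∈ ((F.grp ⊔ K : Subgroup G) : Set G) := by
      rw [SetLike.mem_coe, sup_comm, h2]; exact n.2
    rw [coe_mul_of_right_le_normalizer_left F.grp K hnorm] at hmem
    obtain ⟨a, ha, k, hk, e⟩ := hmem
    refine ⟨⟨k, hk⟩, ?_⟩
    have he : n = ⟨a, F.grp_le_nrm ha⟩ * inclusion hK ⟨k, hk⟩ := Subtype.ext e.symm
    have hker : (⟨a, F.grp_le_nrm ha⟩ : ↥F.nrm) ∈ (F.theta hF).ker := by
      rw [F.theta_ker hF, mem_subgroupOf]; exact ha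
    rw [← hn, he, map_mul, MonoidHom.mem_ker.1 hker, one_mul]
    rfl
  let e : ↥K ≃* ↥M24 := MulEquiv.ofBijective f ⟨hinj, hsurj⟩
  exact ⟨⟨F, hF, (inclusion hK).comp e.symm.toMonoidHom, fun σ => e.apply_symm_apply σ⟩⟩

namespace Sect

variable (T : Sect S)

/-- The action on the coordinates. -/
noncomputable def act (σ : ↥M24) : W11 →+ W11 := T.F.tau (T.kap σ)

theorem acts (σ : ↥M24) : Acts (σ : Equiv.Perm GolayPt) (T.act σ) := by
  have h := acts_theta T.F T.good (T.kap σ)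
  rwa [T.spec] at h

theorem act_mul (σ τ : ↥M24) (w : W11) : T.act (σ * τ) w = T.act σ (T.act τ w) := by
  rw [act, map_mul]; exact T.F.tau_comp _ _ w

theorem act_one (w : W11) : T.act 1 w = w :=
  acts_unique (T.acts 1) (show Acts _ (AddMonoidHom.id W11) from fun _ _ => rfl) w

theorem act_code {g : ℕ} (hg : Compute.rep24.Ok g) (hm : Compute.rep24.den g ∈ M24) {v : ℕ} (hv : v < 2048) :
    T.act ⟨_, hm⟩ (bv v) = bv (mapp (matOf g) v) :=
  matOf_spec hg _ (T.acts ⟨_, hm⟩) hv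

theorem act_rEl {m v : ℕ} (hm : m < 16) (hv : v < 2048) :
    T.act (rEl m) (bv v) = bv (mapp (matOf (rC m)) v) := by
  have e : rEl m = ⟨_, (r_facts hm).2.1⟩ := Subtype.ext (rEl_val hm)
  rw [e]
  exact T.act_code (r_facts hm).1 _ hv

/-- The element with the given coordinates and image. -/
noncomputable def el (w : W11) (σ : ↥M24) : G := wg T.F w * (T.kap σ : G)

theorem el_mem (w : W11) (σ : ↥M24) : T.el w σ ∈ T.F.nrm :=
  mul_mem (T.F.grp_le_nrm (wg_mem T.F w)) (T.kap σ).2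

theorem kap_wg (σ : ↥M24) (w : W11) : (T.kap σ : G) * wg T.F w = wg T.F (T.act σ w) * (T.kap σ : G) :=
  conj_wg' T.F (T.kap σ).2 w

theorem el_mul (v w : W11) (σ τ : ↥M24) : T.el v σ * T.el w τ = T.el (v + T.act σ w) (σ * τ) := by
  rw [el, el, el, mul_assoc (wg T.F v), ← mul_assoc (T.kap σ : G), T.kap_wg, wg_add, map_mul]
  simp only [coe_mul, mul_assoc]

theorem el_one : T.el 0 1 = 1 := by rw [el, wg_zero, map_one]; simp

theorem theta_el (w : W11) (σ : ↥M24) : T.F.theta T.good ⟨T.el w σ, T.el_mem w σ⟩ = σ := by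
  have hker : (⟨wg T.F w, T.F.grp_le_nrm (wg_mem T.F w)⟩ : ↥T.F.nrm) ∈ (T.F.theta T.good).ker := by
    rw [T.F.theta_ker T.good, mem_subgroupOf]; exact wg_mem T.F w
  rw [show (⟨T.el w σ, T.el_mem w σ⟩ : ↥T.F.nrm) = ⟨wg T.F w, T.F.grp_le_nrm (wg_mem T.F w)⟩ * T.kap σ
    from rfl, map_mul, MonoidHom.mem_ker.1 hker, one_mul, T.spec]

theorem el_inj {v w : W11} {σ τ : ↥M24} (h : T.el v σ = T.el w τ) : v = w ∧ σ = τ := by
  have hs : σ = τ := by
    rw [← T.theta_el v σ, ← T.theta_el w τ]; exact congrArg _ (Subtype.ext h)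
  subst hs
  exact ⟨wg_inj T.F (mul_right_cancel h), rfl⟩

theorem exists_el {n : G} (hn : n ∈ T.F.nrm) : ∃ w, n = T.el w (T.F.theta T.good ⟨n, hn⟩) := by
  have hker : (⟨n, hn⟩ : ↥T.F.nrm) * (T.kap (T.F.theta T.good ⟨n, hn⟩))⁻¹ ∈ (T.F.theta T.good).ker := by
    rw [MonoidHom.mem_ker, map_mul, map_inv, T.spec, mul_inv_cancel]
  rw [T.F.theta_ker T.good, mem_subgroupOf] at hker
  obtain ⟨w, hw⟩ := exists_wg T.F hker
  exact ⟨w, by rw [el, hw]; simp⟩

/-- An element of the standard group. -/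
noncomputable def sEl (n : ℕ) : G := T.el (bv (uOf n)) (rEl (mOf n))

theorem act_uOf {n m : ℕ} (hn : n < 1024) (hm : m < 16) :
    T.act (rEl m) (bv (uOf n)) = bv (uOf n) := by
  rw [T.act_rEl hm (coord_facts hn).2.1, (inU_iff (coord_facts hn).2.1).1 (coord_facts hn).1 m hm]

theorem sEl_mul {a b : ℕ} (ha : a < 1024) (hb : b < 1024) : T.sEl a * T.sEl b = T.sEl (a ^^^ b) := by
  rw [sEl, sEl, sEl, T.el_mul, T.act_uOf hb (coord_facts ha).2.2.1,
    rEl_xor (coord_facts ha).2.2.1 (coord_facts hb).2.2.1, ← LargeFischer.bv_xor, ← uOf_xor, ← mOf_xor]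

theorem sEl_zero : T.sEl 0 = 1 := by
  rw [sEl, show uOf 0 = 0 from mapp_zero _, show mOf 0 = 0 from mapp_zero _, rEl_zero,
    LargeFischer.bv_zero, T.el_one]

theorem sEl_inj {a b : ℕ} (ha : a < 1024) (hb : b < 1024) (h : T.sEl a = T.sEl b) : a = b := by
  obtain ⟨h1, h2⟩ := T.el_inj h
  exact coord_inj ha hb (LargeFischer.bv_inj (coord_facts ha).2.1 (coord_facts hb).2.1 h1)
    (rEl_inj (coord_facts ha).2.2.1 (coord_facts hb).2.2.1 h2)

theorem sEl_sq {a : ℕ} (ha : a < 1024) : T.sEl a * T.sEl a = 1 := by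
  rw [T.sEl_mul ha ha, Nat.xor_self, T.sEl_zero]

/-- **The standard group.** -/
def std : Subgroup G where
  carrier := {g | ∃ n < 1024, g = T.sEl n}
  one_mem' := ⟨0, by norm_num, T.sEl_zero.symm⟩
  mul_mem' := by
    rintro _ _ ⟨a, ha, rfl⟩ ⟨b, hb, rfl⟩
    exact ⟨a ^^^ b, Nat.xor_lt_two_pow (n := 10) ha hb, T.sEl_mul ha hb⟩
  inv_mem' := by
    rintro _ ⟨a, ha, rfl⟩
    exact ⟨a, ha, inv_eq_of_mul_eq_one_right (T.sEl_sq ha)⟩

theorem sEl_mem {n : ℕ} (hn : n < 1024) : T.sEl n ∈ T.std := ⟨n, hn, rfl⟩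

theorem std_le : T.std ≤ T.F.nrm := by rintro _ ⟨n, -, rfl⟩; exact T.el_mem _ _

theorem card_std : Nat.card ↥T.std = 2 ^ 10 := by
  have h : Function.Bijective fun n : Fin 1024 => (⟨T.sEl n.1, T.sEl_mem n.2⟩ : ↥T.std) :=
    ⟨fun a b e => Fin.ext (T.sEl_inj a.2 b.2 (congrArg Subtype.val e)), fun ⟨g, n, hn, e⟩ =>
      ⟨⟨n, hn⟩, Subtype.ext e.symm⟩⟩
  rw [← Nat.card_eq_of_bijective _ h, Nat.card_fin]
  norm_num

theorem std_comm {a b : G} (ha : a ∈ T.std) (hb : b ∈ T.std) : a * b = b * a := by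
  obtain ⟨i, hi, rfl⟩ := ha
  obtain ⟨j, hj, rfl⟩ := hb
  rw [T.sEl_mul hi hj, T.sEl_mul hj hi, Nat.xor_comm]

theorem el_mem_std {u : ℕ} (hu : Oct.inU u = true) {m : ℕ} (hm : m < 16) :
    T.el (bv u) (rEl m) ∈ T.std := by
  obtain ⟨n, hn, e1, e2⟩ := exists_coord hu hm
  exact ⟨n, hn, by rw [sEl, e1, e2]⟩

end Sect

end Cfsg.Agent.TenLocal
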